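import Cfsg.Agent.H22.ExaA

/-! The central involution is not fused to `a`. -/

set_option autoImplicit false

namespace H22.Exa
open Subgroup Equiv H7J

set_option synthInstance.maxSize 4000 in
set_option synthInstance.maxHeartbeats 400000 in
theorem dF : ∀ a < 16, ∀ b < 16, ∀ c < 16, ∀ d < 16, lin (a, b, c, d) 15 = 3 → (∀ x < 16, lin (a, b, c, d) x = 0 → x = 0) →
    ∃ v ∈ (a, b, c, d) :: [(1, 2, 4, 8), (4, 8, 1, 2), (1, 4, 8, 2), (2, 8, 4, 1)].map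
      (fun s => comp (comp (a, b, c, d) s) (a, b, c, d)), ∃ t ∈ [(2, 1, 8, 4), (1, 4, 8, 2)],
      lin (comp t v) 15 = lin v 15 ∧ ∀ α ∈ A4, comp t v ≠ comp v α := by decide +kernel
theorem dW : Ac 1 (1, 2, 4, 8) ∧ Ac ⟨1, qj, false⟩ (4, 8, 1, 2) ∧ Ac ⟨qw, qw, false⟩ (1, 4, 8, 2) ∧
    Ac ⟨qw, qi * qw, false⟩ (2, 8, 4, 1) ∧ Ac ⟨1, qi, false⟩ (2, 1, 8, 4) := by decide +kernel

variable {G : Type*} [Group G] [Finite G] {ψ : P →* G}

def T (ψ : P →* G) (g : G) (p : P) (x : ℕ) : Prop := g * ψ p * g⁻¹ = ψ (vv x) ∧ x < 16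
def Act (ψ : P →* G) (g : G) (l : L) : Prop :=
  T ψ g (pt 1) l.1 ∧ T ψ g (pt 2) l.2.1 ∧ T ψ g (pt 3) l.2.2.1 ∧ T ψ g (pt 4) l.2.2.2

theorem exa (h : Hy ψ) : ¬ IsConj (ψ z0) (ψ a0) := by
  intro hc
  obtain ⟨c, hc⟩ := isConj_iff.1 hc
  have hE : ∀ {p q : P}, E p q ↔ ψ p = ψ q := fun {p q} => by
    constructor
    · rintro (rfl | rfl)
      · rfl
      · rw [map_mul, (h.ker k0).2 (.inr rfl), mul_one]
    · intro e
      rcases (h.ker (q⁻¹ * p)).1 (by rw [map_mul, map_inv, e, inv_mul_cancel]) with e | e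
      · exact .inl (inv_mul_eq_one.1 e).symm
      · exact .inr (inv_mul_eq_iff_eq_mul.1 e)
  obtain ⟨x1, x2, x3, x4, x5, -⟩ := dA
  have em : ∀ x < 16, ∀ y < 16, ψ (vv (x ^^^ y)) = ψ (vv x) * ψ (vv y) := fun x hx y hy => by
    rw [hE.1 (x1 x hx y hy), map_mul]
  have e0 : ψ (vv 0) = 1 := by rw [x5, map_one]
  have sq : ∀ x < 16, ψ (vv x) * ψ (vv x) = 1 := fun x hx => by rw [← em x hx x hx, Nat.xor_self, e0]
  have xl : ∀ {x y : ℕ}, x < 16 → y < 16 → x ^^^ y < 16 := fun hx hy => Nat.xor_lt_two_pow (n := 4) hx hy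
  have cm : ∀ x < 16, ∀ y < 16, ψ (vv x) * ψ (vv y) = ψ (vv y) * ψ (vv x) := fun x hx y hy => by
    rw [← em x hx y hy, ← em y hy x hx, Nat.xor_comm]
  have inj : ∀ x < 16, ∀ y < 16, ψ (vv x) = ψ (vv y) → x = y := fun x hx y hy e =>
    Nat.eq_of_xor_eq_zero (x2 _ (xl hx hy) ((h.ker _).1 (by rw [em x hx y hy, e, sq y hy])))
  have v1 : vv 1 = pt 1 := by simp [vv]
  have v2 : vv 2 = pt 2 := by simp [vv]
  have v4 : vv 4 = pt 3 := by simp [vv]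
  have v8 : vv 8 = pt 4 := by simp [vv]
  have al : ∀ {g l}, Act ψ g l → ∀ x, T ψ g (vv x) (lin l x) := fun {g l} a x => by
    have f : ∀ (b : Prop) [Decidable b] {p y}, T ψ g p y → T ψ g (if b then p else 1) (if b then y else 0) := fun b _ p y t => by
      split_ifs
      · exact t
      · exact ⟨by rw [e0, map_one, mul_one, mul_inv_cancel], by norm_num⟩
    have m : ∀ {p q y w}, T ψ g p y → T ψ g q w → T ψ g (p * q) (y ^^^ w) := fun {p q y w} s t =>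
      ⟨by rw [em _ s.2 _ t.2, ← s.1, ← t.1, map_mul]; group, xl s.2 t.2⟩
    exact m (m (m (f _ a.1) (f _ a.2.1)) (f _ a.2.2.1)) (f _ a.2.2.2)
  have ac : ∀ {g l g' l'}, Act ψ g l → Act ψ g' l' → Act ψ (g * g') (comp l l') := fun {g l g' l'} a b => by
    have f : ∀ {p y}, T ψ g' p y → T ψ (g * g') p (lin l y) := fun {p y} t =>
      ⟨by rw [← (al a y).1, ← t.1]; group, (al a y).2⟩
    exact ⟨f b.1, f b.2.1, f b.2.2.1, f b.2.2.2⟩
  have ao : ∀ {p l}, Ac p l → l ∈ A4 → Act ψ (ψ p) l := fun {p l} a b => by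
    have bd := (by decide : ∀ l ∈ A4, l.1 < 16 ∧ l.2.1 < 16 ∧ l.2.2.1 < 16 ∧ l.2.2.2 < 16) l b
    have f : ∀ {q y}, E (p * q * p⁻¹) (vv y) → y < 16 → T ψ (ψ p) q y := fun {q y} e hy =>
      ⟨by rw [← hE.1 e, map_mul, map_mul, map_inv], hy⟩
    exact ⟨v1 ▸ f a.1 bd.1, v2 ▸ f a.2.1 bd.2.1, v4 ▸ f a.2.2.1 bd.2.2.1, v8 ▸ f a.2.2.2 bd.2.2.2⟩
  let SV : Set G := (fun x => ψ (vv x)) '' {x | x < 16}
  haveI : Finite SV := ((Set.finite_lt_nat 16).image _).to_subtype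
  have nm : ∀ g : G, (∀ x < 16, ∃ d < 16, g * ψ (vv x) * g⁻¹ = ψ (vv d)) → g ∈ normalizer SV := fun g a =>
    mem_normalizer_fintype (by rintro _ ⟨x, hx, rfl⟩; obtain ⟨d, hd, e⟩ := a x hx; exact ⟨d, hd, e.symm⟩)
  have nm' : ∀ g ∈ normalizer SV, ∀ x < 16, ∃ d, T ψ g (vv x) d := fun g a x hx => by
    obtain ⟨d, hd, e⟩ := (a _).1 ⟨x, hx, rfl⟩
    exact ⟨d, e.symm, hd⟩
  have zz := hE.1 x3
  have key : ∀ {u l v l'}, Act ψ u l → Act ψ v l' → lin l 15 = lin l' 15 → ∃ α ∈ A4, l = comp l' α := fun {u l v l'} a b e => by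
    have e1 := (al a 15).1
    rw [e, ← (al b 15).1, zz] at e1
    obtain ⟨p, hp⟩ := (h.cz (v⁻¹ * u)).1 (by
      calc v⁻¹ * u * ψ z0 = v⁻¹ * (u * ψ z0 * u⁻¹) * u := by group
        _ = _ := by rw [e1]; group)
    obtain ⟨d, e2, hd⟩ := nm' _ (mul_mem (inv_mem (nm v fun x _ => ⟨_, (al b x).2, (al b x).1⟩))
      (nm u fun x _ => ⟨_, (al a x).2, (al a x).1⟩)) 1 (by norm_num)
    obtain ⟨α, hα, a2⟩ := dG p ⟨d, hd, hE.2 (by rw [← e2, ← hp, map_mul, map_mul, map_inv])⟩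
    have a3 := ac b (ao a2 hα)
    rw [hp, mul_inv_cancel_left] at a3
    have f : ∀ {q y w}, T ψ u q y → T ψ u q w → y = w := fun s t => inj _ s.2 _ t.2 (s.1.symm.trans t.1)
    exact ⟨α, hα, Prod.ext (f a.1 a3.1) (Prod.ext (f a.2.1 a3.2.1) (Prod.ext (f a.2.2.1 a3.2.2.1) (f a.2.2.2 a3.2.2.2)))⟩
  have aa : c * ψ z0 * c⁻¹ = ψ (vv 3) := hc.trans (hE.1 x4).symm
  have ex : ∀ x < 16, ∃ r, ψ r = c⁻¹ * ψ (vv x) * c := fun x hx => (h.cz _).1 (by
    calc c⁻¹ * ψ (vv x) * c * ψ z0 = c⁻¹ * (ψ (vv x) * (c * ψ z0 * c⁻¹)) * c := by group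
      _ = c⁻¹ * ((c * ψ z0 * c⁻¹) * ψ (vv x)) * c := by rw [aa, cm x hx 3 (by norm_num)]
      _ = _ := by group)
  have rr : ∀ (g : G) {r x}, x < 16 → ψ r = g⁻¹ * ψ (vv x) * g → r * r = 1 ∨ r * r = k0 := fun g {r x} hx e => (h.ker _).1 (by
    calc ψ (r * r) = g⁻¹ * (ψ (vv x) * ψ (vv x)) * g := by rw [map_mul, e]; group
      _ = 1 := by rw [sq x hx]; group)
  obtain ⟨x0, h0, r0, e0', s0⟩ : ∃ x < 16, ∃ r, ψ r = c⁻¹ * ψ (vv x) * c ∧ r.s = true := by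
    by_contra hn
    have sf : ∀ {r x}, x < 16 → ψ r = c⁻¹ * ψ (vv x) * c → r.s = false := fun {r x} hx e => by
      by_contra s
      exact hn ⟨x, hx, r, e, by simpa using s⟩
    have mu : ∀ {r x r' x'}, x < 16 → x' < 16 → ψ r = c⁻¹ * ψ (vv x) * c → ψ r' = c⁻¹ * ψ (vv x') * c →
        ψ (r * r') = c⁻¹ * ψ (vv (x ^^^ x')) * c := fun hx hx' e e' => by rw [map_mul, e, e', em _ hx _ hx']; group
    have ma : ∀ {r : P} (r' : P), r.s = false → (r * r').a = r.a * r'.a := by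
      rintro ⟨a, b, _ | _⟩ r' s
      · rfl
      · cases s
    have fin : ∀ {r x}, x < 16 → ψ r = c⁻¹ * ψ (vv x) * c → r.a = 1 ∨ r.a = -1 → x = 0 ∨ x = 3 := fun {r x} hx e a => by
      rcases ((dB r (rr c hx e)).1 (sf hx e)).2 a with b | b
      · refine .inl (inj _ hx _ (by norm_num) ?_)
        have := hE.1 b
        rw [e, map_one] at this
        rw [e0]
        calc ψ (vv x) = c * (c⁻¹ * ψ (vv x) * c) * c⁻¹ := by group
          _ = 1 := by rw [this]; group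
      · refine .inr (inj _ hx _ (by norm_num) ?_)
        rw [← aa, ← hE.1 b, e]; group
    obtain ⟨r1, e1⟩ := ex 1 (by norm_num)
    obtain ⟨r4, e4⟩ := ex 4 (by norm_num)
    obtain ⟨r8, e8⟩ := ex 8 (by norm_num)
    have o4 : ∀ {r x}, x < 16 → ψ r = c⁻¹ * ψ (vv x) * c → r.a * r.a * r.a * r.a = 1 := fun {r x} hx e =>
      ((dB r (rr c hx e)).1 (sf hx e)).1
    have e5 := mu (by norm_num) (by norm_num) e1 e4
    have e9 := mu (by norm_num) (by norm_num) e1 e8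
    have e12 := mu (by norm_num) (by norm_num) e4 e8
    have e13 := mu (by decide) (by norm_num) e5 e8
    have s1 := sf (by norm_num) e1
    have s4 := sf (by norm_num) e4
    have s5 := sf (by decide) e5
    obtain ⟨w, hw, a⟩ := dD _ (o4 (by norm_num) e1) _ (o4 (by norm_num) e4) _ (o4 (by norm_num) e8)
    simp only [List.mem_cons, List.not_mem_nil, or_false] at hw
    rcases hw with rfl | rfl | rfl | rfl | rfl | rfl | rfl
    · exact absurd (fin (by norm_num) e1 a) (by decide)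
    · exact absurd (fin (by norm_num) e4 a) (by decide)
    · exact absurd (fin (by norm_num) e8 a) (by decide)
    · exact absurd (fin (by decide) e5 (by rwa [ma _ s1])) (by decide)
    · exact absurd (fin (by decide) e9 (by rwa [ma _ s1])) (by decide)
    · exact absurd (fin (by decide) e12 (by rwa [ma _ s4])) (by decide)
    · exact absurd (fin (by decide) e13 (by rwa [ma _ s5, ma _ s1])) (by decide)
  have cw := (dB r0 (rr c h0 e0')).2.1 s0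
  generalize (⟨r0.a⁻¹, 1, false⟩ : P) = w at cw
  have wz : ∀ p, ψ p * ψ z0 = ψ z0 * ψ p := fun p => (h.cz _).2 ⟨p, rfl⟩
  have nn : (c * (ψ w)⁻¹)⁻¹ ∈ normalizer SV := nm _ fun x hx => by
    obtain ⟨r, e⟩ := ex x hx
    have e' : ψ (w * r * w⁻¹) = (c * (ψ w)⁻¹)⁻¹ * ψ (vv x) * (c * (ψ w)⁻¹) := by
      rw [map_mul, map_mul, map_inv, e]; group
    have c1 : ψ (w * r * w⁻¹) * ψ (w * r0 * w⁻¹) = ψ (w * r0 * w⁻¹) * ψ (w * r * w⁻¹) := by
      simp only [map_mul, map_inv, e, e0']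
      calc _ = ψ w * c⁻¹ * (ψ (vv x) * ψ (vv x0)) * c * (ψ w)⁻¹ := by group
        _ = _ := by rw [cm x hx x0 h0]; group
    have c2 : ψ (w * r * w⁻¹ * pt 1) = ψ (pt 1 * (w * r * w⁻¹)) := by
      rw [map_mul ψ (w * r * w⁻¹), map_mul ψ (pt 1)]
      rcases cw with b | b <;> rw [hE.1 b] at c1
      · exact c1
      · rw [map_mul ψ (pt 1), mul_assoc (ψ (pt 1)), ← wz (w * r * w⁻¹), ← mul_assoc, ← mul_assoc] at c1
        exact mul_right_cancel c1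
    obtain ⟨d, hd, b⟩ := (dB _ (rr _ hx e')).2.2 (hE.2 c2)
    exact ⟨d, hd, by rw [inv_inv, ← e', hE.1 b]⟩
  have n1 := inv_mem nn
  rw [inv_inv] at n1
  have nz : c * (ψ w)⁻¹ * ψ (vv 15) * (c * (ψ w)⁻¹)⁻¹ = ψ (vv 3) := by
    rw [zz, ← aa, mul_assoc c, ← map_inv, wz]; simp only [map_inv]; group
  generalize c * (ψ w)⁻¹ = n at n1 nz
  obtain ⟨a, ta⟩ := nm' n n1 1 (by norm_num)
  obtain ⟨b, tb⟩ := nm' n n1 2 (by norm_num)
  obtain ⟨c', tc⟩ := nm' n n1 4 (by norm_num)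
  obtain ⟨d, td⟩ := nm' n n1 8 (by norm_num)
  have an : Act ψ n (a, b, c', d) := ⟨v1 ▸ ta, v2 ▸ tb, v4 ▸ tc, v8 ▸ td⟩
  obtain ⟨v, hv, t, ht, e1, e2⟩ := dF a ta.2 b tb.2 c' tc.2 d td.2
    (inj _ (al an 15).2 _ (by norm_num) ((al an 15).1.symm.trans nz)) fun x hx e => inj _ hx _ (by norm_num) (by
      have := (al an x).1
      rw [e, e0] at this
      rw [e0]
      calc ψ (vv x) = n⁻¹ * (n * ψ (vv x) * n⁻¹) * n := by group
        _ = 1 := by rw [this]; group)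
  obtain ⟨w1, w2, w3, w4, w5⟩ := dW
  have w1 := ao w1 (by decide)
  have w2 := ao w2 (by decide)
  have w3 := ao w3 (by decide)
  have w4 := ao w4 (by decide)
  have w5 := ao w5 (by decide)
  obtain ⟨g, ag⟩ : ∃ g, Act ψ g v := by
    simp only [List.map_cons, List.map_nil, List.mem_cons, List.not_mem_nil, or_false] at hv
    rcases hv with rfl | rfl | rfl | rfl | rfl
    exacts [⟨_, an⟩, ⟨_, ac (ac an w1) an⟩, ⟨_, ac (ac an w2) an⟩, ⟨_, ac (ac an w3) an⟩, ⟨_, ac (ac an w4) an⟩]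
  obtain ⟨k, ak⟩ : ∃ k, Act ψ k t := by
    simp only [List.mem_cons, List.not_mem_nil, or_false] at ht
    rcases ht with rfl | rfl
    exacts [⟨_, w5⟩, ⟨_, w3⟩]
  obtain ⟨α, hα, e⟩ := key (ac ak ag) ag e1
  exact e2 α hα e

end H22.Exa
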