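import Cfsg.Agent.H7.Jh

/-! Finite computations in `SL2(3) wr 2`. -/

set_option autoImplicit false

namespace H22.Exa
open Subgroup Equiv H7J

def vv (c : ℕ) : P := (if c % 2 = 1 then pt 1 else 1) * (if c / 2 % 2 = 1 then pt 2 else 1) *
  (if c / 4 % 2 = 1 then pt 3 else 1) * (if c / 8 % 2 = 1 then pt 4 else 1)
abbrev E (p q : P) : Prop := p = q ∨ p = q * k0
abbrev L := ℕ × ℕ × ℕ × ℕ
def lin (l : L) (c : ℕ) : ℕ := (if c % 2 = 1 then l.1 else 0) ^^^ (if c / 2 % 2 = 1 then l.2.1 else 0) ^^^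
  (if c / 4 % 2 = 1 then l.2.2.1 else 0) ^^^ (if c / 8 % 2 = 1 then l.2.2.2 else 0)
def comp (l m : L) : L := (lin l m.1, lin l m.2.1, lin l m.2.2.1, lin l m.2.2.2)
def A4 : List L := [(1, 2, 4, 8), (1, 4, 8, 2), (1, 8, 2, 4), (2, 1, 8, 4), (2, 4, 1, 8), (2, 8, 4, 1), (4, 1, 2, 8),
  (4, 2, 8, 1), (4, 8, 1, 2), (8, 1, 4, 2), (8, 2, 1, 4), (8, 4, 2, 1)]
abbrev Ac (p : P) (l : L) : Prop := E (p * vv 1 * p⁻¹) (vv l.1) ∧ E (p * vv 2 * p⁻¹) (vv l.2.1) ∧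
  E (p * vv 4 * p⁻¹) (vv l.2.2.1) ∧ E (p * vv 8 * p⁻¹) (vv l.2.2.2)

theorem dA : (∀ x < 16, ∀ y < 16, E (vv (x ^^^ y)) (vv x * vv y)) ∧ (∀ x < 16, vv x = 1 ∨ vv x = k0 → x = 0) ∧
    E (vv 15) z0 ∧ E (vv 3) a0 ∧ vv 0 = 1 ∧ vv 1 = pt 1 := by decide +kernel
theorem dB : ∀ r : P, r * r = 1 ∨ r * r = k0 → (r.s = false → r.a * r.a * r.a * r.a = 1 ∧ (r.a = 1 ∨ r.a = -1 → E r 1 ∨ E r z0)) ∧
    (r.s = true → E (⟨r.a⁻¹, 1, false⟩ * r * ⟨r.a⁻¹, 1, false⟩⁻¹) (pt 1) ∨ E (⟨r.a⁻¹, 1, false⟩ * r * ⟨r.a⁻¹, 1, false⟩⁻¹) (pt 1 * z0)) ∧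
    (E (r * pt 1) (pt 1 * r) → ∃ c < 16, E r (vv c)) := by decide +kernel
theorem dD : ∀ x : S, x * x * x * x = 1 → ∀ y : S, y * y * y * y = 1 → ∀ w : S, w * w * w * w = 1 →
    ∃ r ∈ [x, y, w, x * y, x * w, y * w, x * y * w], r = 1 ∨ r = -1 := by decide +kernel
theorem dG : ∀ p : P, (∃ d < 16, E (p * vv 1 * p⁻¹) (vv d)) → ∃ α ∈ A4, Ac p α := by decide +kernel

end H22.Exa
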