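import Cfsg.Agent.H22.IsoF

/-! Involutions of orthogonal groups in characteristic two. -/

set_option autoImplicit false

namespace H22

open Module H23 H23.Form Matrix Cfsg

section
variable {F V : Type*} [Field F] [AddCommGroup V] [Module F V] {Φ : Form (RingHom.id F) V}

/-- the image of `g - 1` -/
abbrev imSp (g : Φ.O) : Submodule F V := LinearMap.range (g.1.toLinearMap - LinearMap.id)

theorem finrank_imSp_add [FiniteDimensional F V] (g : Φ.O) :
    finrank F (imSp g) + finrank F (fixSp g) = finrank F V := by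
  rw [← LinearMap.finrank_range_add_finrank_ker (g.1.toLinearMap - (LinearMap.id : V →ₗ[F] V)),
    show fixSp g = LinearMap.ker (g.1.toLinearMap - (LinearMap.id : V →ₗ[F] V)) by
      ext x; simp [mem_fixSp, sub_eq_zero]]

theorem imSp_conj (g t : Φ.O) : imSp (g * t * g⁻¹) = (imSp t).map g.1.toLinearMap := by
  ext x
  constructor
  · rintro ⟨y, rfl⟩
    exact ⟨_, ⟨(g⁻¹).1 y, rfl⟩, by simp⟩
  · rintro ⟨_, ⟨y, rfl⟩, rfl⟩
    exact ⟨g.1 y, by simp⟩

theorem imSp_le_fixSp (h2 : (2 : F) = 0) {t : Φ.O} (ht : t * t = 1) : imSp t ≤ fixSp t := by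
  rintro _ ⟨y, rfl⟩
  have h : t.1 (t.1 y) = y := congrArg (fun g : Φ.O => g.1 y) ht
  have h' : ∀ x : V, -x = x := fun x => by
    rw [neg_eq_iff_add_eq_zero, ← two_smul F, h2, zero_smul]
  simp [mem_fixSp, h, sub_eq_add_neg, h', add_comm]

variable [Finite F] [FiniteDimensional F V] (hΦ : Φ.Nondeg) (hκ : Φ.κ = 1) (hg : GenHyp Φ)
  (h2 : (2 : F) = 0)
include hΦ hκ hg h2

theorem mem_omega_iff_even_imSp (g : Φ.O) :
    g ∈ commutator Φ.O ↔ Even (finrank F (imSp g)) := by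
  rw [commutator_eq_ker_dickson hΦ hκ hg (isSquare_of_two_eq_zero h2), MonoidHom.mem_ker,
    dickson_apply, neg_one_pow_eq_one_iff_even (by decide), ← finrank_imSp_add g]
  grind

theorem exists_omega_conj {t : Φ.O} (ht : t * t = 1) (g : Φ.O)
    (h : ¬ (2 * finrank F (imSp t) = finrank F V ∧ ∀ v ∈ imSp t, Φ.Q v = 0)) :
    ∃ k ∈ commutator Φ.O, k * t * k⁻¹ = g * t * g⁻¹ := by
  obtain ⟨v, hv, h0⟩ : ∃ v ∈ fixSp t, Φ.Q v ≠ 0 := by
    by_contra! H
    have h1 : fixSp t ≤ imSp t := by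
      rw [imSp, ← perp_fixSp hΦ]
      intro u hu w hw
      simpa [H _ hu, H _ hw, H _ (add_mem hw hu)] using (Q_add_quad hκ w u).symm
    have h3 := le_antisymm h1 (imSp_le_fixSp h2 ht)
    exact h ⟨by rw [← finrank_imSp_add t, h3, two_mul], h3 ▸ H⟩
  by_cases hg' : g ∈ commutator Φ.O
  · exact ⟨g, hg', rfl⟩
  rw [commutator_eq_ker_dickson hΦ hκ hg (isSquare_of_two_eq_zero h2)] at hg' ⊢
  refine ⟨g * refl hκ v, ?_, ?_⟩
  · rw [MonoidHom.mem_ker, map_mul, dickson_refl hΦ hκ hg h0,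
      (Int.units_eq_one_or _).resolve_left hg']; rfl
  · have := conj_refl hκ t v
    rw [mem_fixSp.mp hv, mul_inv_eq_iff_eq_mul] at this
    rw [mul_assoc g, ← this]; group

theorem conj_mem_omega_iff {t : Φ.O} (ht : t ∈ commutator Φ.O) (g : Φ.O)
    (h : 2 * finrank F (imSp t) = finrank F V) (h' : ∀ v ∈ imSp t, Φ.Q v = 0) :
    g ∈ commutator Φ.O ↔ Even (finrank F (imSp t ⊓ imSp (g * t * g⁻¹) : Submodule F V)) := by
  have h1 := (mem_omega_iff_even_imSp hΦ hκ hg h2 t).mp ht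
  rw [commutator_eq_ker_dickson hΦ hκ hg (isSquare_of_two_eq_zero h2), MonoidHom.mem_ker,
    dickson_eq_one_iff_even hΦ hκ hg (U := imSp t) ⟨fun w hw u hu => by
      simpa [h' _ hu, h' _ hw, h' _ (add_mem hw hu)] using (Q_add_quad hκ w u).symm, h'⟩ h.symm rfl,
    imSp_conj, Nat.even_sub (Submodule.finrank_mono inf_le_left)]
  simp [h1]

end

variable {F : Type*} [Field F] {ι : Type} [Fintype ι] [DecidableEq ι] {Q : QuadraticForm F (ι → F)}

theorem range_sub_one (t : isometryGroup F Q) :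
    LinearMap.range (toLin' (t.1.1 - 1)) = imSp (isomEquiv Q t) := by
  rw [map_sub, toLin'_one, toLin'_apply', mulVecLin_eq]

theorem rank_sub_one (t : isometryGroup F Q) :
    (t.1.1 - 1).rank = finrank F (imSp (isomEquiv Q t)) := by
  rw [← range_sub_one]; rfl

theorem forall_imSp_iff [CharP F 2] (t : isometryGroup F Q) :
    (∀ v ∈ imSp (isomEquiv Q t), (ofQuad Q).Q v = 0) ↔ ∀ v, Q (v + t.1.1 *ᵥ v) = 0 := by
  simp only [← range_sub_one, LinearMap.mem_range, forall_exists_index, forall_apply_eq_imp_iff,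
    toLin'_apply, sub_mulVec, one_mulVec, ofQuad_Q]
  exact forall_congr' fun v => by
    rw [show t.1.1 *ᵥ v - v = v + t.1.1 *ᵥ v from funext fun i => by
      simp [CharTwo.sub_eq_add, add_comm]]

theorem exists_omega_conj_iff (t s : isometryGroup F Q) : (∃ g ∈ Omega F Q, g * t * g⁻¹ = s) ↔
    ∃ k ∈ commutator (ofQuad Q).O, k * isomEquiv Q t * k⁻¹ = isomEquiv Q s := by
  rw [(isomEquiv Q).surjective.exists]
  simp only [mem_Omega_iff, ← map_inv, ← map_mul, (isomEquiv Q).injective.eq_iff]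

variable [Finite F] [CharP F 2] (hQ : (ofQuad Q).Nondeg) (hg : GenHyp (ofQuad Q))
include hQ hg

theorem mem_Omega_iff_even_rank (t : isometryGroup F Q) :
    t ∈ Omega F Q ↔ Even (t.1.1 - 1).rank := by
  rw [mem_Omega_iff, mem_omega_iff_even_imSp hQ rfl hg CharTwo.two_eq_zero, rank_sub_one]

theorem exists_Omega_conj {t s : isometryGroup F Q} (ht : orderOf t = 2) (hc : IsConj t s)
    (h : ¬ (2 * finrank F (imSp (isomEquiv Q t)) = finrank F (ι → F) ∧
      ∀ v ∈ imSp (isomEquiv Q t), Q v = 0)) : ∃ g ∈ Omega F Q, g * t * g⁻¹ = s := by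
  obtain ⟨g, rfl⟩ := isConj_iff.mp hc
  rw [exists_omega_conj_iff, map_mul, map_mul, map_inv]
  exact exists_omega_conj hQ rfl hg CharTwo.two_eq_zero
    (by rw [← map_mul, ← sq, ← ht, pow_orderOf_eq_one, map_one]) _ h

theorem exists_Omega_conj_iff {t s : isometryGroup F Q} (ht : t ∈ Omega F Q) (hc : IsConj t s)
    (h : 2 * (t.1.1 - 1).rank = finrank F (ι → F)) (h' : ∀ v, Q (v + t.1.1 *ᵥ v) = 0) :
    (∃ g ∈ Omega F Q, g * t * g⁻¹ = s) ↔ Even (finrank F (LinearMap.range (toLin' (t.1.1 - 1)) ⊓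
      LinearMap.range (toLin' (s.1.1 - 1)) : Submodule F _)) := by
  obtain ⟨g, rfl⟩ := isConj_iff.mp hc
  have key := fun k => conj_mem_omega_iff hQ rfl hg CharTwo.two_eq_zero (mem_Omega_iff.mp ht) k
    (rank_sub_one t ▸ h) ((forall_imSp_iff t).mpr h')
  rw [exists_omega_conj_iff, range_sub_one, range_sub_one, map_mul, map_mul, map_inv]
  exact ⟨fun ⟨k, h1, h3⟩ => h3 ▸ (key k).mp h1, fun H => ⟨_, (key _).mpr H, rfl⟩⟩

end H22
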