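import Cfsg.Agent.H17.Rep
import Cfsg.Agent.H22.MdA

/-!
General tools for lower bounds on the degrees of complex representations: weight spaces of
commuting families, Heisenberg-type bound, irreducibility from the commutant, positivity and
integrality of traces.
-/

set_option autoImplicit false

namespace H22.Ls

open Module

section AddCh

variable {F : Type*} [Field F] [Finite F]

/-- every additive character is a shift of a given non-trivial one -/
theorem exists_shift {ψ : AddChar F ℂ} (hψ : ∃ a, ψ a ≠ 1) {f : F → ℂ} (h0 : f 0 = 1)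
    (h : ∀ x y, f (x + y) = f x * f y) : ∃ b, ∀ x, f x = ψ (b * x) := by
  classical
  have := Fintype.ofFinite F
  have h1 : ψ ≠ 1 := fun e => by obtain ⟨a, ha⟩ := hψ; simp [e] at ha
  have hinj := AddChar.to_mulShift_inj_of_isPrimitive (AddChar.IsPrimitive.of_ne_one h1)
  have hb : Function.Bijective ψ.mulShift :=
    (Fintype.bijective_iff_injective_and_card _).2 ⟨hinj, by rw [AddChar.card_eq]⟩
  obtain ⟨b, hb⟩ := hb.2 ⟨f, h0, h⟩
  exact ⟨b, fun x => by simpa using (DFunLike.congr_fun hb x).symm⟩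

omit [Finite F] in
theorem shift_inj {ψ : AddChar F ℂ} (hψ : ∃ a, ψ a ≠ 1) {a b : F}
    (h : ∀ x, ψ (a * x) = ψ (b * x)) : a = b := by
  refine sub_eq_zero.1 (eq_zero_of_addChar hψ fun t => ?_)
  rw [mul_sub, AddChar.map_sub_eq_div, mul_comm t, mul_comm t, h, div_self]
  intro e
  have := ψ.map_add_eq_mul (b * t) (-(b * t))
  simp [e] at this

end AddCh

variable {G W : Type*} [Group G] [AddCommGroup W] [Module ℂ W] (ρ : Representation ℂ G W)

theorem rep_mul (x y : G) (w : W) : ρ x (ρ y w) = ρ (x * y) w := by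
  rw [map_mul]; rfl

/-- weight space -/
def wt (A : Set G) (χ : G → ℂ) : Submodule ℂ W where
  carrier := {w | ∀ a ∈ A, ρ a w = χ a • w}
  zero_mem' := by simp
  add_mem' := by
    intro x y hx hy a ha
    rw [map_add, hx a ha, hy a ha, smul_add]
  smul_mem' := by
    intro c x hx a ha
    rw [map_smul, hx a ha, smul_comm]

variable {ρ}

theorem mem_wt {A : Set G} {χ : G → ℂ} {w : W} : w ∈ wt ρ A χ ↔ ∀ a ∈ A, ρ a w = χ a • w :=
  Iff.rfl

theorem wt_mul {A : Set G} {χ : G → ℂ} (h : wt ρ A χ ≠ ⊥) {a b : G} (ha : a ∈ A) (hb : b ∈ A)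
    (hab : a * b ∈ A) : χ (a * b) = χ a * χ b := by
  obtain ⟨w, hw, h0⟩ := Submodule.exists_mem_ne_zero_of_ne_bot h
  apply smul_left_injective ℂ h0
  simp only
  rw [← hw _ hab, ← rep_mul, hw b hb, map_smul, hw a ha, smul_smul, mul_comm]

theorem wt_one {A : Set G} {χ : G → ℂ} (h : wt ρ A χ ≠ ⊥) (h1 : (1 : G) ∈ A) : χ 1 = 1 := by
  obtain ⟨w, hw, h0⟩ := Submodule.exists_mem_ne_zero_of_ne_bot h
  apply smul_left_injective ℂ h0
  simp only
  rw [← hw _ h1]; simp

theorem mem_wt_conj {A : Set G} {χ : G → ℂ} {w : W} (hw : w ∈ wt ρ A χ) {g : G}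
    (hg : ∀ a ∈ A, g⁻¹ * a * g ∈ A) : ρ g w ∈ wt ρ A fun a => χ (g⁻¹ * a * g) := by
  intro a ha
  rw [← map_smul, ← hw _ (hg a ha), rep_mul, rep_mul]
  congr 2
  group

theorem wt_conj {A : Set G} {χ : G → ℂ} (h : wt ρ A χ ≠ ⊥) {g : G}
    (hg : ∀ a ∈ A, g⁻¹ * a * g ∈ A) : (wt ρ A fun a => χ (g⁻¹ * a * g)) ≠ ⊥ := by
  obtain ⟨w, hw, h0⟩ := Submodule.exists_mem_ne_zero_of_ne_bot h
  refine (Submodule.ne_bot_iff _).2 ⟨ρ g w, mem_wt_conj hw hg, fun e => h0 ?_⟩
  have := congrArg (ρ g⁻¹) e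
  rwa [rep_mul, inv_mul_cancel, map_one, map_zero] at this

theorem mem_wt_of_comm {A : Set G} {χ : G → ℂ} {w : W} (hw : w ∈ wt ρ A χ) {g : G}
    (hg : ∀ a ∈ A, a * g = g * a) : ρ g w ∈ wt ρ A χ := by
  intro a ha
  rw [← map_smul, ← hw _ ha, rep_mul, rep_mul, hg a ha]

theorem wt_indep {A : Set G} {ι : Type*} (χ : ι → G → ℂ) (T : Finset ι)
    (h : ∀ i ∈ T, ∀ j ∈ T, (∀ a ∈ A, χ i a = χ j a) → i = j) (w : ι → W)
    (hw : ∀ i ∈ T, w i ∈ wt ρ A (χ i)) (h0 : ∑ i ∈ T, w i = 0) : ∀ i ∈ T, w i = 0 := by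
  classical
  induction T using Finset.induction_on generalizing w with
  | empty => simp
  | insert j T hj ih =>
    rw [Finset.sum_insert hj] at h0
    have key : ∀ i ∈ T, w i = 0 := by
      intro i hi
      obtain ⟨a, ha, hne⟩ : ∃ a ∈ A, χ i a ≠ χ j a := by
        by_contra hc
        push Not at hc
        exact hj (h i (by simp [hi]) j (by simp) hc ▸ hi)
      have h1 := ih (fun i hi k hk => h i (by simp [hi]) k (by simp [hk]))
        (fun k => (χ k a - χ j a) • w k)
        (fun k hk => Submodule.smul_mem _ _ (hw k (by simp [hk]))) (by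
          have h2 := congrArg (ρ a) h0
          rw [map_add, map_sum, map_zero, hw j (by simp) a ha,
            Finset.sum_congr rfl fun k hk => hw k (by simp [hk]) a ha] at h2
          simp only [sub_smul, Finset.sum_sub_distrib, ← Finset.smul_sum]
          rw [eq_neg_of_add_eq_zero_right h0, eq_neg_of_add_eq_zero_right h2]
          simp) i hi
      exact (smul_eq_zero.1 h1).resolve_left (sub_ne_zero.2 hne)
    rw [Finset.sum_eq_zero key, add_zero] at h0
    simpa [h0] using key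

theorem sum_wt_le [FiniteDimensional ℂ W] {A : Set G} {ι : Type*} (χ : ι → G → ℂ) (T : Finset ι)
    (h : ∀ i ∈ T, ∀ j ∈ T, (∀ a ∈ A, χ i a = χ j a) → i = j) :
    ∑ i ∈ T, finrank ℂ (wt ρ A (χ i)) ≤ finrank ℂ W := by
  classical
  let f : (∀ i : T, wt ρ A (χ i)) →ₗ[ℂ] W :=
    ∑ i : T, (wt ρ A (χ i)).subtype ∘ₗ LinearMap.proj i
  have hf : Function.Injective f := by
    rw [← LinearMap.ker_eq_bot, eq_bot_iff]
    intro x hx
    have hx' : ∑ i : T, (x i : W) = 0 := by simpa [f, LinearMap.sum_apply] using hx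
    have := wt_indep (ρ := ρ) (A := A) (fun i : T => χ i) Finset.univ
      (fun i _ j _ e => Subtype.ext (h i i.2 j j.2 e)) (fun i => x i) (fun i _ => (x i).2) hx'
    exact funext fun i => Subtype.ext (this i (Finset.mem_univ _))
  have := LinearMap.finrank_le_finrank_of_injective hf
  rwa [Module.finrank_pi_fintype, Finset.sum_coe_sort T fun i => finrank ℂ (wt ρ A (χ i))] at this

/-- `r` times the number of distinguishable weights is at most the degree -/
theorem mul_ncard_le [FiniteDimensional ℂ W] {A : Set G} {ι : Type*} {S : Set ι} (hS : S.Finite)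
    (R : ι → (G → ℂ) → Prop) {r : ℕ} (h1 : ∀ i ∈ S, ∃ χ, R i χ ∧ r ≤ finrank ℂ (wt ρ A χ))
    (h2 : ∀ i j χ χ', R i χ → R j χ' → (∀ a ∈ A, χ a = χ' a) → i = j) :
    r * S.ncard ≤ finrank ℂ W := by
  classical
  choose! χ h1 h3 using h1
  refine le_trans ?_ (sum_wt_le (ρ := ρ) (A := A) χ hS.toFinset fun i hi j hj e =>
    h2 i j _ _ (h1 i (by simpa using hi)) (h1 j (by simpa using hj)) e)
  rw [Set.ncard_eq_toFinset_card S hS, mul_comm, ← smul_eq_mul, ← Finset.sum_const]
  exact Finset.sum_le_sum fun i hi => h3 i (by simpa using hi)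

theorem exists_wt [FiniteDimensional ℂ W] (A : Subgroup G) [Finite A]
    (hA : ∀ a ∈ A, ∀ b ∈ A, a * b = b * a) {a : G} (ha : a ∈ A) (h : ρ a ≠ 1) :
    ∃ χ, wt ρ A χ ≠ ⊥ ∧ χ a ≠ 1 := by
  classical
  let σ : Representation ℂ A W := ρ.comp A.subtype
  let U : Subrepresentation σ := ⟨LinearMap.range (ρ a - 1), by
    rintro g _ ⟨x, rfl⟩
    refine ⟨ρ g x, ?_⟩
    simp only [σ, LinearMap.sub_apply, Module.End.one_apply, MonoidHom.comp_apply,
      Subgroup.subtype_apply, map_sub, rep_mul, hA a ha g g.2]⟩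
  have : Nontrivial U.toSubmodule := by
    rw [Submodule.nontrivial_iff_ne_bot]
    exact fun e => h (sub_eq_zero.1 (LinearMap.range_eq_bot.1 e))
  obtain ⟨S, hS⟩ := H17.exists_irreducible_subrep U.toRepresentation
  have hc : ∀ b : A, ∃ c : ℂ, S.toRepresentation b = c • LinearMap.id := fun b =>
    H17.schur_scalar _ _ fun g => by
      rw [← Module.End.mul_eq_comp, ← Module.End.mul_eq_comp, ← map_mul, ← map_mul]
      congr 1
      exact Subtype.ext (hA _ b.2 _ g.2)
  choose c hc using hc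
  have := H17.nontrivial_of_isIrreducible S.toRepresentation
  obtain ⟨w, hw⟩ := exists_ne (0 : S.toSubmodule)
  have hw1 : ∀ b : A, ρ b (w.1.1 : W) = c b • (w.1.1 : W) := fun b =>
    congrArg (fun z : S.toSubmodule => (z.1.1 : W)) (LinearMap.congr_fun (hc b) w)
  have hw0 : (w.1.1 : W) ≠ 0 := fun e => hw (Subtype.ext (Subtype.ext e))
  refine ⟨fun g => if hg : g ∈ A then c ⟨g, hg⟩ else 0, (Submodule.ne_bot_iff _).2
    ⟨w.1.1, fun g hg => ?_, hw0⟩, ?_⟩
  · simp only [dif_pos (show g ∈ A from hg)]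
    exact hw1 ⟨g, hg⟩
  · simp only [dif_pos ha]
    intro e
    obtain ⟨x, hx⟩ := w.1.2
    have h1 : ρ a (w.1.1 : W) = w.1.1 := by simpa [e] using hw1 ⟨a, ha⟩
    have h2 : ∀ n : ℕ, ρ (a ^ n) x = x + (n : ℂ) • (w.1.1 : W) := by
      intro n
      induction n with
      | zero => simp
      | succ n ih =>
        rw [pow_succ', ← rep_mul, ih, map_add, map_smul, h1, Nat.cast_succ, add_smul, one_smul,
          ← hx]
        simp only [LinearMap.sub_apply, Module.End.one_apply]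
        abel
    have h3 := h2 (Nat.card A)
    rw [show a ^ Nat.card A = 1 from congrArg Subtype.val (pow_card_eq_one' (x := (⟨a, ha⟩ : A)))]
      at h3
    simp [hw0, Nat.card_pos.ne'] at h3

theorem card_le_of_trace {K W ι : Type*} [Field K] [CharZero K] [AddCommGroup W] [Module K W]
    [FiniteDimensional K W] [Nontrivial W] [Finite ι] (T S : ι → Module.End K W)
    (h1 : ∀ i, S i * T i = 1) (h2 : ∀ i j, i ≠ j → LinearMap.trace K W (S i * T j) = 0) :
    Nat.card ι ≤ finrank K W ^ 2 := by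
  classical
  have := Fintype.ofFinite ι
  have hli : LinearIndependent K T := by
    rw [Fintype.linearIndependent_iff]
    intro c hc i
    have := congrArg (fun x => LinearMap.trace K W (S i * x)) hc
    simp only [Finset.mul_sum, map_sum, mul_smul_comm, map_smul, mul_zero, map_zero] at this
    rw [Finset.sum_eq_single i (fun j _ hj => by rw [h2 i j hj.symm, smul_zero]) (by simp), h1,
      LinearMap.trace_one] at this
    simpa [Module.finrank_pos.ne'] using this
  have := hli.fintype_card_le_finrank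
  rwa [Module.finrank_linearMap, ← sq, ← Nat.card_eq_fintype_card] at this

/-- Heisenberg bound -/
theorem card_le_sq [FiniteDimensional ℂ W] {U : Submodule ℂ W} (hU : U ≠ ⊥) (P : Subgroup G)
    (hP : ∀ g ∈ P, ∀ w ∈ U, ρ g w ∈ U) {ι : Type*} [Finite ι] (x : ι → G) (hx : ∀ i, x i ∈ P)
    (h : ∀ i j, i ≠ j → ∃ y ∈ P, ∃ z ∈ P, ∃ c : ℂ, c ≠ 1 ∧ (∀ w ∈ U, ρ z w = c • w) ∧
      y * ((x i)⁻¹ * x j) * y⁻¹ = (x i)⁻¹ * x j * z) : Nat.card ι ≤ finrank ℂ U ^ 2 := by
  let S : Subrepresentation (ρ.comp P.subtype : Representation ℂ P W) :=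
    ⟨U, fun g w hw => hP g g.2 w hw⟩
  have : Nontrivial S.toSubmodule := Submodule.nontrivial_iff_ne_bot.2 hU
  refine card_le_of_trace (W := S.toSubmodule) (fun i => S.toRepresentation ⟨x i, hx i⟩)
    (fun i => S.toRepresentation (⟨x i, hx i⟩ : P)⁻¹) (fun i => by rw [← map_mul]; simp) ?_
  intro i j hij
  obtain ⟨y, hy, z, hz, c, hc, h1, h2⟩ := h i j hij
  rw [← map_mul]
  set u : P := (⟨x i, hx i⟩ : P)⁻¹ * ⟨x j, hx j⟩
  have h3 : (⟨y, hy⟩ : P) * u * (⟨y, hy⟩ : P)⁻¹ = u * ⟨z, hz⟩ := Subtype.ext h2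
  have h4 : S.toRepresentation ⟨z, hz⟩ = c • 1 := LinearMap.ext fun w => Subtype.ext (h1 w w.2)
  have h5 := congrArg (fun g => LinearMap.trace ℂ _ (S.toRepresentation g)) h3
  simp only [map_mul] at h5
  rw [LinearMap.trace_mul_comm, ← mul_assoc, ← map_mul, inv_mul_cancel, map_one, one_mul, h4,
    mul_smul_comm, mul_one, map_smul, smul_eq_mul] at h5
  exact (mul_left_eq_self₀.1 h5.symm).resolve_left hc

theorem ne_one_of_irr [FiniteDimensional ℂ W] (h : ρ.IsIrreducible) (h2 : 2 ≤ finrank ℂ W) :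
    ¬ ∀ g, ρ g = 1 := by
  intro h1
  obtain ⟨hn, h⟩ := (H17.isIrreducible_iff ρ).1 h
  obtain ⟨w, hw⟩ := exists_ne (0 : W)
  rcases h (ℂ ∙ w) (fun g v hv => by simpa [h1] using hv) with e | e
  · exact hw (by simpa using e)
  · have := finrank_span_singleton (K := ℂ) hw
    rw [e, finrank_top] at this
    omega

theorem not_comm_of_irr [FiniteDimensional ℂ W] (h : ρ.IsIrreducible) (h2 : 2 ≤ finrank ℂ W) :
    ¬ ∀ g g', ρ g * ρ g' = ρ g' * ρ g := by
  intro h1
  choose c hc using fun g => H17.schur_scalar ρ (ρ g) (h1 g)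
  obtain ⟨hn, h⟩ := (H17.isIrreducible_iff ρ).1 h
  obtain ⟨w, hw⟩ := exists_ne (0 : W)
  rcases h (ℂ ∙ w) (fun g v hv => by simpa [hc] using Submodule.smul_mem _ _ hv) with e | e
  · exact hw (by simpa using e)
  · have := finrank_span_singleton (K := ℂ) hw
    rw [e, finrank_top] at this
    omega

theorem irr_of_commutant [Finite G] [Nontrivial W]
    (h : ∀ T : Module.End ℂ W, (∀ g, T * ρ g = ρ g * T) → ∃ c : ℂ, T = c • 1) :
    ρ.IsIrreducible := by
  have : NeZero (Nat.card G : ℂ) := ⟨Nat.cast_ne_zero.2 Nat.card_pos.ne'⟩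
  refine (H17.isIrreducible_iff ρ).2 ⟨inferInstance, fun S hS => ?_⟩
  let S' : Subrepresentation ρ := ⟨S, fun g v hv => hS g v hv⟩
  obtain ⟨T, hT⟩ := exists_isCompl S'
  have hc : IsCompl S T.toSubmodule := H17.subrep_isCompl hT
  obtain ⟨c, hc1⟩ := h (S.subtype ∘ₗ S.projectionOnto _ hc) fun g => by
    ext x
    obtain ⟨y, hy, z, hz, rfl⟩ := Submodule.mem_sup.1 (hc.sup_eq_top ▸ Submodule.mem_top (x := x))
    have h1 : ∀ y ∈ S, ∀ z ∈ T.toSubmodule, (S.projectionOnto _ hc (y + z) : W) = y := by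
      intro y hy z hz
      rw [map_add, Submodule.projectionOnto_apply_of_mem_left hc hy,
        (Submodule.projectionOnto_apply_eq_zero_iff hc).2 hz, add_zero]
    simp only [Module.End.mul_apply, LinearMap.comp_apply, Submodule.subtype_apply]
    rw [h1 y hy z hz, map_add (ρ g), h1 _ (hS g y hy) _ (T.apply_mem_toSubmodule g hz)]
  by_cases h0 : S = ⊥
  · exact Or.inl h0
  right
  obtain ⟨w, hw, hw0⟩ := Submodule.exists_mem_ne_zero_of_ne_bot h0
  have h2 := LinearMap.congr_fun hc1 w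
  simp only [LinearMap.comp_apply, Submodule.subtype_apply,
    Submodule.projectionOnto_apply_of_mem_left hc hw, LinearMap.smul_apply,
    Module.End.one_apply] at h2
  have h3 : c = 1 := smul_left_injective ℂ hw0 (by simpa using h2.symm)
  rw [eq_top_iff]
  intro x _
  have h4 := LinearMap.congr_fun hc1 x
  simp only [LinearMap.comp_apply, Submodule.subtype_apply, h3, one_smul,
    Module.End.one_apply] at h4
  rw [← h4]
  exact Subtype.property _

theorem exists_irr_fin [FiniteDimensional ℂ W] (h : ρ.IsIrreducible) {k : ℕ}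
    (hk : finrank ℂ W = k) : ∃ ρ' : Representation ℂ G (Fin k → ℂ), ρ'.IsIrreducible :=
  ⟨_, H17.isIrreducible_of_equiv (H17.transportEquiv ρ
    (LinearEquiv.ofFinrankEq W (Fin k → ℂ) (by simpa using hk))) h⟩

/-- a subrepresentation with an equivariant projection, on which the commutant acts by scalars -/
theorem exists_irr_sub [Finite G] [FiniteDimensional ℂ W] {U : Submodule ℂ W} (h0 : U ≠ ⊥)
    (hU : ∀ g, ∀ w ∈ U, ρ g w ∈ U) (p : W →ₗ[ℂ] W) (hp : LinearMap.IsProj U p)
    (hpg : ∀ g, p * ρ g = ρ g * p)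
    (h : ∀ T : Module.End ℂ W, (∀ g, T * ρ g = ρ g * T) → ∃ c : ℂ, ∀ w ∈ U, T w = c • w) {k : ℕ}
    (hk : finrank ℂ U = k) : ∃ ρ' : Representation ℂ G (Fin k → ℂ), ρ'.IsIrreducible := by
  let S : Subrepresentation ρ := ⟨U, fun g v hv => hU g v hv⟩
  have : Nontrivial S.toSubmodule := Submodule.nontrivial_iff_ne_bot.2 h0
  refine exists_irr_fin (ρ := S.toRepresentation) (irr_of_commutant fun T hT => ?_) hk
  obtain ⟨c, hc⟩ := h (U.subtype ∘ₗ T ∘ₗ hp.codRestrict) fun g => by
    ext x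
    have h1 : hp.codRestrict (ρ g x) = S.toRepresentation g (hp.codRestrict x) :=
      Subtype.ext (LinearMap.congr_fun (hpg g) x)
    simp only [Module.End.mul_apply, LinearMap.comp_apply, Submodule.subtype_apply, h1]
    exact congrArg Subtype.val (LinearMap.congr_fun (hT g) (hp.codRestrict x))
  refine ⟨c, LinearMap.ext fun w => Subtype.ext ?_⟩
  have h2 := hc w w.2
  simp only [LinearMap.comp_apply, Submodule.subtype_apply] at h2
  rwa [hp.codRestrict_apply_cod] at h2

variable (ρ) in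
/-- self-adjoint for all invariant hermitian forms -/
def SA (X : Module.End ℂ W) : Prop :=
  ∀ b : W →ₗ⋆[ℂ] W →ₗ[ℂ] ℂ, (∀ g x y, b (ρ g x) (ρ g y) = b x y) → ∀ x y, b (X x) y = b x (X y)

theorem SA.mul {X Y : Module.End ℂ W} (hX : SA ρ X) (hY : SA ρ Y) (h : X * Y = Y * X) :
    SA ρ (X * Y) := fun b hb x y => by
  rw [Module.End.mul_apply, hX b hb, hY b hb, h, Module.End.mul_apply]

theorem SA.smul {X : Module.End ℂ W} (hX : SA ρ X) (r : ℝ) : SA ρ ((r : ℂ) • X) :=
  fun b hb x y => by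
    rw [LinearMap.smul_apply, LinearMap.smul_apply, LinearMap.map_smulₛₗ,
      Complex.conj_ofReal, LinearMap.smul_apply, hX b hb, map_smul]

theorem SA.sub {X Y : Module.End ℂ W} (hX : SA ρ X) (hY : SA ρ Y) : SA ρ (X - Y) :=
  fun b hb x y => by simp [hX b hb, hY b hb]

theorem SA.one : SA ρ 1 := fun _ _ _ _ => rfl

theorem SA.sum {ι : Type*} (s : Finset ι) (x : ι → G) (c : ι → ℂ) (e : ι ≃ ι)
    (he : ∀ i, i ∈ s ↔ e i ∈ s) (hx : ∀ i ∈ s, x (e i) = (x i)⁻¹)
    (hc : ∀ i ∈ s, c (e i) = starRingEnd ℂ (c i)) : SA ρ (∑ i ∈ s, c i • ρ (x i)) := by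
  intro b hb u v
  simp only [LinearMap.sum_apply, map_sum, LinearMap.smul_apply, map_smul, LinearMap.map_smulₛₗ]
  refine Finset.sum_equiv e he fun i hi => ?_
  rw [hx i hi, hc i hi, ← hb (x i) u, rep_mul, mul_inv_cancel, map_one, Module.End.one_apply]

theorem trace_nonneg [Finite G] [FiniteDimensional ℂ W] {f e : Module.End ℂ W}
    (hf : f * f = f) (he : e * e = e) (hf' : SA ρ f) (he' : SA ρ e) :
    0 ≤ (LinearMap.trace ℂ W (f * e)).re := by
  classical
  have := Fintype.ofFinite G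
  let B := Module.finBasis ℂ W
  let b : W →ₗ⋆[ℂ] W →ₗ[ℂ] ℂ := LinearMap.mk₂'ₛₗ _ _
    (fun x y => ∑ g : G, ∑ i, starRingEnd ℂ (B.repr (ρ g x) i) * B.repr (ρ g y) i)
    (by intros; simp [add_mul, Finset.sum_add_distrib])
    (by intros; simp [Finset.mul_sum, mul_assoc])
    (by intros; simp [mul_add, Finset.sum_add_distrib])
    (by intros; simp [Finset.mul_sum, mul_left_comm])
  have hb0 : ∀ x y, b x y =
    ∑ g : G, ∑ i, starRingEnd ℂ (B.repr (ρ g x) i) * B.repr (ρ g y) i := fun _ _ => rfl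
  have hb : ∀ g x y, b (ρ g x) (ρ g y) = b x y := by
    intro g x y
    simp only [hb0, rep_mul]
    exact Fintype.sum_equiv (Equiv.mulRight g) _ _ fun _ => rfl
  have hre : ∀ x, b x x = ((∑ g : G, ∑ i, Complex.normSq (B.repr (ρ g x) i) : ℝ) : ℂ) := by
    intro x
    simp [hb0, Complex.normSq_eq_conj_mul_self]
  let c : InnerProductSpace.Core ℂ W :=
    { inner := fun x y => b x y
      conj_inner_symm := by intro x y; simp [hb0, mul_comm]
      re_inner_nonneg := by
        intro x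
        rw [hre, RCLike.re_to_complex, Complex.ofReal_re]
        exact Finset.sum_nonneg fun _ _ => Finset.sum_nonneg fun _ _ => Complex.normSq_nonneg _
      add_left := by intros; simp
      smul_left := by intros; simp
      definite := by
        intro x hx
        rw [hre, Complex.ofReal_eq_zero, Finset.sum_eq_zero_iff_of_nonneg
          fun _ _ => Finset.sum_nonneg fun _ _ => Complex.normSq_nonneg _] at hx
        have h1 := hx 1 (Finset.mem_univ _)
        rw [Finset.sum_eq_zero_iff_of_nonneg fun _ _ => Complex.normSq_nonneg _] at h1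
        exact B.ext_elem fun i => by simpa using h1 i (Finset.mem_univ _) }
  letI : NormedAddCommGroup W := c.toNormedAddCommGroup
  letI : InnerProductSpace ℂ W := InnerProductSpace.ofCore c.toCore
  have h1 : LinearMap.trace ℂ W (f * e) = LinearMap.trace ℂ W (f * e * e * f) := by
    rw [LinearMap.trace_mul_comm ℂ (f * e * e), mul_assoc f e e, he, ← mul_assoc, hf]
  rw [h1, LinearMap.trace_eq_sum_inner _ (stdOrthonormalBasis ℂ W), Complex.re_sum]
  refine Finset.sum_nonneg fun i _ => ?_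
  change 0 ≤ (b _ (f (e (e (f _))))).re
  rw [← hf' b hb, ← he' b hb, hre, Complex.ofReal_re]
  exact Finset.sum_nonneg fun _ _ => Finset.sum_nonneg fun _ _ => Complex.normSq_nonneg _

theorem trace_mul_le [Finite G] [FiniteDimensional ℂ W] {f e : Module.End ℂ W}
    (hf : f * f = f) (he : e * e = e) (hf' : SA ρ f) (he' : SA ρ e) :
    (LinearMap.trace ℂ W (f * e)).re ≤ (LinearMap.trace ℂ W f).re := by
  have := trace_nonneg (e := 1 - e) hf (by simp [mul_sub, sub_mul, he]) hf' (SA.one.sub he')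
  rw [mul_sub, mul_one, map_sub, Complex.sub_re] at this
  linarith

/-- scalars by which sums of group elements act are algebraic integers -/
theorem dvd_of_sum_eq [Finite G] [FiniteDimensional ℂ W] [Nontrivial W] {ι : Type*} (s : Finset ι)
    (x : ι → G) {c : ℂ} (h : ∑ i ∈ s, ρ (x i) = c • 1) {a : ℕ}
    (ha : LinearMap.trace ℂ W (∑ i ∈ s, ρ (x i)) = a) : finrank ℂ W ∣ a := by
  have h1 : IsIntegral ℤ (∑ i ∈ s, ρ (x i)) := by
    have := (IsIntegral.of_finite ℤ (∑ i ∈ s, MonoidAlgebra.single (x i) (1 : ℤ))).map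
      (MonoidAlgebra.lift ℤ (Module.End ℂ W) G ρ)
    simpa using this
  rw [h, map_smul, LinearMap.trace_one, smul_eq_mul] at ha
  rw [h, ← Algebra.algebraMap_eq_smul_one,
    isIntegral_algebraMap_iff (algebraMap ℂ (Module.End ℂ W)).injective] at h1
  have hpos : (finrank ℂ W : ℂ) ≠ 0 := Nat.cast_ne_zero.2 Module.finrank_pos.ne'
  have h2 : c = algebraMap ℚ ℂ ((a : ℚ) / finrank ℂ W) := by
    simp [← ha, hpos]
  rw [h2, isIntegral_algebraMap_iff (algebraMap ℚ ℂ).injective] at h1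
  obtain ⟨z, hz⟩ := IsIntegrallyClosed.isIntegral_iff.1 h1
  have h3 : (a : ℤ) = finrank ℂ W * z := by
    have hp : (finrank ℂ W : ℚ) ≠ 0 := Nat.cast_ne_zero.2 Module.finrank_pos.ne'
    have : (a : ℚ) = finrank ℂ W * z := by
      rw [show (z : ℚ) = _ from hz]; field_simp
    exact_mod_cast this
  exact Int.natCast_dvd_natCast.1 ⟨z, h3⟩

end H22.Ls
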