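import Cfsg.Agent.H22.MdN

/-!
Minimal degree of the linear groups, part two.
-/

set_option autoImplicit false

namespace H22

open H23 Module Pointwise Cfsg

namespace LC

variable {F V : Type*} [Field F] [AddCommGroup V] [Module F V] [Fintype F] [FiniteDimensional F V]
  {X : Type*} [MulAction (V ≃ₗ[F] V) X]

omit [FiniteDimensional F V] in
theorem eq_zero_of_top {c : V} {x : X} (h : Dp F c x = ⊤) {φ : Dual F V} (h1 : φ c = 0)
    (h2 : t c φ • x = x) : φ = 0 :=
  bD_nd φ fun v => (show v ∈ Dp F c x by rw [h]; trivial) φ ⟨h1, h2⟩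

omit [Fintype F] [FiniteDimensional F V] in
theorem mem_smul_iff (g : V ≃ₗ[F] V) (D : AddSubgroup V) (v : V) : v ∈ g • D ↔ g⁻¹ v ∈ D :=
  AddSubgroup.mem_pointwise_smul_iff_inv_smul_mem

omit [Fintype F] in
theorem smul_toAdd_eq {g : V ≃ₗ[F] V} {U W : Submodule F V} (h : ∀ u ∈ U, g u ∈ W)
    (hd : finrank F U = finrank F W) : g • U.toAddSubgroup = W.toAddSubgroup := by
  have : U.map g.toLinearMap = W := Submodule.eq_of_le_of_finrank_eq
    (Submodule.map_le_iff_le_comap.2 h) (by rw [LinearEquiv.finrank_map_eq, hd])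
  rw [← this]
  rfl

omit [FiniteDimensional F V] in
theorem sm_gorb {x : X} (hfin : (gorb (SLv F V) x).Finite) (hV : 3 ≤ finrank F V)
    (hN : (gorb (SLv F V) x).ncard * (Fintype.card F - 1) + Fintype.card F ≤
      Fintype.card F ^ finrank F V) : Sm F V (gorb (SLv F V) x) :=
  ⟨hfin, fun _ hg _ hy => smul_mem_gorb hy hg, hN, hV⟩

theorem no_fix_sub {x : X} (h : Sm F V (gorb (SLv F V) x)) {U : Submodule F V} (h0 : U ≠ ⊥)
    (h1 : U ≠ ⊤) (hU : ∀ g ∈ SLv F V, g • x = x → ∀ u ∈ U, g u ∈ U) : False := by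
  classical
  have := finite_of_fd F V
  have := finite_of_fd F (Dual F V)
  obtain ⟨k1, k2⟩ := gorb_le (G := SLv F V) (y := U.toAddSubgroup) h.fin
    fun g hg hx => smul_toAdd_eq (hU g hg hx) rfl
  have hn := h.num
  have h' := sm_gorb k1 h.dim (by have := Nat.mul_le_mul_right (Fintype.card F - 1) k2; omega)
  obtain ⟨c, hc⟩ : ∃ c, c ∉ U := by
    by_contra! h2
    exact h1 (eq_top_iff.2 fun v _ => h2 v)
  have hc0 : c ≠ 0 := by rintro rfl; exact hc (zero_mem _)
  rcases dichotomy h' hc0 (self_mem_gorb _) with h2 | h2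
  · obtain ⟨u, hu, hu0⟩ := Submodule.exists_mem_ne_zero_of_ne_bot h0
    obtain ⟨φ, h3, h4⟩ := exists_dual_pair (F := F) (u := c) (x := u) fun h3 => by
      obtain ⟨s, rfl⟩ := Submodule.mem_span_singleton.1 h3
      have hs : s ≠ 0 := by rintro rfl; exact hu0 (by simp)
      exact hc (by simpa [hs] using U.smul_mem s⁻¹ hu)
    have h5 : t c φ u ∈ U.toAddSubgroup := by
      rw [← h2 φ]; exact AddSubgroup.smul_mem_pointwise_smul _ _ _ hu
    rw [t_apply h3, h4, one_smul] at h5
    exact hc (by simpa using U.sub_mem h5 hu)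
  have h3 : U ⊔ F ∙ c = ⊤ := by
    by_contra h3
    obtain ⟨z, hz⟩ : ∃ z, z ∉ U ⊔ F ∙ c := by
      by_contra! h4
      exact h3 (eq_top_iff.2 fun v _ => h4 v)
    obtain ⟨φ, h4, h5⟩ := exists_dual_eq_one hz
    have := eq_zero_of_top h2 (h4 c (Submodule.mem_sup_right (Submodule.mem_span_singleton_self c)))
      (smul_toAdd_eq (fun u hu => by rwa [t_apply_of (h4 u (Submodule.mem_sup_left hu))]) rfl)
    simp [this] at h5
  have h4 : finrank F U + 1 = finrank F V := by
    have h5 := finrank_sup_le U (F ∙ c)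
    rw [h3, finrank_top, finrank_span_singleton hc0] at h5
    have := Submodule.finrank_lt h1
    omega
  have h5 := ncard_le_mul_of_cover (Set.toFinite ({0}ᶜ : Set (Dual F V))) k1.toFinset
    (fun D φ => (LinearMap.ker φ).toAddSubgroup = D) 1 (Fintype.card F - 1) (by
      intro φ hφ
      refine (Set.ncard_pos (Set.toFinite _)).2 ⟨_, ?_, rfl⟩
      have h6 := Module.Dual.finrank_ker_add_one_of_ne_zero (f := φ) hφ
      obtain ⟨g, hg, h7⟩ := exists_SLv_map
        (LinearEquiv.ofFinrankEq U (LinearMap.ker φ) (by omega)) h1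
      exact k1.mem_toFinset.2 ⟨g, hg, smul_toAdd_eq (fun u hu => by
        rw [h7 ⟨u, hu⟩]; exact Subtype.property _) (by omega)⟩) (by
      intro D _
      rcases Set.eq_empty_or_nonempty
        {φ ∈ ({0}ᶜ : Set (Dual F V)) | (LinearMap.ker φ).toAddSubgroup = D} with h6 | ⟨φ, hφ, h6⟩
      · simp only [h6, Set.ncard_empty, zero_le]
      obtain ⟨z, hz⟩ : (1 : F) ∈ LinearMap.range φ := by
        rw [Module.Dual.range_eq_top_of_ne_zero hφ]; trivial
      have key : ∀ χ : Dual F V, (LinearMap.ker χ).toAddSubgroup = D → ∀ y, χ y = φ y * χ z := by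
        intro χ hχ y
        have : y - φ y • z ∈ (LinearMap.ker χ).toAddSubgroup := by
          rw [hχ, ← h6]; simp [hz]
        simpa [sub_eq_zero] using this
      have h7 : ({0}ᶜ : Set F).ncard = Fintype.card F - 1 := by
        rw [Set.ncard_compl, Set.ncard_singleton, Nat.card_eq_fintype_card]
      rw [← h7]
      refine Set.ncard_le_ncard_of_injOn (fun χ => χ z) ?_ ?_
      · intro χ hχ h8
        exact hχ.1 (LinearMap.ext fun y => by rw [key χ hχ.2, show χ z = 0 from h8]; simp)
      · intro χ hχ χ' hχ' e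
        exact LinearMap.ext fun y => by rw [key χ hχ.2, key χ' hχ'.2, show χ z = χ' z from e])
  rw [Set.ncard_compl, Set.ncard_singleton, card_V (F := F), Subspace.dual_finrank_eq,
    ← Set.ncard_eq_toFinset_card] at h5
  have := h'.num
  have := Fintype.one_lt_card (α := F)
  omega

section Reg

variable {Ω : Set X} (h : Sm F V Ω) (hR : ∀ x ∈ Ω, ∀ c : V, c ≠ 0 → Dp F c x = ⊤)
include h hR

theorem exists_rel {c : V} (h0 : c ≠ 0) {x : X} (hx : x ∈ Ω) {g : V ≃ₗ[F] V} (hg : g ∈ SLv F V) :
    ∃ φ : Dual F V, φ c = 0 ∧ (t c φ * g) • x = x := by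
  have hq := Fintype.one_lt_card (α := F)
  have h1 : ∀ y ∈ Ω, ((A (F := F) c).orb y).ncard = Fintype.card F ^ (finrank F V - 1) := by
    intro y hy
    have := card_Dp (F := F) h0 y
    rw [hR y hy c h0, AddSubgroup.card_top, card_V (F := F),
      pow_eq_mul_pred (by have := h.dim; omega)] at this
    exact (Nat.eq_of_mul_eq_mul_left (by omega) this).symm
  have h2 : ∀ y ∈ Ω, (A (F := F) c).orb y ⊆ Ω := fun y hy =>
    (A c).orb_subset (fun φ _ m hm => h.inv _ (t_mem c φ) m hm) hy
  have hgx := h.inv g hg x hx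
  by_cases h3 : x ∈ (A (F := F) c).orb (g • x)
  · obtain ⟨φ, h4, h5⟩ := h3
    exact ⟨φ, h4, by rw [mul_smul]; exact h5⟩
  · have h4 := Set.ncard_le_ncard (Set.union_subset (h2 _ hgx) (h2 _ hx)) h.fin
    rw [Set.ncard_union_eq ((A c).disjoint_orb h3) (h.fin.subset (h2 _ hgx))
      (h.fin.subset (h2 _ hx)), h1 _ hgx, h1 _ hx] at h4
    have h5 := h.num
    rw [pow_eq_mul_pred (m := finrank F V) (by have := h.dim; omega)] at h5
    obtain ⟨r, hr⟩ : ∃ r, Fintype.card F = r + 2 := ⟨Fintype.card F - 2, by omega⟩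
    generalize Fintype.card F ^ (finrank F V - 1) = a at h4 h5
    rw [hr, show r + 2 - 1 = r + 1 from rfl] at h5
    nlinarith

theorem no_reg (hexc : ¬ (finrank F V = 4 ∧ Fintype.card F = 2)) {x : X} (hx : x ∈ Ω) : False := by
  classical
  have hV := h.dim
  have : Nontrivial V := Module.nontrivial_of_finrank_pos (R := F) (by omega)
  obtain ⟨c, h0⟩ := exists_ne (0 : V)
  have hex : ∀ U W : Submodule F V, finrank F U < finrank F W → ∃ z ∈ W, z ∉ U := fun U W h1 =>
    SetLike.not_le_iff_exists.1 fun h2 => absurd (Submodule.finrank_mono h2) (by omega)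
  obtain ⟨z, -, hz⟩ := hex (F ∙ c) ⊤ (by rw [finrank_span_singleton h0, finrank_top]; omega)
  obtain ⟨θ, hθc, hθz⟩ := exists_dual_pair hz
  have hθ : θ ≠ 0 := by rintro rfl; simp at hθz
  have hker := Module.Dual.finrank_ker_add_one_of_ne_zero hθ
  obtain ⟨w, hw, hwc⟩ := hex (F ∙ c) (LinearMap.ker θ) (by rw [finrank_span_singleton h0]; omega)
  replace hw : θ w = 0 := hw
  choose Φ hΦc hΦ using fun u => exists_rel h hR h0 hx (t_mem u θ)
  have uniq : ∀ u φ, φ c = 0 → (t c φ * t u θ) • x = x → φ = Φ u := by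
    intro u φ h1 h2
    have h3 := ((A c).smul_eq_smul_iff (t u θ • x) h1 (hΦc u)).1 (by
      change t c φ • _ = t c (Φ u) • _
      rw [← mul_smul, ← mul_smul, h2, hΦ])
    exact sub_eq_zero.1 (eq_zero_of_top (hR _ (h.inv _ (t_mem u θ) x hx) c h0) h3.1 h3.2)
  have hadd : ∀ a b, θ a = 0 → θ b = 0 → Φ (a + b) = Φ a + Φ b - Φ b a • θ := by
    intro a b ha hb
    refine (uniq _ _ (by simp [hΦc, hθc]) ?_).symm
    have : t c (Φ a + Φ b - Φ b a • θ) * t (a + b) θ = t c (Φ a) * t a θ * (t c (Φ b) * t b θ) := by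
      ext y
      simp only [LinearEquiv.mul_apply]
      rw [t_apply (by simp [hΦc, hθc]), t_apply (by simp [ha, hb]), t_apply (hΦc a), t_apply ha,
        t_apply (hΦc b), t_apply hb]
      simp only [map_add, map_smul, ha, hb, hθc, hΦc, LinearMap.sub_apply, LinearMap.add_apply,
        LinearMap.smul_apply, smul_eq_mul, mul_zero, add_zero]
      module
    rw [this, mul_smul, hΦ, hΦ]
  have hS : ∀ a b, θ a = 0 → θ b = 0 → Φ a b = Φ b a := by
    intro a b ha hb
    have h1 := hadd a b ha hb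
    rw [add_comm a, hadd b a hb ha] at h1
    have h2 := LinearMap.congr_fun h1 z
    simp only [LinearMap.sub_apply, LinearMap.add_apply, LinearMap.smul_apply, hθz, smul_eq_mul,
      mul_one] at h2
    linear_combination -h2
  have hE : ∀ g ∈ SLv F V, ∀ s : F, s ≠ 0 → g c = s • c → (∀ y, θ (g y) = θ y) →
      ∀ a b, θ a = 0 → θ b = 0 → Φ (g a) (g b) = s * Φ a b := by
    intro g hg s hs hgc hgθ a b ha hb
    obtain ⟨φ, h1, h2⟩ := exists_rel h hR h0 hx hg
    set k := t c φ * g with hk
    have hk1 : ∀ y, k y = g y + φ (g y) • c := fun y => t_apply h1 _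
    have hk2 : ∀ y, θ (k y) = θ y := fun y => by simp [hk1, hθc, hgθ]
    have hk3 : k c = s • c := by simp [hk1, hgc, h1]
    have hk4 : k.symm c = s⁻¹ • c := by
      apply k.injective
      simp [hk3, hs]
    have h3 : s • Φ a ∘ₗ (k⁻¹).toLinearMap = Φ (k a) := by
      refine uniq _ _ (by simp [hk4, hΦc]) ?_
      have : t c (s • Φ a ∘ₗ (k⁻¹).toLinearMap) * t (k a) θ = k * (t c (Φ a) * t a θ) * k⁻¹ := by
        ext y
        obtain ⟨y, rfl⟩ := k.surjective y
        simp only [LinearEquiv.mul_apply]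
        rw [t_apply (by simp [hk4, hΦc]), t_apply (by rw [hk2, ha]), t_apply (hΦc a), t_apply ha,
          hk2, ← map_smul, ← map_add]
        simp [hk3, smul_smul, mul_comm]
      rw [this, mul_smul, mul_smul, inv_smul_eq_iff.2 h2.symm, hΦ, h2]
    have h4 : s * Φ a b = Φ (k a) (k b) := by simpa using LinearMap.congr_fun h3 (k b)
    rw [hS (k a) (k b) (by rw [hk2, ha]) (by rw [hk2, hb]), hk1 a, map_add, map_smul, hΦc, smul_zero,
      add_zero, hS (k b) (g a) (by rw [hk2, hb]) (by rw [hgθ, ha]), hk1 b, map_add, map_smul, hΦc,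
      smul_zero, add_zero] at h4
    exact h4.symm
  have hD : ∀ a b, θ a = 0 → θ b = 0 → ∀ χ : Dual F V, χ a = 1 → χ c = 0 → ∀ s : F, s ≠ 0 →
      s * s * χ b * Φ a a + s * Φ a (b - χ b • a) = s⁻¹ * Φ a b := by
    intro a b ha hb χ h1 h2 s hs
    obtain ⟨φ, h3, h4⟩ := exists_dual_pair (F := F) (u := a) (x := c) fun h3 => by
      obtain ⟨r, hr⟩ := Submodule.mem_span_singleton.1 h3
      have := congrArg χ hr
      simp only [map_smul, h1, h2, smul_eq_mul, mul_one] at this
      exact h0 (by rw [← hr, this, zero_smul])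
    obtain ⟨d1, e1, f1⟩ := exists_dilation h4 (inv_ne_zero hs)
    obtain ⟨d2, e2, f2⟩ := exists_dilation h1 hs
    have h5 := hE (d1 * d2) (by
      rw [mem_SLv, LinearEquiv.coe_toLinearMap_mul, map_mul, e1, e2, inv_mul_cancel₀ hs]) s⁻¹
      (inv_ne_zero hs) (by simp [f1, f2, h2, h4, sub_smul])
      (fun y => by simp [f1, f2, ha, hθc]) a b ha hb
    rw [show (d1 * d2) a = s • a by simp [f1, f2, h1, h3, sub_smul],
      hS _ _ (by simp [ha]) (by simp [f1, f2, ha, hb, hθc]), map_smul,
      hS _ _ (by simp [f1, f2, ha, hb, hθc]) ha] at h5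
    rw [← h5]
    simp only [LinearEquiv.mul_apply, f1, f2, map_add, map_smul, map_sub, hΦc, smul_eq_mul]
    ring
  have hA : ∀ a, θ a = 0 → Φ a a = 0 := by
    intro a ha
    by_cases h2 : (2 : F) = 0
    · have h1 := hadd a a ha ha
      rw [← two_smul F a, ← two_smul F (Φ a), h2, zero_smul, zero_smul,
        ← uniq 0 0 rfl (by
          rw [show t c (0 : Dual F V) * t 0 θ = 1 by
            ext y; simp [t_apply (c := c) (φ := 0) rfl, t_apply (map_zero θ)], one_smul])] at h1
      simpa [hθz] using LinearMap.congr_fun h1 z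
    · by_cases h1 : a ∈ F ∙ c
      · obtain ⟨s, rfl⟩ := Submodule.mem_span_singleton.1 h1
        simp [hΦc]
      · obtain ⟨χ, h3, h4⟩ := exists_dual_pair h1
        have := hD a a ha ha χ h4 h3 (-1) (by simp)
        simp only [h4, one_smul, sub_self, map_zero, inv_neg, inv_one] at this
        exact (mul_eq_zero.1 (by linear_combination this : 2 * Φ a a = 0)).resolve_left h2
  have hw0 : ∀ b, θ b = 0 → Φ w b = 0 := by
    intro b hb
    by_cases h2 : (2 : F) = 0
    swap
    · have h1 := hA (w + b) (by simp [hw, hb])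
      rw [map_add, hS _ w (by simp [hw, hb]) hw, hS _ b (by simp [hw, hb]) hb, map_add, map_add,
        hA w hw, hA b hb, hS b w hb hw] at h1
      exact (mul_eq_zero.1 (by linear_combination h1 : 2 * Φ w b = 0)).resolve_left h2
    by_cases h1 : w ∈ Submodule.span F {c, b}
    · obtain ⟨r, s, rfl⟩ := Submodule.mem_span_pair.1 h1
      rw [hS _ _ hw hb]
      simp [hΦc, hA b hb]
    obtain ⟨χ, h3, h4, h5⟩ := exists_dual_two h1
    by_cases hq : Fintype.card F = 2
    · by_cases h6 : b ∈ F ∙ c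
      · obtain ⟨s, rfl⟩ := Submodule.mem_span_singleton.1 h6
        simp [hΦc]
      have h7 := finrank_span_two h0 h6
      have h8 : finrank F (Submodule.span F {c, b}) < finrank F (LinearMap.ker θ) :=
        Submodule.finrank_lt_finrank_of_lt (lt_of_le_of_ne
          (Submodule.span_le.2 (Set.pair_subset hθc hb)) fun e => h1 (e ▸ hw))
      obtain ⟨u, hu, hu'⟩ := hex (Submodule.span F {y | y ∈ [c, w, b]}) (LinearMap.ker θ) (by
        have := finrank_span_list_le (F := F) [c, w, b]
        simp only [List.length_cons, List.length_nil] at this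
        omega)
      obtain ⟨φ, k1, k2⟩ := exists_dual_eq_one hu'
      have k3 := k1 c (Submodule.subset_span (by simp))
      have k4 := k1 w (Submodule.subset_span (by simp))
      have k5 := k1 b (Submodule.subset_span (by simp))
      have := hE _ (t_mem w φ) 1 one_ne_zero (by rw [t_apply_of k3, one_smul])
        (fun y => by simp [t_apply k4, hw]) b u hb hu
      rw [t_apply_of k5, t_apply k4, k2, one_smul, map_add, one_mul, add_eq_left] at this
      rw [hS _ _ hw hb, this]
    · obtain ⟨s, hs0, hs1⟩ : ∃ s : F, s ≠ 0 ∧ s ≠ 1 := by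
        by_contra! h6
        have := Fintype.one_lt_card (α := F)
        have h7 := Finset.card_le_card (s := (Finset.univ : Finset F)) (t := {0, 1}) fun s _ => by
          by_cases h8 : s = 0 <;> simp [h8, h6]
        have := Finset.card_le_two (a := (0 : F)) (b := 1)
        rw [Finset.card_univ] at h7
        omega
      have h6 := hD w b hw hb χ h5 h3 s hs0
      simp only [h4, mul_zero, zero_mul, zero_smul, sub_zero, zero_add] at h6
      have h7 : (s - 1) ^ 2 * Φ w b = 0 := by
        have : s * s⁻¹ = 1 := mul_inv_cancel₀ hs0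
        linear_combination s * h6 + Φ w b * this + (1 - s) * Φ w b * h2
      simpa [sub_eq_zero, hs1] using h7
  have h1 : Φ w = Φ w z • θ := LinearMap.ext fun y => by
    have := hw0 (y - θ y • z) (by simp [hθz])
    simp only [map_sub, map_smul, smul_eq_mul] at this
    simp only [LinearMap.smul_apply, smul_eq_mul]
    linear_combination this
  have h2 : θ (w + Φ w z • c) = 0 := by simp [hw, hθc]
  refine hθ (eq_zero_of_top (hR x hx _ fun e => hwc ?_) h2 ?_)
  · rw [eq_neg_of_add_eq_zero_left e]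
    exact neg_mem (Submodule.smul_mem _ _ (Submodule.mem_span_singleton_self c))
  · have : t (w + Φ w z • c) θ = t c (Φ w) * t w θ := by
      ext y
      simp only [LinearEquiv.mul_apply]
      rw [t_apply h2, t_apply (hΦc w), t_apply hw, map_add, map_smul, hA w hw,
        LinearMap.congr_fun h1 y]
      simp only [LinearMap.smul_apply, smul_eq_mul]
      module
    rw [this, hΦ]

end Reg

theorem fix_of_sm {x : X} (h : Sm F V (gorb (SLv F V) x))
    (hexc : ¬ (finrank F V = 4 ∧ Fintype.card F = 2)) {g : V ≃ₗ[F] V} (hg : g ∈ SLv F V) :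
    g • x = x := by
  by_cases hR : ∀ y ∈ gorb (SLv F V) x, ∀ c : V, c ≠ 0 → Dp F c y = ⊤
  · exact (no_reg h hR hexc (self_mem_gorb x)).elim
  push Not at hR
  obtain ⟨y, hy, c, hc, h1⟩ := hR
  have h2 := (dichotomy h hc hy).resolve_right h1
  have h3 : TC (MulAction.stabilizer (V ≃ₗ[F] V) y ⊓ SLv F V) = ⊤ := by
    by_contra h3
    refine no_fix_sub (x := y) (by rwa [gorb_eq_of_mem hy]) (fun h4 => hc ?_) h3
      fun g hg hy u hu => apply_mem_TC hu ⟨hy, hg⟩
    rw [← Submodule.mem_bot F, ← h4]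
    exact fun φ hφ => ⟨by rw [← t_eq hφ]; exact h2 φ, tv_mem_SLv hφ⟩
  have h4 := SLv_le_of_TC h3
  obtain ⟨k, hk, e⟩ : x ∈ gorb (SLv F V) y := by rw [gorb_eq_of_mem hy]; exact self_mem_gorb x
  obtain rfl : y = x := (h4 hk).1.symm.trans e
  exact (h4 hg).1

theorem minIdx_SLv (hV : 3 ≤ finrank F V) (hexc : ¬ (finrank F V = 4 ∧ Fintype.card F = 2)) :
    MinIdx (SLv F V ⧸ Subgroup.center (SLv F V))
      ((Fintype.card F ^ finrank F V - 1) / (Fintype.card F - 1)) := by
  classical
  have := finite_of_fd F V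
  have : Finite (V ≃ₗ[F] V) := Finite.of_injective _ DFunLike.coe_injective
  have hq := Fintype.one_lt_card (α := F)
  have h7 : ({0}ᶜ : Set F).ncard = Fintype.card F - 1 := by
    rw [Set.ncard_compl, Set.ncard_singleton, Nat.card_eq_fintype_card]
  refine ⟨le_index_of_orbit _ (QuotientGroup.mk'_surjective _) fun K x hx g hg =>
    fix_of_sm (sm_gorb (Set.toFinite _) hV ?_) hexc hg, ?_⟩
  · have h1 := lt_div_iff_aux hx
    have : 0 < Fintype.card F ^ finrank F V := by positivity
    rw [add_mul] at h1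
    omega
  have : Nontrivial V := Module.nontrivial_of_finrank_pos (R := F) (by omega)
  obtain ⟨c, h0⟩ := exists_ne (0 : V)
  have hf := Set.toFinite (gorb (SLv F V) (F ∙ c).toAddSubgroup)
  have hsm : ∀ g : V ≃ₗ[F] V, g • (F ∙ c).toAddSubgroup = (F ∙ g c).toAddSubgroup := fun g =>
    smul_toAdd_eq (fun u hu => by
      obtain ⟨s, rfl⟩ := Submodule.mem_span_singleton.1 hu
      exact Submodule.mem_span_singleton.2 ⟨s, by simp⟩) (by
        rw [finrank_span_singleton h0, finrank_span_singleton (by simpa using h0)])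
  have h1 : (gorb (SLv F V) (F ∙ c).toAddSubgroup).ncard * (Fintype.card F - 1) =
      Fintype.card F ^ finrank F V - 1 := by
    have h2 : ∀ D ∈ hf.toFinset, {v ∈ ({0}ᶜ : Set V) | (F ∙ v).toAddSubgroup = D}.ncard =
        Fintype.card F - 1 := by
      intro D hD
      obtain ⟨g, -, rfl⟩ := hf.mem_toFinset.1 hD
      have hg0 : g c ≠ 0 := by simpa using h0
      rw [← h7, hsm, ← Set.ncard_image_of_injective _ (smul_left_injective F hg0)]
      congr 1
      ext v
      constructor
      · rintro ⟨hv, e⟩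
        obtain ⟨s, rfl⟩ := Submodule.mem_span_singleton.1
          (show v ∈ (F ∙ g c).toAddSubgroup from e ▸ Submodule.mem_span_singleton_self v)
        exact ⟨s, by rintro rfl; simp at hv, rfl⟩
      · rintro ⟨s, hs, rfl⟩
        exact ⟨smul_ne_zero hs hg0, by rw [Submodule.span_singleton_smul_eq (IsUnit.mk0 s hs)]⟩
    have h3 := sum_le_of_fiber (Set.toFinite ({0}ᶜ : Set V)) (fun v => (F ∙ v).toAddSubgroup)
      hf.toFinset (fun _ => Fintype.card F - 1) 1 fun D hD => by rw [one_mul, h2 D hD]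
    have h4 := ncard_le_mul_of_cover (Set.toFinite ({0}ᶜ : Set V)) hf.toFinset
      (fun D v => (F ∙ v).toAddSubgroup = D) 1 (Fintype.card F - 1) (by
        intro v hv
        obtain ⟨g, hg, rfl⟩ := exists_SLv_map_one (F := F) (by omega) h0 hv
        exact (Set.ncard_pos (Set.toFinite _)).2 ⟨_, hf.mem_toFinset.2 ⟨g, hg, hsm g⟩, rfl⟩)
      fun D hD => (h2 D hD).le
    rw [Finset.sum_const, smul_eq_mul] at h3
    rw [Set.ncard_compl, Set.ncard_singleton, card_V (F := F), ← Set.ncard_eq_toFinset_card]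
      at h3 h4
    omega
  rw [← h1, Nat.mul_div_cancel _ (by omega)]
  refine exists_index_of_orbit _ (QuotientGroup.mk'_surjective _) _ fun g hg => ?_
  rw [QuotientGroup.ker_mk'] at hg
  obtain ⟨z, hz⟩ : ∃ z, z ∉ F ∙ c := by
    by_contra! h2
    have := finrank_span_singleton (K := F) h0
    rw [show (F ∙ c) = ⊤ from eq_top_iff.2 fun v _ => h2 v, finrank_top] at this
    omega
  obtain ⟨φ, h2, h3⟩ := exists_dual_pair hz
  have h4 := congrArg (fun k : SLv F V => k.1 z)
    (Subgroup.mem_center_iff.1 hg ⟨t c φ, t_mem c φ⟩)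
  simp only [Subgroup.coe_mul, LinearEquiv.mul_apply, t_apply h2, h3, one_smul, map_add,
    add_right_inj] at h4
  refine smul_toAdd_eq (fun u hu => ?_) rfl
  obtain ⟨s, rfl⟩ := Submodule.mem_span_singleton.1 hu
  rw [map_smul, ← h4]
  exact Submodule.smul_mem _ _ (Submodule.smul_mem _ _ (Submodule.mem_span_singleton_self c))

end LC

theorem minIdx_PSL {F : Type*} [Field F] [Fintype F] (n : ℕ) (hn : 3 ≤ n)
    (hexc : ¬ (n = 4 ∧ Fintype.card F = 2)) :
    MinIdx (Matrix.ProjectiveSpecialLinearGroup (Fin n) F)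
      ((Fintype.card F ^ n - 1) / (Fintype.card F - 1)) := by
  have h := LC.minIdx_SLv (F := F) (V := Fin n → F) (by simpa using hn) (by simpa using hexc)
  rw [Module.finrank_fin_fun] at h
  refine MinIdx.congr (quotCenterCongr (slEquivKer.trans
    (((glE (Fin n) F).subgroupMap _).trans (MulEquiv.subgroupCongr ?_)))) h
  ext g
  obtain ⟨g, rfl⟩ := (glE (Fin n) F).surjective g
  rw [← mem_specialLinear_iff]
  exact Subgroup.mem_map_iff_mem (glE (Fin n) F).injective

end H22
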