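import Cfsg.Agent.H22.LsA
import Cfsg.Agent.H22.MdO

/-!
Counting lemmas for families of forms on a finite vector space that are stable under
transvections.
-/

set_option autoImplicit false

namespace H22.Ls

open Module H23

theorem ncard_le_mul_fst {α β : Type*} [Finite α] [Finite β] {K : Set (α × β)} {P : Set α} {r : ℕ}
    (h1 : ∀ p ∈ K, p.1 ∈ P) (h2 : ∀ a ∈ P, {b | (a, b) ∈ K}.ncard ≤ r) :
    K.ncard ≤ P.ncard * r := by
  have := ncard_le_mul_of_cover K.toFinite P.toFinite.toFinset (fun a p => p.1 = a) 1 r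
    (fun p hp => by
      rw [Nat.one_le_iff_ne_zero, Ne, Set.ncard_eq_zero, ← Ne, ← Set.nonempty_iff_ne_empty]
      exact ⟨p.1, by simpa using h1 p hp, rfl⟩)
    (fun a ha => le_trans (Set.ncard_le_ncard_of_injOn Prod.snd
      (by rintro ⟨x, y⟩ ⟨h, rfl⟩; exact h)
      (by rintro ⟨x, y⟩ ⟨-, rfl⟩ ⟨x', y'⟩ ⟨-, h⟩ h'; exact Prod.ext h.symm h')) (h2 a (by simpa using ha)))
  rwa [one_mul, ← Set.ncard_eq_toFinset_card] at this

theorem ncard_zero_of {α : Type*} {P : α → Prop} (h : ¬ ∃ x, P x) : {x | P x}.ncard = 0 := by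
  rw [show {x | P x} = ∅ from Set.eq_empty_of_forall_notMem fun x hx => h ⟨x, hx⟩, Set.ncard_empty]

variable {F E : Type*} [Field F] [AddCommGroup E] [Module F E]

theorem ncard_quad_le {a b c : F} (ha : a ≠ 0) : {t : F | a * t ^ 2 + b * t + c = 0}.ncard ≤ 2 := by
  by_cases h : ∃ t0, a * t0 ^ 2 + b * t0 + c = 0
  · obtain ⟨t0, h0⟩ := h
    refine le_trans (Set.ncard_le_ncard (t := {t0, -b / a - t0}) fun t ht => ?_)
      ((Set.ncard_insert_le _ _).trans (by simp))
    have ht' : a * t ^ 2 + b * t + c = 0 := ht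
    have h1 : (t - t0) * (a * (t + t0) + b) = 0 := by linear_combination ht' - h0
    rcases mul_eq_zero.1 h1 with h2 | h2
    · exact Or.inl (sub_eq_zero.1 h2)
    · right
      change t = _
      field_simp
      linear_combination h2
  · rw [ncard_zero_of h]
    simp

variable [Fintype F] [FiniteDimensional F E]

theorem ncard_lines {Y Z : Set E} {v : E} (h0 : v ≠ 0) (hY : ∀ z ∈ Z, ∀ t : F, z + t • v ∈ Y)
    {r : ℕ} (hr : ∀ y ∈ Y, {t : F | y + t • v ∈ Z}.ncard ≤ r) :
    Fintype.card F * Z.ncard ≤ Y.ncard * r := by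
  have := finite_of_fd F E
  have := ncard_le_mul_of_cover Z.toFinite Y.toFinite.toFinset (fun y z => ∃ t : F, z = y + t • v)
    (Fintype.card F) r (fun z hz => by
      rw [← Nat.card_eq_fintype_card, ← Set.ncard_univ]
      refine Set.ncard_le_ncard_of_injOn (fun t => z + t • v)
        (fun t _ => ⟨by simpa using hY z hz t, -t, by simp⟩) fun s _ t _ h => ?_
      exact smul_left_injective F h0 (add_left_cancel h))
    (fun y hy => le_trans (Set.ncard_le_ncard (t := (fun t : F => y + t • v) ''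
      {t : F | y + t • v ∈ Z}) (by rintro _ ⟨h, t, rfl⟩; exact ⟨t, h, rfl⟩))
      (le_trans Set.ncard_image_le (hr y (by simpa using hy))))
  rwa [← Set.ncard_eq_toFinset_card] at this

theorem ncard_ann (U : Submodule F E) : {φ : Dual F E | ∀ u ∈ U, φ u = 0}.ncard =
    Fintype.card F ^ (finrank F E - finrank F U) := by
  have := ncard_submodule U.dualAnnihilator
  rw [← Subspace.finrank_add_finrank_dualAnnihilator_eq U, Nat.add_sub_cancel_left, ← this]
  congr 1
  ext φ
  simp

theorem ncard_ann_one {v : E} (h0 : v ≠ 0) : {φ : Dual F E | φ v = 0}.ncard =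
    Fintype.card F ^ (finrank F E - 1) := by
  rw [← finrank_span_singleton (K := F) h0, ← ncard_ann]
  congr 1
  ext φ
  simp [Submodule.mem_span_singleton]
  exact ⟨fun h _ => Or.inr h, fun h => by simpa using h 1⟩

theorem ncard_ann_two {u v : E} (h0 : u ≠ 0) (hv : v ∉ F ∙ u) :
    {φ : Dual F E | φ u = 0 ∧ φ v = 0}.ncard = Fintype.card F ^ (finrank F E - 2) := by
  rw [← LC.finrank_span_two h0 hv, ← ncard_ann]
  congr 1
  ext φ
  simp only [Set.mem_ofPred_eq, Submodule.mem_span_pair]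
  constructor
  · rintro ⟨h1, h2⟩ _ ⟨a, b, rfl⟩
    simp [h1, h2]
  · exact fun h => ⟨h _ ⟨1, 0, by simp⟩, h _ ⟨0, 1, by simp⟩⟩

theorem ncard_fiber_le {φ : Dual F E} {c : F} (hc : c ≠ 0) :
    {v | φ v = c}.ncard ≤ Fintype.card F ^ (finrank F E - 1) := by
  have := finite_of_fd F E
  by_cases h : ∃ v0, φ v0 = c
  · obtain ⟨v0, h0⟩ := h
    have h1 := Module.Dual.finrank_ker_add_one_of_ne_zero (f := φ) (by rintro rfl; exact hc h0.symm)
    rw [← h1, Nat.add_sub_cancel, ← ncard_submodule]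
    exact Set.ncard_le_ncard_of_injOn (fun v => v - v0)
      (fun v hv => by simp [show φ v = c from hv, h0]) fun _ _ _ _ h => sub_left_injective h
  · rw [ncard_zero_of h]
    simp

theorem ncard_ne_zero : {v : E | v ≠ 0}.ncard = Fintype.card F ^ finrank F E - 1 := by
  have := finite_of_fd F E
  rw [← LC.card_V, ← Set.ncard_singleton (0 : E), ← Set.ncard_compl]
  rfl

theorem ncard_notMem {u : E} (h0 : u ≠ 0) :
    {v : E | v ∉ F ∙ u}.ncard = Fintype.card F ^ finrank F E - Fintype.card F := by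
  have := finite_of_fd F E
  have h := ncard_submodule (F ∙ u)
  rw [finrank_span_singleton h0, pow_one] at h
  rw [← LC.card_V, ← h, ← Set.ncard_compl]
  rfl

theorem ncard_pairs : {p : E × E | p.1 ≠ 0 ∧ p.2 ∉ F ∙ p.1}.ncard =
    (Fintype.card F ^ finrank F E - 1) * (Fintype.card F ^ finrank F E - Fintype.card F) := by
  classical
  have := finite_of_fd F E
  have := Fintype.ofFinite E
  rw [← ncard_ne_zero, Set.ncard_eq_toFinset_card', Set.ncard_eq_toFinset_card', ← smul_eq_mul,
    ← Finset.sum_const, Finset.card_eq_sum_card_fiberwise (f := Prod.fst)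
    (t := {v : E | v ≠ 0}.toFinset) (fun p hp => by simpa using (by simpa using hp : _ ∧ _).1)]
  refine Finset.sum_congr rfl fun u hu => ?_
  rw [← ncard_notMem (F := F) (by simpa using hu : u ≠ 0), Set.ncard_eq_toFinset_card']
  refine Finset.card_bij (fun p _ => p.2) ?_ ?_ ?_
  · simp only [Finset.mem_filter, Set.mem_toFinset, Set.mem_ofPred_eq]
    rintro p ⟨h, rfl⟩
    exact h.2
  · simp only [Finset.mem_filter, Set.mem_toFinset, Set.mem_ofPred_eq]
    rintro p ⟨-, rfl⟩ p' ⟨-, h⟩ h'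
    exact Prod.ext h.symm h'
  · intro v hv
    exact ⟨(u, v), by simpa using ⟨by simpa using hu, by simpa using hv⟩, rfl⟩

theorem abs_one {ι β : Type*} {S : Set ι} (hS : S.Finite) (ev : ι → E → β) {a : β} {r : ℕ}
    (hT : ∀ v, v ≠ 0 → ∃ H ∈ S, ev H v = a)
    (hC : ∀ H ∈ S, ∀ (φ : Dual F E) (v : E), φ v = 0 → ∃ H' ∈ S, ∀ x, ev H' x = ev H (x + φ x • v))
    (hA : ∀ H ∈ S, ∀ v, ev H v = a → ∀ y, {t : F | ev H (y + t • v) = a}.ncard ≤ r)
    (hB : ∀ H ∈ S, ∀ v, ev H v = a → ∀ y (s s' : F),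
      (∀ t : F, ev H (y + (t + s) • v) = ev H (y + (t + s') • v)) → s = s') :
    Fintype.card F ^ finrank F E - 1 ≤ r * S.ncard := by
  have := finite_of_fd F E
  have := finite_of_fd F (Dual F E)
  have hq : 0 < Fintype.card F := Fintype.card_pos
  have h := ncard_le_mul_of_cover (Set.toFinite {v : E | v ≠ 0}) hS.toFinset
    (fun H v => ev H v = a) (Fintype.card F ^ (finrank F E - 1))
    (Fintype.card F ^ (finrank F E - 1) * r) (fun v hv => by
      obtain ⟨H, hH, ha⟩ := hT v hv
      have : Nonempty ι := ⟨H⟩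
      choose! f hf1 hf2 using fun φ => hC H hH φ v
      rw [← ncard_ann_one hv]
      refine Set.ncard_le_ncard_of_injOn f (fun φ hφ => ⟨by simpa using hf1 φ hφ, ?_⟩)
        (fun φ hφ φ' hφ' e => LinearMap.ext fun x => hB H hH v ha x _ _ fun t => ?_)
        (hS.subset fun _ h => by simpa using h.1)
      · rw [hf2 φ hφ, show φ v = 0 from hφ, zero_smul, add_zero, ha]
      · have h1 := hf2 φ hφ (x + t • v)
        rw [e, hf2 φ' hφ'] at h1
        simpa [show φ v = 0 from hφ, show φ' v = 0 from hφ', add_smul, add_assoc] using h1.symm)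
    (fun H hH => by
      by_cases hex : ∃ v, v ≠ 0 ∧ ev H v = a
      · obtain ⟨v, h0, ha⟩ := hex
        have : Nontrivial E := ⟨v, 0, h0⟩
        have h1 := ncard_lines (F := F) (Y := Set.univ) (Z := {v | ev H v = a}) h0 (by simp)
          fun y _ => hA H (by simpa using hH) v ha y
        rw [Set.ncard_univ, LC.card_V (F := F), pow_eq_mul_pred finrank_pos, mul_assoc] at h1
        refine le_trans (Set.ncard_le_ncard ?_ (Set.toFinite _)) (Nat.le_of_mul_le_mul_left h1 hq)
        exact fun _ h => h.2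
      · exact (ncard_zero_of hex).le.trans (Nat.zero_le _))
  rw [ncard_ne_zero (F := F), ← Set.ncard_eq_toFinset_card S hS, mul_left_comm, mul_comm _ r] at h
  exact Nat.le_of_mul_le_mul_left h (pow_pos hq _)

omit [Fintype F] in
/-- transitivity from stability under transvections -/
theorem trans_of_tv (h2 : 2 ≤ finrank F E) {P : E → Prop}
    (h : ∀ (φ : Dual F E) (u x : E), φ u = 0 → P x → P (x + φ x • u)) {x : E} (h0 : x ≠ 0)
    (hx : P x) {v : E} (hv : v ≠ 0) : P v := by
  obtain ⟨g, hg, rfl⟩ := exists_SLv_map_one h2 h0 hv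
  let H : Subgroup (E ≃ₗ[F] E) :=
    { carrier := {g | ∀ x, P x ↔ P (g x)}
      one_mem' := fun _ => Iff.rfl
      mul_mem' := fun {a b} ha hb x => (hb x).trans (ha _)
      inv_mem' := fun {a} ha x => by simpa using (ha (a⁻¹ x)).symm }
  refine (SLv_le_of_tv (H := H) (fun φ u hu x => ⟨h φ u x hu, fun hx => ?_⟩) hg x).1 hx
  simpa [hu] using h (-φ) u _ (by simp [hu]) hx

open QuadraticMap in
theorem ncard_Q_le (h2 : ringChar F = 2) (hE : 2 ≤ finrank F E) (Q : QuadraticForm F E) {a : F}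
    (ha : a ≠ 0) :
    {u | Q u = a}.ncard ≤ (Fintype.card F + 1) * Fintype.card F ^ (finrank F E - 2) := by
  have := finite_of_fd F E
  have : CharP F 2 := ringChar.of_eq h2
  have hq : 1 < Fintype.card F := Fintype.one_lt_card
  by_cases hex : ∃ u, Q u = a
  swap
  · rw [ncard_zero_of hex]
    simp
  obtain ⟨u, hu⟩ := hex
  have h1 : {u | Q u = a}.ncard * (Fintype.card F - 1) ≤ {z | Q z = 0}ᶜ.ncard := by
    have h3 : {t : F | t ≠ 0}.ncard = Fintype.card F - 1 := by simpa using ncard_ne_zero (F := F) (E := F)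
    rw [← h3, ← Set.ncard_prod]
    refine Set.ncard_le_ncard_of_injOn (fun p => p.2 • p.1) ?_ ?_
    · rintro ⟨x, t⟩ ⟨hx, ht⟩
      simp only [Set.mem_ofPred_eq] at hx ht
      simp [Q.map_smul, hx, ht, ha]
    · rintro ⟨x, t⟩ ⟨hx, ht⟩ ⟨y, s⟩ ⟨hy, hs⟩ e
      simp only [Set.mem_ofPred_eq] at hx ht hy hs e
      have h4 := congrArg Q e
      rw [Q.map_smul, Q.map_smul, hx, hy, smul_eq_mul, smul_eq_mul, mul_left_inj' ha] at h4
      obtain rfl : t = s := by
        have : (t - s) ^ 2 = 0 := by grind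
        exact sub_eq_zero.1 (pow_eq_zero_iff two_ne_zero |>.1 this)
      exact Prod.ext (smul_right_injective E ht e) rfl
  have h3 : Fintype.card F ^ (finrank F E - 1) ≤ {z | Q z = 0}.ncard * Fintype.card F := by
    have h4 := LinearMap.finrank_range_add_finrank_ker (polarBilin Q u)
    have h5 := (LinearMap.range (polarBilin Q u)).finrank_le
    rw [finrank_self] at h5
    refine le_trans (Nat.pow_le_pow_right hq.le
      (show _ ≤ finrank F (LinearMap.ker (polarBilin Q u)) by omega)) ?_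
    rw [← ncard_submodule, ← Nat.card_eq_fintype_card, ← Set.ncard_univ, ← Set.ncard_prod]
    refine le_trans (Set.ncard_le_ncard (t := (fun p : E × F => p.1 + p.2 • u) ''
      ({z | Q z = 0} ×ˢ Set.univ)) fun w hw => ?_) Set.ncard_image_le
    obtain ⟨t, ht⟩ := FiniteField.isSquare_of_char_two h2 (Q w / a)
    refine ⟨(w + (-t) • u, t), ⟨?_, trivial⟩, by simp⟩
    have h6 : polar Q w u = 0 := by rw [polar_comm]; exact hw
    change Q _ = 0
    rw [QuadraticMap.map_add Q, polar_smul_right, h6, Q.map_smul, hu, smul_eq_mul, neg_mul_neg, ← ht,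
      div_mul_cancel₀ _ ha, smul_zero, add_zero, CharTwo.add_self_eq_zero]
  rw [Set.ncard_compl, LC.card_V (F := F)] at h1
  obtain ⟨n, hn⟩ := Nat.exists_eq_add_of_le' hE
  rw [hn] at h1 h3
  rw [hn, Nat.add_sub_cancel]
  obtain ⟨q, hq⟩ := Nat.exists_eq_add_of_lt hq
  rw [hq] at h1 h3 ⊢
  have h4 : (1 + q + 1) ^ n ≤ {z | Q z = 0}.ncard :=
    Nat.le_of_mul_le_mul_right (by rw [← pow_succ]; exact h3) (by omega)
  refine Nat.le_of_mul_le_mul_right (c := 1 + q) (h1.trans ?_) (by omega)
  rw [Nat.sub_le_iff_le_add]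
  calc (1 + q + 1) ^ (n + 2) = (1 + q + 1 + 1) * (1 + q + 1) ^ n * (1 + q) + (1 + q + 1) ^ n := by
        ring
    _ ≤ _ := Nat.add_le_add_left h4 _

open QuadraticMap in
theorem abs_two (h2 : ringChar F = 2) {S : Set (QuadraticForm F E)} (hS : S.Finite)
    (hC : ∀ Q ∈ S, ∀ k : E ≃ₗ[F] E, Q.comp k.toLinearMap ∈ S) {Q0 : QuadraticForm F E}
    (h0 : Q0 ∈ S) {u v : E} (huv : polar Q0 u v ≠ 0) :
    (Fintype.card F ^ finrank F E - 1) * (Fintype.card F ^ finrank F E - Fintype.card F) ≤
      2 * (Fintype.card F + 1) * S.ncard := by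
  have := finite_of_fd F E
  have := finite_of_fd F (Dual F E)
  have : CharP F 2 := ringChar.of_eq h2
  have hq : 0 < Fintype.card F := Fintype.card_pos
  have hself : ∀ (Q : QuadraticForm F E) x, polar Q x x = 0 := fun Q x => by
    rw [polar_self, two_smul]; grind
  obtain ⟨u0, v0, ha, hc⟩ : ∃ u0 v0, Q0 u0 ≠ 0 ∧ polar Q0 u0 v0 ≠ 0 := by
    by_cases h1 : Q0 u = 0
    · by_cases h3 : Q0 v = 0
      · exact ⟨u + v, v, by simpa [QuadraticMap.map_add Q0, h1, h3] using huv,
          by simpa [polar_add_left, hself] using huv⟩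
      · exact ⟨v, u, h3, by rwa [polar_comm]⟩
    · exact ⟨u, v, h1, huv⟩
  have hu0 : u0 ≠ 0 := by rintro rfl; simp at ha
  have hv0 : v0 ∉ F ∙ u0 := fun h => by
    obtain ⟨t, rfl⟩ := Submodule.mem_span_singleton.1 h
    simp [polar_smul_right, hself] at hc
  have hE : 2 ≤ finrank F E := LC.finrank_span_two hu0 hv0 ▸ Submodule.finrank_le _
  have h := ncard_le_mul_of_cover (Set.toFinite {p : E × E | p.1 ≠ 0 ∧ p.2 ∉ F ∙ p.1}) hS.toFinset
    (fun Q p => Q p.1 = Q0 u0 ∧ polar Q p.1 p.2 = polar Q0 u0 v0 ∧ Q p.2 = Q0 v0)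
    (Fintype.card F ^ (finrank F E - 2) * Fintype.card F ^ (finrank F E - 2))
    ((Fintype.card F + 1) * Fintype.card F ^ (finrank F E - 2) *
      (Fintype.card F ^ (finrank F E - 2) * 2)) (by
      rintro ⟨x, y⟩ ⟨hx, hy⟩
      obtain ⟨k, hk⟩ := exists_equiv_map_family (linearIndependent_pair_of_notMem hx hy)
        (linearIndependent_pair_of_notMem hu0 hv0)
      have hk0 : k x = u0 := hk 0
      have hk1 : k y = v0 := hk 1
      have key : ∀ φ φ' : Dual F E, (φ x = 0 ∧ φ y = 0) → (φ' x = 0 ∧ φ' y = 0) → ∀ z,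
          (k * LC.t x φ * LC.t y φ') z = k z + φ z • u0 + φ' z • v0 := by
        intro φ φ' h h' z
        simp only [LinearEquiv.mul_apply, LC.t_apply h.1, LC.t_apply h'.2, map_add, map_smul, h.2,
          hk0, hk1, add_zero, zero_smul]
      rw [← ncard_ann_two hx hy, ← Set.ncard_prod]
      refine Set.ncard_le_ncard_of_injOn
        (fun p => Q0.comp (k * LC.t x p.1 * LC.t y p.2).toLinearMap) ?_ ?_
        (hS.subset fun _ h => by simpa using h.1)
      · rintro ⟨φ, φ'⟩ ⟨h, h'⟩
        refine ⟨hS.mem_toFinset.2 (hC _ h0 _), ?_⟩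
        simp only [polar, comp_apply, LinearEquiv.coe_coe, map_add, key φ φ' h h', h.1, h.2, h'.1,
          h'.2, hk0, hk1, zero_smul, add_zero, and_self]
      · rintro ⟨φ, φ'⟩ ⟨h, h'⟩ ⟨χ, χ'⟩ ⟨g, g'⟩ e
        have e1 : ∀ z w, polar Q0 ((k * LC.t x φ * LC.t y φ') z) ((k * LC.t x φ * LC.t y φ') w) =
            polar Q0 ((k * LC.t x χ * LC.t y χ') z) ((k * LC.t x χ * LC.t y χ') w) := by
          intro z w
          have e2 := fun z => DFunLike.congr_fun e z
          simp only [comp_apply, LinearEquiv.coe_coe] at e2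
          simp only [polar, ← map_add, e2]
        refine Prod.ext (LinearMap.ext fun z => ?_) (LinearMap.ext fun z => ?_)
        · have := e1 z y
          simp only [key φ φ' h h', key χ χ' g g', h.2, h'.2, g.2, g'.2, hk1, zero_smul, add_zero,
            polar_add_left, polar_smul_left, hself, smul_eq_mul, mul_zero, add_right_inj] at this
          exact mul_right_cancel₀ hc this
        · have := e1 x z
          simp only [key φ φ' h h', key χ χ' g g', h.1, h'.1, g.1, g'.1, hk0, zero_smul, add_zero,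
            polar_add_right, polar_smul_right, hself, smul_eq_mul, mul_zero, add_right_inj] at this
          exact mul_right_cancel₀ hc this)
    (fun Q _ => by
      refine le_trans (ncard_le_mul_fst (P := {u | Q u = Q0 u0})
        (r := Fintype.card F ^ (finrank F E - 2) * 2) (fun p hp => hp.2.1) fun x hx => ?_)
        (Nat.mul_le_mul_right _ (ncard_Q_le h2 hE Q ha))
      have hx' : Q x = Q0 u0 := hx
      have h1 := ncard_lines (F := F) (Y := {y | polarBilin Q x y = polar Q0 u0 v0})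
        (Z := {y | polar Q x y = polar Q0 u0 v0 ∧ Q y = Q0 v0}) (v := x) (r := 2)
        (by rintro rfl; exact ha (by simpa using hx'.symm))
        (fun z hz t => by simpa [polar_add_right, polar_smul_right, hself] using hz.1)
        (fun y hy => le_trans (Set.ncard_le_ncard fun t ht => by
            have h3 := ht.2
            rw [QuadraticMap.map_add Q, polar_smul_right, Q.map_smul, hx'] at h3
            simp only [smul_eq_mul] at h3
            change _ = _
            linear_combination h3)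
          (ncard_quad_le (b := polar Q y x) (c := Q y - Q0 v0) ha))
      have h3 := h1.trans (Nat.mul_le_mul_right _ (ncard_fiber_le hc))
      rw [pow_eq_mul_pred (m := finrank F E - 1) (by omega), mul_assoc] at h3
      refine le_trans (Set.ncard_le_ncard ?_ (Set.toFinite _)) (Nat.le_of_mul_le_mul_left h3 hq)
      exact fun y hy => hy.2.2)
  rw [ncard_pairs, ← Set.ncard_eq_toFinset_card S hS] at h
  refine Nat.le_of_mul_le_mul_left (h.trans (le_of_eq ?_)) (mul_pos (pow_pos hq _) (pow_pos hq _))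
  ring

end H22.Ls
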