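import Cfsg.Agent.H22.LsB

/-!
Lower bounds for the degrees of complex representations of symplectic groups.
-/

set_option autoImplicit false

namespace H22.Ls

open Module H23 H23.Form

section AE

variable {F V : Type*} [Field F] {σ : F →+* F} [AddCommGroup V] [Module F V] (Φ : Form σ V)

/-- isometries acting trivially on `E` and on `V / E` -/
def AE (E : Submodule F V) : Subgroup Φ.O where
  carrier := {g | (∀ x, g.1 x - x ∈ E) ∧ ∀ e ∈ E, g.1 e = e}
  one_mem' := by simp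
  mul_mem' := by
    rintro g h ⟨g1, g2⟩ ⟨h1, h2⟩
    exact ⟨fun x => by simpa using add_mem (g1 (h.1 x)) (h1 x), fun e he => by
      rw [O_mul_apply, h2 e he, g2 e he]⟩
  inv_mem' := by
    rintro g ⟨g1, g2⟩
    refine ⟨fun x => by simpa using neg_mem (g1 ((g⁻¹).1 x)), fun e he => ?_⟩
    conv_lhs => rw [← g2 e he]
    exact O_inv_apply_apply _ _ _

variable {Φ} {E : Submodule F V}

theorem AE_mul_apply {g h : Φ.O} (hg : g ∈ AE Φ E) (hh : h ∈ AE Φ E) (x : V) :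
    (g * h).1 x = g.1 x + h.1 x - x := by
  rw [O_mul_apply, add_sub_assoc, ← hg.2 _ (hh.1 x), ← map_add, add_sub_cancel]

theorem AE_comm {g h : Φ.O} (hg : g ∈ AE Φ E) (hh : h ∈ AE Φ E) : g * h = h * g :=
  O_ext _ fun x => by rw [AE_mul_apply hg hh, AE_mul_apply hh hg, add_comm]

theorem AE_conj [FiniteDimensional F V] {k : Φ.O} (hk : ∀ e ∈ E, k.1 e ∈ E) {g : Φ.O}
    (hg : g ∈ AE Φ E) : k * g * k⁻¹ ∈ AE Φ E := by
  have h1 : k.1 ∈ stabL E := mem_stabL_of_le.2 hk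
  exact ⟨fun x => by simpa using hk _ (hg.1 ((k⁻¹).1 x)), fun e he => by
    rw [O_mul_apply, O_mul_apply, hg.2 ((k⁻¹).1 e) (apply_mem_of_mem_stabL (inv_mem h1) he),
      O_apply_inv_apply]⟩

theorem AE_perp (hΦ : Φ.Nondeg) {g : Φ.O} (hg : g ∈ AE Φ E) {w : V} (hw : w ∈ Φ.perp E) :
    g.1 w = w := by
  refine hΦ.eq_of_forall' fun z => ?_
  rw [O_B_right, ← sub_eq_zero, ← LinearMap.sub_apply, ← map_sub]
  exact hw _ ((inv_mem hg).1 z)

theorem finite_O [Finite F] [FiniteDimensional F V] : Finite Φ.O := by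
  have := finite_of_fd F V
  exact Finite.of_injective (fun g : Φ.O => (g.1 : V → V)) fun g h e => O_ext _ (congrFun e)

end AE

section Sp

variable {F V : Type*} [Field F] [AddCommGroup V] [Module F V] [FiniteDimensional F V]
  {Φ : Form (RingHom.id F) V} (hΦ : Φ.Nondeg) (hε : Φ.ε = -1) (hκ : Φ.κ = 0)
  {E : Submodule F V} (hE : ∀ u ∈ E, ∀ v ∈ E, Φ.B u v = 0)

/-- short root elements -/
noncomputable def spS (u v : V) : Φ.O :=
  spTv hΦ hε hκ (u + v) 1 * spTv hΦ hε hκ u (-1) * spTv hΦ hε hκ v (-1)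

include hE

theorem spTv_mem {v : V} (hv : v ∈ E) (c : F) : spTv hΦ hε hκ v c ∈ AE Φ E :=
  ⟨fun x => by simpa [spTv_apply] using E.smul_mem _ hv, fun e he => by
    simp [spTv_apply, hE v hv e he]⟩

theorem spS_mem {u v : V} (hu : u ∈ E) (hv : v ∈ E) : spS hΦ hε hκ u v ∈ AE Φ E :=
  mul_mem (mul_mem (spTv_mem hΦ hε hκ hE (add_mem hu hv) _) (spTv_mem hΦ hε hκ hE hu _))
    (spTv_mem hΦ hε hκ hE hv _)

theorem spS_apply {u v : V} (hu : u ∈ E) (hv : v ∈ E) (x : V) :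
    (spS hΦ hε hκ u v).1 x = x + Φ.B u x • v + Φ.B v x • u := by
  simp only [spS, O_mul_apply, spTv_apply, map_add, map_smul, LinearMap.add_apply, hE u hu v hv,
    hE v hv u hu, hE u hu u hu, hE v hv v hv, smul_eq_mul, mul_zero, add_zero]
  module

variable [Fintype F] {W : Type*} [AddCommGroup W] [Module ℂ W] {ρ : Representation ℂ Φ.O W}

theorem chi_spS {χ : Φ.O → ℂ} (h : wt ρ (AE Φ E) χ ≠ ⊥) {f : E → F}
    (hf : ∀ (v : E) c, χ (spTv hΦ hε hκ v c) = LC.ψ0 F (f v * c)) (u v : E) (c : F) :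
    χ (spS hΦ hε hκ (c • u) v) = LC.ψ0 F ((f (u + v) - f u - f v) * c) := by
  have m := fun (v : E) c => spTv_mem hΦ hε hκ hE v.2 c
  have m' := spS_mem hΦ hε hκ hE (E.smul_mem c u.2) v.2
  have h1 : spTv hΦ hε hκ (u + v : E) c =
      spTv hΦ hε hκ u c * spTv hΦ hε hκ v c * spS hΦ hε hκ (c • u) v := O_ext _ fun x => by
    rw [AE_mul_apply (mul_mem (m u c) (m v c)) m', AE_mul_apply (m u c) (m v c),
      spS_apply hΦ hε hκ hE (E.smul_mem c u.2) v.2]
    simp only [spTv_apply, Submodule.coe_add, map_add, LinearMap.add_apply, Form.B_smul_left,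
      RingHom.id_apply]
    module
  have h2 := hf (u + v) c
  rw [h1, wt_mul h (mul_mem (m u c) (m v c)) m' (mul_mem (mul_mem (m u c) (m v c)) m'),
    wt_mul h (m u c) (m v c) (mul_mem (m u c) (m v c)), hf, hf, ← AddChar.map_add_eq_mul] at h2
  rw [sub_sub, sub_mul, add_mul, AddChar.map_sub_eq_div, ← h2, mul_div_cancel_left₀]
  exact (AddChar.val_isUnit _ _).ne_zero

theorem exists_Q {χ : Φ.O → ℂ} (h : wt ρ (AE Φ E) χ ≠ ⊥) :
    ∃ Q : QuadraticForm F E, ∀ (v : E) c, χ (spTv hΦ hε hκ v c) = LC.ψ0 F (Q v * c) := by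
  have m := fun (v : E) c => spTv_mem hΦ hε hκ hE v.2 c
  choose f hf using fun v : E => exists_shift (f := fun c => χ (spTv hΦ hε hκ v c)) LC.hψ0
    (by
      rw [show spTv hΦ hε hκ v 0 = 1 from O_ext _ fun x => by simp [spTv_apply]]
      exact wt_one h (one_mem _))
    fun c d => by rw [spTv_add, wt_mul h (m v c) (m v d) (mul_mem (m v c) (m v d))]
  have h1 := chi_spS hΦ hε hκ hE h hf
  refine ⟨QuadraticMap.ofPolar f (fun t v => shift_inj LC.hψ0 fun c => ?_)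
    (fun u u' v => shift_inj LC.hψ0 fun c => ?_) (fun t u v => shift_inj LC.hψ0 fun c => ?_), hf⟩
  · rw [← hf, Submodule.coe_smul, spTv_smul, hf]
    congr 1
    simp only [smul_eq_mul]
    ring
  · have m1 := spS_mem hΦ hε hκ hE (E.smul_mem c u.2) v.2
    have m2 := spS_mem hΦ hε hκ hE (E.smul_mem c u'.2) v.2
    simp only [QuadraticMap.polar]
    rw [add_mul, AddChar.map_add_eq_mul, ← h1, ← h1, ← h1, ← wt_mul h m1 m2 (mul_mem m1 m2)]
    congr 1
    refine O_ext _ fun x => ?_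
    rw [AE_mul_apply m1 m2, spS_apply hΦ hε hκ hE (E.smul_mem c u.2) v.2,
      spS_apply hΦ hε hκ hE (E.smul_mem c u'.2) v.2,
      spS_apply hΦ hε hκ hE (E.smul_mem c (u + u').2) v.2]
    simp only [Submodule.coe_add, map_add, LinearMap.add_apply, Form.B_smul_left,
      RingHom.id_apply]
    module
  · simp only [QuadraticMap.polar]
    rw [← h1, Submodule.coe_smul, smul_smul, h1, smul_eq_mul]
    congr 1
    ring

omit hE in
variable (ρ E) in
/-- the quadratic forms that occur as weights -/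
def spW : Set (QuadraticForm F E) :=
  {Q | ∃ χ, wt ρ (AE Φ E) χ ≠ ⊥ ∧ ∀ (v : E) c, χ (spTv hΦ hε hκ v c) = LC.ψ0 F (Q v * c)}

omit hE in
theorem spW_finite : (spW hΦ hε hκ E ρ).Finite := by
  have := finite_of_fd F E
  have : Finite (QuadraticForm F E) := Finite.of_injective _ DFunLike.coe_injective
  exact Set.toFinite _

theorem ncard_spW [FiniteDimensional ℂ W] : (spW hΦ hε hκ E ρ).ncard ≤ finrank ℂ W := by
  have := mul_ncard_le (ρ := ρ) (A := AE Φ E) (spW_finite hΦ hε hκ (ρ := ρ) (E := E)) (r := 1)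
    (fun Q χ => ∀ (v : E) c, χ (spTv hΦ hε hκ v c) = LC.ψ0 F (Q v * c))
    (fun Q ⟨χ, h1, h2⟩ => ⟨χ, h2, Submodule.one_le_finrank_iff.2 h1⟩)
    fun Q Q' χ χ' h h' e => QuadraticMap.ext fun v => shift_inj LC.hψ0 fun c => by
      rw [← h, ← h', e _ (spTv_mem hΦ hε hκ hE v.2 c)]
  rwa [one_mul] at this

theorem comp_mem_spW {Q : QuadraticForm F E} (h : Q ∈ spW hΦ hε hκ E ρ) (k : E ≃ₗ[F] E) :
    Q.comp k.toLinearMap ∈ spW hΦ hε hκ E ρ := by
  obtain ⟨χ, h1, h2⟩ := h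
  obtain ⟨g, hg, hk⟩ := hΦ.witt k (fun x y => by rw [hE _ x.2 _ y.2, hE _ (k x).2 _ (k y).2])
    fun x => by rw [Q_of_κ hκ, Q_of_κ hκ]
  refine ⟨_, wt_conj h1 (g := (⟨g, hg⟩ : Φ.O)⁻¹) fun a ha => ?_, fun v c => ?_⟩
  · rw [inv_inv]
    exact AE_conj (fun e he => by rw [show g e = _ from hk ⟨e, he⟩]; exact Subtype.property _) ha
  · simp only [inv_inv, conj_spTv, hk, h2, QuadraticMap.comp_apply, LinearEquiv.coe_coe]

include hΦ hε hκ in
theorem sp_odd [FiniteDimensional ℂ W] (h2 : (2 : F) ≠ 0) (h0 : E ≠ ⊥) (hρ : ¬ ∀ g, ρ g = 1) :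
    Fintype.card F ^ finrank F E - 1 ≤ 2 * finrank ℂ W := by
  have := finite_O (Φ := Φ)
  obtain ⟨v0, hv0, hv⟩ := Submodule.exists_mem_ne_zero_of_ne_bot h0
  obtain ⟨c, hc⟩ : ∃ c, ρ (spTv hΦ hε hκ v0 c) ≠ 1 := by
    by_contra! hc
    refine hρ fun g => ?_
    refine ((Subgroup.closure_le ρ.ker).2 ?_ (closure_spTv hΦ hε hκ ▸ Subgroup.mem_top g) :)
    rintro _ ⟨v, c, rfl⟩
    by_cases hv' : v = 0
    · rw [show spTv hΦ hε hκ v c = 1 from O_ext _ fun x => by simp [spTv_apply, hv']]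
      exact one_mem _
    obtain ⟨k, hk, rfl⟩ := hΦ.witt_one hv hv' (by rw [(sing_alt hε hκ _).1, (sing_alt hε hκ _).1])
      (by rw [Q_of_κ hκ, Q_of_κ hκ])
    rw [← conj_spTv hΦ hε hκ v0 c ⟨k, hk⟩]
    exact ρ.normal_ker.conj_mem _ (hc c) _
  obtain ⟨χ, h1, h3⟩ := exists_wt (AE Φ E) (fun _ ha _ hb => AE_comm ha hb)
    (spTv_mem hΦ hε hκ hE hv0 c) hc
  obtain ⟨Q0, hQ0⟩ := exists_Q hΦ hε hκ hE h1
  have ha : Q0 ⟨v0, hv0⟩ ≠ 0 := fun e => h3 (by rw [hQ0 ⟨v0, hv0⟩, e]; simp)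
  refine le_trans (abs_one (spW_finite hΦ hε hκ (ρ := ρ) (E := E)) (fun Q => Q)
    (a := Q0 ⟨v0, hv0⟩) (fun v hv' => ?_) (fun Q hQ φ v h => ?_) (fun Q _ v h y => ?_)
    fun Q _ v h y s s' e => ?_) (Nat.mul_le_mul_left _ (ncard_spW hΦ hε hκ hE))
  · obtain ⟨k, hk⟩ := exists_equiv_map_family (F := F) (v := fun _ : Unit => v)
      (w := fun _ : Unit => (⟨v0, hv0⟩ : E)) (linearIndependent_unique_iff.2 hv')
      (linearIndependent_unique_iff.2 fun e => hv (congrArg Subtype.val e))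
    exact ⟨_, comp_mem_spW hΦ hε hκ hE ⟨χ, h1, hQ0⟩ k, by simp [hk ()]⟩
  · exact ⟨_, comp_mem_spW hΦ hε hκ hE hQ (LC.t v φ), fun x => by simp [LC.t_apply h]⟩
  · refine le_trans (Set.ncard_le_ncard fun t ht => ?_)
      (ncard_quad_le (b := QuadraticMap.polar Q y v) (c := Q y - Q0 ⟨v0, hv0⟩) ha)
    have h4 : Q (y + t • v) = _ := ht
    rw [QuadraticMap.map_add Q, QuadraticMap.polar_smul_right, Q.map_smul, h] at h4
    simp only [smul_eq_mul] at h4
    change _ = _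
    linear_combination h4
  · have e0 := e 0
    have e1 := e 1
    simp only [QuadraticMap.map_add Q, QuadraticMap.polar_smul_right, Q.map_smul, h,
      smul_eq_mul] at e0 e1
    refine mul_left_cancel₀ (mul_ne_zero h2 ha) ?_
    linear_combination e1 - e0

include hΦ hε hκ in
theorem sp_even [FiniteDimensional ℂ W] (h2 : ringChar F = 2) (h0 : 2 ≤ finrank F E)
    (hperf : commutator Φ.O = ⊤) (hρ : ¬ ∀ g, ρ g = 1) :
    (Fintype.card F ^ finrank F E - 1) * (Fintype.card F ^ finrank F E - Fintype.card F) ≤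
      2 * (Fintype.card F + 1) * finrank ℂ W := by
  have := finite_O (Φ := Φ)
  have : Nontrivial E := Module.nontrivial_of_finrank_pos (R := F) (by omega)
  have : Nontrivial V := E.subtype_injective.nontrivial
  obtain ⟨u, hu⟩ := exists_ne (0 : E)
  obtain ⟨v, hv⟩ : ∃ v : E, v ∉ F ∙ u := by
    by_contra! h
    have h1 := finrank_span_singleton (K := F) hu
    rw [Submodule.eq_top_iff'.2 h, finrank_top] at h1
    omega
  have hc : ρ (spS hΦ hε hκ ((1 : F) • u) v) ≠ 1 := by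
    intro hc
    rcases normal_le_center_or_eq_top_alt hΦ hε hκ hperf ρ.ker ρ.normal_ker with h | h
    · obtain ⟨x, hx⟩ := hΦ.exists_ne (x := u) fun e => hu (Subtype.ext e)
      have h3 := congrArg (fun g : Φ.O => g.1 u) (Subgroup.mem_center_iff.1 (h hc) (spTv hΦ hε hκ x 1))
      have h4 : Φ.B x u = -1 := by rw [Φ.symm, hx, hε]; simp
      simp only [one_smul, O_mul_apply, spS_apply hΦ hε hκ hE u.2 v.2, spTv_apply, hE _ u.2 _ u.2,
        hE _ v.2 _ u.2, h4, hx, map_add, map_smul] at h3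
      refine hv (Submodule.mem_span_singleton.2 ⟨-Φ.B v x, Subtype.ext ?_⟩)
      simp only [Submodule.coe_smul]
      linear_combination (norm := module) -h3
    · exact hρ fun g => h.ge (Subgroup.mem_top g)
  obtain ⟨χ, h1, h3⟩ := exists_wt (AE Φ E) (fun _ ha _ hb => AE_comm ha hb)
    (spS_mem hΦ hε hκ hE (E.smul_mem 1 u.2) v.2) hc
  obtain ⟨Q0, hQ0⟩ := exists_Q hΦ hε hκ hE h1
  refine le_trans (abs_two h2 (spW_finite hΦ hε hκ (ρ := ρ) (E := E))
    (fun Q hQ k => comp_mem_spW hΦ hε hκ hE hQ k) ⟨χ, h1, hQ0⟩ (u := u) (v := v) fun e => h3 ?_)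
    (Nat.mul_le_mul_left _ (ncard_spW hΦ hε hκ hE))
  rw [chi_spS hΦ hε hκ hE h1 hQ0, show Q0 (u + v) - Q0 u - Q0 v = 0 from e]
  simp

end Sp

theorem exists_lagr (F : Type*) [Field F] (n : ℕ) : ∃ E : Submodule F (Fin n ⊕ Fin n → F),
    (∀ u ∈ E, ∀ v ∈ E, (spForm n F).B u v = 0) ∧ finrank F E = n := by
  obtain ⟨v, h1, h2⟩ := exists_isotropic_sp (F := F) (le_refl n)
  refine ⟨Submodule.span F (Set.range v), (Form.totSing_span ?_ fun x _ => Q_of_κ rfl x).1, ?_⟩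
  · rintro _ ⟨i, rfl⟩ _ ⟨j, rfl⟩
    exact h2 i j
  · rw [finrank_span_eq_card h1, Fintype.card_fin]

theorem comp_ne_one {G H W : Type*} [Group G] [Group H] [AddCommGroup W] [Module ℂ W]
    {ρ : Representation ℂ G W} (e : G ≃* H) (h : ¬ ∀ g, ρ g = 1) :
    ¬ ∀ g, (ρ.comp e.symm.toMonoidHom : Representation ℂ H W) g = 1 :=
  fun h1 => h fun g => by simpa using h1 (e g)

end H22.Ls
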