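import Cfsg.Agent.H22.LsC

/-!
The Weil representation of a finite symplectic group in odd characteristic.
-/

set_option autoImplicit false

namespace H22.Ls

open Module H23 H23.Form

section Dt

variable {W : Type*} [AddCommGroup W] [Module ℂ W]

open Classical in
/-- determinant on an invariant subspace -/
noncomputable def dt (U : Submodule ℂ W) (T : End ℂ W) : ℂ :=
  if h : ∀ x ∈ U, T x ∈ U then LinearMap.det (T.restrict h) else 0

theorem dt_one (U : Submodule ℂ W) : dt U 1 = 1 := by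
  rw [dt, dif_pos (show ∀ x ∈ U, (1 : End ℂ W) x ∈ U from fun _ h => h)]
  exact (congrArg LinearMap.det (LinearMap.ext fun _ => rfl)).trans LinearMap.det_id

theorem dt_mul {U : Submodule ℂ W} {S T : End ℂ W} (hS : ∀ x ∈ U, S x ∈ U)
    (hT : ∀ x ∈ U, T x ∈ U) : dt U (S * T) = dt U S * dt U T := by
  rw [dt, dif_pos (show ∀ x ∈ U, (S * T) x ∈ U from fun x h => hS _ (hT x h)), dt, dif_pos hS, dt, dif_pos hT, ← map_mul]
  rfl

theorem dt_smul [FiniteDimensional ℂ W] {U : Submodule ℂ W} {T : End ℂ W} (hT : ∀ x ∈ U, T x ∈ U)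
    (c : ℂ) : dt U (c • T) = c ^ finrank ℂ U * dt U T := by
  rw [dt, dif_pos (show ∀ x ∈ U, (c • T) x ∈ U from fun x h => U.smul_mem c (hT x h)), dt,
    dif_pos hT, ← LinearMap.det_smul]
  rfl

end Dt

variable {F V : Type*} [Field F] [AddCommGroup V] [Module F V]

theorem sum_char [Fintype V] {ψ : AddChar F ℂ} (hψ : ∃ a, ψ a ≠ 1) {φ : Dual F V} (h : φ ≠ 0) :
    ∑ x, ψ (φ x) = 0 := by
  refine (AddChar.sum_eq_zero_iff_ne_zero (ψ := ψ.compAddMonoidHom φ.toAddMonoidHom)).2 fun e => h ?_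
  exact LinearMap.ext fun y => eq_zero_of_addChar hψ fun t => by
    simpa using DFunLike.congr_fun e (t • y)

/-- Weyl operators -/
structure WD (Φ : Form (RingHom.id F) V) (ψ : AddChar F ℂ) (W : Type*) [AddCommGroup W]
    [Module ℂ W] where
  w : V → End ℂ W
  mul : ∀ u v, w u * w v = ψ (Φ.B u v / 2) • w (u + v)
  zero : w 0 = 1
  dim : finrank ℂ W ^ 2 = Nat.card V
  hΦ : Φ.Nondeg
  hε : Φ.ε = -1
  hκ : Φ.κ = 0
  h2 : (2 : F) ≠ 0
  hψ : ∃ a, ψ a ≠ 1

namespace WD

variable {Φ : Form (RingHom.id F) V} {ψ : AddChar F ℂ} {W : Type*} [AddCommGroup W] [Module ℂ W]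
  (D : WD Φ ψ W)

include D in
theorem alt (v : V) : Φ.B v v = 0 := (sing_alt D.hε D.hκ v).1

include D in
theorem skew (u v : V) : Φ.B v u = -Φ.B u v := by rw [Φ.symm, D.hε]; simp

theorem mul_neg (v : V) : D.w v * D.w (-v) = 1 := by simp [D.mul, D.alt, D.zero]

theorem neg_mul (v : V) : D.w (-v) * D.w v = 1 := by simp [D.mul, D.alt, D.zero]

theorem conj (u v : V) : D.w u * D.w v * D.w (-u) = ψ (Φ.B u v) • D.w v := by
  rw [D.mul, smul_mul_assoc, D.mul, smul_smul, ← AddChar.map_add_eq_mul]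
  simp only [map_add, map_neg, LinearMap.add_apply, D.alt, D.skew u v, zero_add, neg_neg,
    add_neg_cancel_comm]
  congr 2
  have := D.h2
  field_simp
  ring

variable [Fintype V] [FiniteDimensional ℂ W]

include D in
theorem dim_pos : 0 < finrank ℂ W :=
  Nat.pos_of_ne_zero fun e => by
    have := D.dim
    rw [e] at this
    exact (Nat.card_pos (α := V)).ne (by simpa using this)

include D in
theorem dim_ne : (finrank ℂ W : ℂ) ≠ 0 := Nat.cast_ne_zero.2 D.dim_pos.ne'

include D in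
theorem dim' : (Fintype.card V : ℂ) = (finrank ℂ W : ℂ) ^ 2 := by
  rw [← Nat.card_eq_fintype_card, ← D.dim, Nat.cast_pow]

omit [Fintype V] in
theorem tr {v : V} (hv : v ≠ 0) : LinearMap.trace ℂ W (D.w v) = 0 := by
  obtain ⟨u, hu⟩ : ∃ u, ψ (Φ.B u v) ≠ 1 := by
    by_contra! h
    exact hv (bA_nondeg' D.hΦ D.hψ v h)
  have := congrArg (LinearMap.trace ℂ W) (D.conj u v)
  rw [LinearMap.trace_mul_comm, ← mul_assoc, D.neg_mul, one_mul, map_smul, smul_eq_mul] at this
  exact (mul_left_eq_self₀.1 this.symm).resolve_left hu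

theorem li : LinearIndependent ℂ D.w := by
  rw [Fintype.linearIndependent_iff]
  intro c hc i
  have := congrArg (fun x => LinearMap.trace ℂ W (D.w (-i) * x)) hc
  simp only [Finset.mul_sum, map_sum, mul_smul_comm, map_smul, mul_zero, map_zero] at this
  rw [Finset.sum_eq_single i (fun j _ hj => by
    rw [D.mul, map_smul, D.tr (by rwa [Ne, neg_add_eq_zero, eq_comm]), smul_zero, smul_zero])
    (by simp), D.neg_mul, LinearMap.trace_one] at this
  simpa [D.dim_pos.ne'] using this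

/-- the Weyl operators form a basis -/
noncomputable def bs : Basis V ℂ (End ℂ W) :=
  basisOfLinearIndependentOfCardEqFinrank D.li
    (by rw [Module.finrank_linearMap, ← sq, D.dim, Nat.card_eq_fintype_card])

@[simp] theorem bs_apply (v : V) : D.bs v = D.w v := by simp [bs]

theorem scalar {T : End ℂ W} (h : ∀ v, T * D.w v = D.w v * T) : ∃ c : ℂ, T = c • 1 := by
  obtain ⟨c, hc⟩ := (Algebra.IsCentral.mem_center_iff ℂ).1 (show T ∈ Subalgebra.center ℂ (End ℂ W) from
    Subalgebra.mem_center_iff.2 fun S => by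
      rw [← D.bs.sum_repr S]
      simp only [Finset.mul_sum, Finset.sum_mul, smul_mul_assoc, mul_smul_comm, bs_apply, h])
  exact ⟨c, by rw [hc, Algebra.algebraMap_eq_smul_one]⟩

theorem exists_M (g : Φ.O) : ∃ M : (End ℂ W)ˣ, ∀ v, M.1 * D.w v = D.w (g.1 v) * M.1 := by
  let f := D.bs.equiv D.bs g.1.toEquiv
  have hf : ∀ v, f (D.w v) = D.w (g.1 v) := fun v => by
    rw [← bs_apply, Basis.equiv_apply, bs_apply]; rfl
  obtain ⟨T, hT⟩ := (AlgEquiv.ofLinearEquiv f (by rw [← D.zero, hf, map_zero])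
    ((LinearMap.map_mul_iff f.toLinearMap).2 (D.bs.ext fun u => D.bs.ext fun v => by
      simp [D.mul, hf, O_B]))).eq_linearEquivConjAlgEquiv
  refine ⟨LinearMap.GeneralLinearGroup.ofLinearEquiv T, fun v => ?_⟩
  have := DFunLike.congr_fun hT (D.w v)
  rw [AlgEquiv.ofLinearEquiv_apply, hf, LinearEquiv.conjAlgEquiv_apply] at this
  rw [this]
  ext x
  simp

/-- the parity operator -/
noncomputable def P : End ℂ W := (finrank ℂ W : ℂ)⁻¹ • ∑ v, D.w v

theorem P_mul (u : V) : D.P * D.w u = D.w (-u) * D.P := by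
  have h : D.w u * D.P * D.w u = D.P := by
    simp only [P, mul_smul_comm, smul_mul_assoc, Finset.mul_sum, Finset.sum_mul]
    congr 1
    refine Fintype.sum_equiv (Equiv.addRight (u + u)) _ _ fun v => ?_
    rw [D.mul, smul_mul_assoc, D.mul, smul_smul, ← AddChar.map_add_eq_mul]
    simp only [map_add, LinearMap.add_apply, D.alt, D.skew u v, zero_add, neg_div, add_neg_cancel,
      AddChar.map_zero_eq_one, one_smul, Equiv.coe_addRight]
    congr 1
    abel
  rw [← h, ← mul_assoc, ← mul_assoc, D.neg_mul, one_mul, h]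

theorem P_sq : D.P * D.P = 1 := by
  classical
  have h : (∑ u, D.w u) * ∑ v, D.w v = (Fintype.card V : ℂ) • 1 := by
    have h1 : ∀ u, D.w u * ∑ v, D.w v = ∑ z, ψ (Φ.B u z / 2) • D.w z := fun u => by
      rw [Finset.mul_sum]
      refine Fintype.sum_equiv (Equiv.addLeft u) _ _ fun v => ?_
      simp [D.mul, D.alt]
    rw [Finset.sum_mul]
    simp only [h1]
    rw [Finset.sum_comm, Finset.sum_eq_single 0 (fun z _ hz => ?_) (by simp)]
    · simp [D.zero, Nat.cast_smul_eq_nsmul]
    · rw [← Finset.sum_smul]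
      have := sum_char D.hψ (φ := -(2 : F)⁻¹ • Φ.B z) fun e => hz (D.hΦ z fun y => by
        simpa [D.h2] using LinearMap.congr_fun e y)
      rw [← zero_smul ℂ (D.w z), ← this]
      congr 2
      ext u
      simp [D.skew z u, div_eq_inv_mul]
  rw [P, smul_mul_smul_comm, h, smul_smul, D.dim', sq, mul_mul_mul_comm, inv_mul_cancel₀ D.dim_ne,
    one_mul, one_smul]

theorem tr_P : LinearMap.trace ℂ W D.P = 1 := by
  rw [P, map_smul, map_sum, Finset.sum_eq_single 0 (fun v _ hv => D.tr hv) (by simp), D.zero,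
    LinearMap.trace_one, smul_eq_mul, inv_mul_cancel₀ D.dim_ne]

theorem comm_P {M : End ℂ W} {g : Φ.O} (h : ∀ v, M * D.w v = D.w (g.1 v) * M) :
    M * D.P = D.P * M := by
  simp only [P, mul_smul_comm, smul_mul_assoc, Finset.mul_sum, Finset.sum_mul, h]
  congr 1
  exact Fintype.sum_equiv g.1.toEquiv _ _ fun _ => rfl

/-- the even and odd parts -/
noncomputable def U (s : ℂ) : Submodule ℂ W := LinearMap.ker (D.P - s • 1)

theorem mem_U {s : ℂ} {x : W} : x ∈ D.U s ↔ D.P x = s • x := by simp [U, sub_eq_zero]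

theorem apply_mem_U {M : End ℂ W} (h : M * D.P = D.P * M) (s : ℂ) : ∀ x ∈ D.U s, M x ∈ D.U s :=
  fun x hx => by
    rw [mem_U] at hx ⊢
    rw [← Module.End.mul_apply, ← h, Module.End.mul_apply, hx, map_smul]

/-- projections onto the even and odd parts -/
noncomputable def pr (s : ℂ) : End ℂ W := (2 : ℂ)⁻¹ • (1 + s • D.P)

theorem isProj {s : ℂ} (hs : s * s = 1) : LinearMap.IsProj (D.U s) (D.pr s) := by
  refine ⟨fun x => ?_, fun x hx => ?_⟩
  · have : D.P (D.P x) = x := LinearMap.congr_fun D.P_sq x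
    simp only [mem_U, pr, LinearMap.smul_apply, LinearMap.add_apply, Module.End.one_apply, map_smul,
      map_add, this]
    linear_combination (norm := module) (-(2 : ℂ)⁻¹ • hs) • D.P x
  · simp only [pr, LinearMap.smul_apply, LinearMap.add_apply, Module.End.one_apply, D.mem_U.1 hx,
      smul_smul, hs]
    module

theorem finrank_U {s : ℂ} (hs : s * s = 1) : (finrank ℂ (D.U s) : ℂ) = (finrank ℂ W + s) / 2 := by
  rw [← (D.isProj hs).trace, pr, map_smul, map_add, map_smul, D.tr_P, LinearMap.trace_one]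
  simp [div_eq_inv_mul]

theorem finrank_even : 2 * finrank ℂ (D.U 1) = finrank ℂ W + 1 := by
  have := D.finrank_U (one_mul 1)
  exact_mod_cast (by rw [this]; ring : (2 * finrank ℂ (D.U 1) : ℂ) = finrank ℂ W + 1)

theorem finrank_odd : 2 * finrank ℂ (D.U (-1)) + 1 = finrank ℂ W := by
  have := D.finrank_U (s := -1) (by simp)
  exact_mod_cast (by rw [this]; ring : (2 * finrank ℂ (D.U (-1)) + 1 : ℂ) = finrank ℂ W)

/-- normalisation of an intertwiner -/
noncomputable def nm (M : End ℂ W) : End ℂ W := (dt (D.U (-1)) M / dt (D.U 1) M) • M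

theorem nm_mul {M N : End ℂ W} (hM : M * D.P = D.P * M) (hN : N * D.P = D.P * N) :
    D.nm (M * N) = D.nm M * D.nm N := by
  simp only [nm, dt_mul (D.apply_mem_U hM _) (D.apply_mem_U hN _), smul_mul_smul_comm,
    div_mul_div_comm]

theorem nm_smul {M : End ℂ W} (hM : M * D.P = D.P * M) {c : ℂ} (hc : c ≠ 0) :
    D.nm (c • M) = D.nm M := by
  have h : finrank ℂ (D.U 1) = finrank ℂ (D.U (-1)) + 1 := by
    have := D.finrank_even
    have := D.finrank_odd
    omega
  simp only [nm, dt_smul (D.apply_mem_U hM _), smul_smul, h]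
  congr 1
  by_cases h0 : dt (D.U 1) M = 0
  · simp [h0]
  · field_simp
    ring

theorem exists_weil : ∃ ω : Representation ℂ Φ.O W, ∀ g v, ω g * D.w v = D.w (g.1 v) * ω g := by
  have : Nontrivial W := Module.nontrivial_of_finrank_pos D.dim_pos
  choose M hM using D.exists_M
  have key : ∀ g (N : (End ℂ W)ˣ), (∀ v, N.1 * D.w v = D.w (g.1 v) * N.1) →
      D.nm N.1 = D.nm (M g).1 := by
    intro g N hN
    obtain ⟨c, hc⟩ := D.scalar (T := ((M g)⁻¹ * N).1) fun v => by
      rw [Units.val_mul, mul_assoc, hN, Units.inv_mul_eq_iff_eq_mul, ← mul_assoc, hM, mul_assoc,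
        Units.mul_inv_cancel_left]
    have h1 : N.1 = c • (M g).1 := by
      rw [← mul_one (M g).1, ← mul_smul_comm, ← hc, ← Units.val_mul, mul_inv_cancel_left]
    rw [h1, D.nm_smul (D.comm_P (hM g))]
    rintro rfl
    exact N.ne_zero (by simpa using h1)
  refine ⟨⟨⟨fun g => D.nm (M g).1, ?_⟩, fun g h => ?_⟩, fun g v => ?_⟩
  · rw [← key 1 1 (by simp)]
    simp [nm, dt_one]
  · change D.nm _ = D.nm _ * D.nm _
    rw [← D.nm_mul (D.comm_P (hM g)) (D.comm_P (hM h)), ← Units.val_mul, key (g * h) (M g * M h)]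
    intro v
    rw [Units.val_mul, mul_assoc, hM, ← mul_assoc, hM, mul_assoc, O_mul_apply]
  · simp [nm, hM]

theorem commutant [FiniteDimensional F V] {ω : Representation ℂ Φ.O W}
    (hω : ∀ g v, ω g * D.w v = D.w (g.1 v) * ω g) {T : End ℂ W} (hT : ∀ g, T * ω g = ω g * T) :
    ∃ a b : ℂ, T = a • 1 + b • D.P := by
  classical
  have h1 : ∀ (g : Φ.O) v, D.bs.repr T (g.1 v) = D.bs.repr T v := by
    intro g v
    have h2 : T = ∑ u, D.bs.repr T u • D.w (g.1 u) := by
      calc T = ω g * T * ω g⁻¹ := by rw [← hT, mul_assoc, ← map_mul, mul_inv_cancel, map_one, mul_one]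
        _ = _ := by
          conv_lhs => rw [← D.bs.sum_repr T]
          simp only [Finset.mul_sum, Finset.sum_mul, mul_smul_comm, smul_mul_assoc, bs_apply, hω,
            mul_assoc, ← map_mul, mul_inv_cancel, map_one, mul_one]
    conv_lhs => rw [h2]
    simp only [map_sum, map_smul, ← bs_apply, Basis.repr_self, Finsupp.coe_finsetSum,
      Finset.sum_apply, Finsupp.smul_apply, Finsupp.single_apply, EmbeddingLike.apply_eq_iff_eq,
      smul_eq_mul, mul_ite, mul_one, mul_zero, Finset.sum_ite_eq', Finset.mem_univ, if_true]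
  obtain ⟨c, hc⟩ : ∃ c, ∀ v ≠ 0, D.bs.repr T v = c := by
    by_cases h : ∃ v0 : V, v0 ≠ 0
    · obtain ⟨v0, h0⟩ := h
      refine ⟨D.bs.repr T v0, fun v hv => ?_⟩
      obtain ⟨g, hg, rfl⟩ := D.hΦ.witt_one h0 hv (by rw [D.alt, D.alt])
        (by rw [Q_of_κ D.hκ, Q_of_κ D.hκ])
      exact h1 ⟨g, hg⟩ v0
    · exact ⟨0, fun v hv => absurd ⟨v, hv⟩ h⟩
  refine ⟨D.bs.repr T 0 - c, c * finrank ℂ W, ?_⟩
  rw [P, smul_smul, mul_inv_cancel_right₀ D.dim_ne, Finset.smul_sum,
    ← Finset.add_sum_erase _ _ (Finset.mem_univ 0), D.zero, ← add_assoc, ← add_smul, sub_add_cancel]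
  conv_lhs => rw [← D.bs.sum_repr T, ← Finset.add_sum_erase _ _ (Finset.mem_univ 0)]
  rw [bs_apply, D.zero]
  congr 1
  exact Finset.sum_congr rfl fun v hv => by rw [hc v (Finset.ne_of_mem_erase hv), bs_apply]

theorem U_ne_bot {s : ℂ} (hs : s = 1 ∨ s = -1) (h : 2 ≤ finrank ℂ W) : D.U s ≠ ⊥ := by
  have := D.finrank_even
  have := D.finrank_odd
  rw [← Submodule.one_le_finrank_iff]
  rcases hs with rfl | rfl <;> omega

theorem commutant_U [FiniteDimensional F V] {ω : Representation ℂ Φ.O W}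
    (hω : ∀ g v, ω g * D.w v = D.w (g.1 v) * ω g) (s : ℂ) (T : End ℂ W)
    (hT : ∀ g, T * ω g = ω g * T) : ∃ c : ℂ, ∀ x ∈ D.U s, T x = c • x := by
  obtain ⟨a, b, rfl⟩ := D.commutant hω hT
  exact ⟨a + b * s, fun x hx => by simp [D.mem_U.1 hx, add_smul, smul_smul]⟩

theorem pr_comm {M : End ℂ W} (h : M * D.P = D.P * M) (s : ℂ) : D.pr s * M = M * D.pr s := by
  simp [pr, mul_add, add_mul, h]

end WD

/-- the Schrödinger model -/
noncomputable def stdWD (F : Type*) [Field F] [Fintype F] (n : ℕ) (h2 : (2 : F) ≠ 0)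
    {ψ : AddChar F ℂ} (hψ : ∃ a, ψ a ≠ 1) : WD (spForm n F) ψ ((Fin n → F) → ℂ) where
  w v :=
    { toFun := fun f t => ψ (∑ i, v (.inl i) * (t i + v (.inr i) / 2)) * f (t + fun i => v (.inr i))
      map_add' := fun f g => by ext t; simp [mul_add]
      map_smul' := fun c f => by ext t; simp [mul_left_comm] }
  mul u v := by
    refine LinearMap.ext fun f => funext fun t => ?_
    simp only [Module.End.mul_apply, LinearMap.coe_mk, AddHom.coe_mk, LinearMap.smul_apply,
      Pi.smul_apply, smul_eq_mul, ← mul_assoc, ← AddChar.map_add_eq_mul, spForm_B, sympForm_eq,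
      Finset.sum_div, ← Finset.sum_add_distrib, Pi.add_apply]
    congr 2
    · refine Finset.sum_congr rfl fun i _ => ?_
      field_simp
      ring
    · ext i; simp [add_assoc]
  zero := by
    refine LinearMap.ext fun f => funext fun t => ?_
    simp [← Pi.zero_def]
  dim := by
    classical
    simp [← pow_add, sq]
  hΦ := spForm_nondeg n
  hε := rfl
  hκ := rfl
  h2 := h2
  hψ := hψ

end H22.Ls
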