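import Cfsg.Agent.H7.J4p

/-! The normaliser of a subgroup of order 23 in `M24`. -/

set_option autoImplicit false

namespace H22.M24ab

open Cfsg Cfsg.Spor H29.J4m Subgroup H27
open scoped Pointwise

theorem cent_perm {σ : Equiv.Perm GolayPt} (h : orderOf σ = 23) :
    Nat.card (centralizer ({σ} : Set (Equiv.Perm GolayPt))) = 23 := by
  classical
  obtain ⟨n, hn⟩ := Equiv.Perm.cycleType_prime_order (σ := σ) (by rw [h]; norm_num)
  have h1 := σ.sum_cycleType_le
  rw [hn, h, Multiset.sum_replicate, card_pt, smul_eq_mul] at h1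
  have h0 : n = 0 := by omega
  rw [Equiv.Perm.nat_card_centralizer, hn, h, h0, card_pt]
  simp

theorem m24a (s : MM) (hs : orderOf s = 23) :
    Nat.card (normalizer (zpowers s : Set MM)) = 253 := by
  haveI : Fact (Nat.Prime 23) := ⟨by norm_num⟩
  have hc : Nat.card (zpowers s) = 23 := by rw [Nat.card_zpowers, hs]
  have hp : IsPGroup 23 (zpowers s) := IsPGroup.of_card (n := 1) (by simpa using hc)
  have hi : (zpowers s).index = 10644480 := by
    have := (zpowers s).card_mul_index
    rw [hc, card_MM] at this
    omega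
  let P : Sylow 23 MM := hp.toSylow (by rw [hi]; norm_num)
  have h1 : Nat.card (Sylow 23 MM) = (normalizer (zpowers s : Set MM)).index :=
    P.card_eq_index_normalizer
  have h2 := card_sylow_modEq_one 23 MM
  have h3 := (normalizer (zpowers s : Set MM)).card_mul_index
  rw [card_MM] at h3
  rw [h1] at h2
  have h4 : Nat.card (zpowers s).normalizerMonoidHom.range ∣ 22 := by
    have := card_subgroup_dvd_card (zpowers s).normalizerMonoidHom.range
    rwa [IsCyclic.card_mulAut, hc, Nat.totient_prime (by norm_num)] at this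
  have h5 : Nat.card (zpowers s).normalizerMonoidHom.ker ∣ 23 := by
    rw [← cent_perm (σ := s.1) (by rw [Subgroup.orderOf_coe, hs])]
    refine card_dvd_of_injective (MonoidHom.codRestrict (M24.subtype.comp
      ((Subgroup.subtype _).comp (Subgroup.subtype _))) _ fun x => ?_) fun x y h => ?_
    · obtain ⟨x, hx⟩ := x
      rw [normalizerMonoidHom_ker, mem_subgroupOf, mem_centralizer_iff] at hx
      rw [mem_centralizer_singleton_iff]
      exact congrArg Subtype.val (hx s (mem_zpowers s)).symm
    · have h' := congrArg Subtype.val h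
      exact Subtype.ext (Subtype.ext (Subtype.ext h'))
  have h6 := (zpowers s).normalizerMonoidHom.ker.card_mul_index
  rw [index_ker] at h6
  have h7 : Nat.card (normalizer (zpowers s : Set MM)) ∣ 23 * 22 := h6 ▸ Nat.mul_dvd_mul h5 h4
  have h8 : Nat.card (normalizer (zpowers s : Set MM)) ∈ Nat.divisors (23 * 22) :=
    Nat.mem_divisors.2 ⟨h7, by norm_num⟩
  rw [show Nat.divisors (23 * 22) = {1, 2, 11, 22, 23, 46, 253, 506} by decide +kernel] at h8
  unfold Nat.ModEq at h2
  simp only [Finset.mem_insert, Finset.mem_singleton] at h8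
  rcases h8 with h | h | h | h | h | h | h | h <;> rw [h] at h3 <;> omega

end H22.M24ab
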