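import Cfsg.Agent.H22.MdB

/-!
Minimal degrees of orthogonal groups: the annihilators of point stabilisers in the unipotent
radical `A_c`, and multiplicity counting.
-/

set_option autoImplicit false

namespace H22

open H23 H23.Form Module Pointwise

section AHpp

variable {F V W G X : Type*} [AddCommGroup F] [AddCommGroup V] [AddCommGroup W] [Group G]
  [MulAction G X] [Finite V] [Finite W] (A : AH W G) (ψ : AddChar F ℂ) (b : V →+ W →+ F)
  (hb : ∀ w, (∀ v, ψ (b v w) = 1) → w = 0) {r : ℕ} (hr : r * Nat.card A.U = Nat.card V)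

include hb hr in
theorem AH.card_pp_st (x : X) : Nat.card (pp ψ b (A.st x)) = r * (A.orb x).ncard := by
  have h1 := card_pp ψ b hb (A.st x)
  have h2 := A.ncard_orb x
  have hpos : 0 < Nat.card (A.st x) := Nat.card_pos
  apply Nat.eq_of_mul_eq_mul_right hpos
  rw [h1, mul_assoc, h2, hr]

include hb hr in
theorem AH.sum_card_pp_le {Ω : Set X} (hΩ : Ω.Finite) (hinv : ∀ u ∈ A.U, ∀ x ∈ Ω, A.e u • x ∈ Ω)
    (T : Finset (AddSubgroup V)) (hT : ∀ D ∈ T, ∃ x ∈ Ω, pp ψ b (A.st x) = D) :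
    ∑ D ∈ T, Nat.card D ≤ r * Ω.ncard := by
  apply sum_le_of_fiber hΩ (fun x => pp ψ b (A.st x))
  intro D hD
  obtain ⟨x, hx, rfl⟩ := hT D hD
  rw [A.card_pp_st ψ b hb hr]
  apply Nat.mul_le_mul_left
  apply Set.ncard_le_ncard _ (hΩ.subset (Set.sep_subset _ _))
  intro y hy
  exact ⟨A.orb_subset hinv hx hy, by rw [A.st_of_mem_orb hy]⟩

theorem ncard_sep_le_card (K : Set V) (D : AddSubgroup V) :
    {v ∈ K | v ∈ D}.ncard ≤ Nat.card D :=
  Set.ncard_le_ncard (fun _ h => h.2) (Set.toFinite (D : Set V))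

include hb hr in
theorem AH.ncard_le_of_cover {Ω : Set X} (hΩ : Ω.Finite)
    (hinv : ∀ u ∈ A.U, ∀ x ∈ Ω, A.e u • x ∈ Ω) {K : Set V}
    (hK : ∀ v ∈ K, ∃ x ∈ Ω, v ∈ pp ψ b (A.st x)) : K.ncard ≤ r * Ω.ncard := by
  classical
  let T := hΩ.toFinset.image (fun x => pp ψ b (A.st x))
  have h1 := mul_ncard_le_sum (Set.toFinite K) T (fun D v => v ∈ D) 1 (by
    intro v hv
    obtain ⟨x, hx, h⟩ := hK v hv
    rw [Nat.one_le_iff_ne_zero]
    exact Set.ncard_ne_zero_of_mem (a := pp ψ b (A.st x))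
      ⟨Finset.mem_image.2 ⟨x, by simpa using hx, rfl⟩, h⟩)
  have h2 := A.sum_card_pp_le ψ b hb hr hΩ hinv T (by
    intro D hD
    obtain ⟨x, hx, rfl⟩ := Finset.mem_image.1 hD
    exact ⟨x, by simpa using hx, rfl⟩)
  have h3 : ∑ D ∈ T, {v ∈ K | v ∈ D}.ncard ≤ ∑ D ∈ T, Nat.card D :=
    Finset.sum_le_sum fun D _ => ncard_sep_le_card K D
  omega

end AHpp

/-- The data of a quadratic space of dimension at least six with an additive character. -/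
structure OC (F V : Type*) [Field F] [AddCommGroup V] [Module F V] where
  Φ : Form (RingHom.id F) V
  hΦ : Φ.Nondeg
  hκ : Φ.κ = 1
  hV : 6 ≤ finrank F V
  ψ : AddChar F ℂ
  hψ : ∃ a, ψ a ≠ 1

namespace OC

variable {F V : Type*} [Field F] [AddCommGroup V] [Module F V] [FiniteDimensional F V]
  (C : OC F V)

abbrev G : Subgroup C.Φ.O := commutator C.Φ.O

noncomputable abbrev s (c u : V) : C.Φ.O := sg C.hΦ C.hκ c u

theorem s_mem [Finite F] (c u : V) : C.s c u ∈ C.G := sg_mem _ _ (by have := C.hV; omega) c u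

omit [FiniteDimensional F V] in
theorem comm (x y : V) : C.Φ.B x y = C.Φ.B y x := B_comm_quad C.hκ x y

omit [FiniteDimensional F V] in
theorem self (x : V) : C.Φ.B x x = 2 * C.Φ.Q x := B_self_quad C.hκ x

omit [FiniteDimensional F V] in
theorem Qadd (x y : V) : C.Φ.Q (x + y) = C.Φ.Q x + C.Φ.Q y + C.Φ.B x y := Q_add_quad C.hκ x y

omit [FiniteDimensional F V] in
theorem Qsub (x y : V) : C.Φ.Q (x - y) = C.Φ.Q x + C.Φ.Q y - C.Φ.B x y := by
  rw [C.Φ.Q_sub, C.hκ, one_mul]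

omit [FiniteDimensional F V] in
theorem sing {x : V} : Sing C.Φ x ↔ C.Φ.Q x = 0 := sing_quad C.hκ

variable {X : Type*} [MulAction C.Φ.O X]

noncomputable def St (c : V) (x : X) : AddSubgroup V := (sgA C.hΦ C.hκ c ⊤).st x

noncomputable def Dp (c : V) (x : X) : AddSubgroup V := pp C.ψ (bA C.Φ) (C.St c x)

theorem mem_St {c u : V} {x : X} : u ∈ C.St c x ↔ C.Φ.B c u = 0 ∧ C.s c u • x = x := by
  simp only [St, AH.mem_st, mem_sgA_U, Submodule.mem_top, true_and]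
  rfl

theorem smul_self_mem_St {c : V} (hc : C.Φ.Q c = 0) (x : X) (t : F) : t • c ∈ C.St c x :=
  C.mem_St.2 ⟨by simp [C.self, hc], by rw [s, sg_self, one_smul]⟩

theorem smul_self_mem_Dp (c : V) (x : X) (t : F) : t • c ∈ C.Dp c x :=
  mem_pp_of_perp fun s hs => by simp [(C.mem_St.1 hs).1]

theorem perp_of_mem_Dp {c v : V} (hc : C.Φ.Q c = 0) {x : X} (hv : v ∈ C.Dp c x) :
    C.Φ.B c v = 0 := by
  rw [C.comm]
  exact B_eq_zero_of_mem_pp C.hψ hv (C.smul_self_mem_St hc x)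

theorem B_eq_zero_of_mem {c v u : V} {x : X} (hv : v ∈ C.Dp c x) (hu : ∀ t : F, t • u ∈ C.St c x) :
    C.Φ.B v u = 0 := B_eq_zero_of_mem_pp C.hψ hv hu

theorem mem_St_of_perp [Finite F] {c u : V} {x : X} (h : ∀ v ∈ C.Dp c x, C.Φ.B v u = 0) :
    u ∈ C.St c x := by
  have := finite_of_fd F V
  rw [← pp_pp C.ψ (bA C.Φ) (bA_nondeg' C.hΦ C.hψ) (bA_nondeg C.hΦ C.hψ) (C.St c x)]
  intro v hv
  simp [h v hv]

theorem mem_St_smul {g : C.Φ.O} {c : V} {t : F} (ht : t ≠ 0) (hg : g.1 c = t • c) (x : X) (u : V) :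
    u ∈ C.St c x ↔ t • g.1 u ∈ C.St c (g • x) := by
  rw [mem_St, mem_St, s, s, ← sg_smul _ _ ht, ← hg, ← conj_sg, mul_smul, mul_smul, inv_smul_smul,
    smul_left_cancel_iff, B_smul_right, mul_eq_zero, or_iff_right ht]
  refine and_congr_left fun _ => ?_
  have := O_B C.Φ g c u
  rw [hg, B_smul_left] at this
  rw [← this]
  simp [ht]

theorem mem_St_conj (g : C.Φ.O) (c : V) (x : X) (u : V) :
    u ∈ C.St c x ↔ g.1 u ∈ C.St (g.1 c) (g • x) := by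
  rw [mem_St, mem_St, s, s, ← conj_sg, mul_smul, mul_smul, inv_smul_smul,
    smul_left_cancel_iff, O_B]

theorem St_smul_left {t : F} (ht : t ≠ 0) (c : V) (x : X) (u : V) :
    u ∈ C.St (t • c) x ↔ t • u ∈ C.St c x := by
  rw [mem_St, mem_St, s, s, sg_smul _ _ ht]
  simp [ht]

omit [FiniteDimensional F V] in
theorem apply_inv (g : C.Φ.O) (v : V) : g.1 ((g⁻¹).1 v) = v := by simp

omit [FiniteDimensional F V] in
theorem inv_apply (g : C.Φ.O) (v : V) : (g⁻¹).1 (g.1 v) = v := by simp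

theorem mem_Dp_smul {g : C.Φ.O} {c : V} {t : F} (ht : t ≠ 0) (hg : g.1 c = t • c) (x : X) (v : V) :
    v ∈ C.Dp c (g • x) ↔ t • (g⁻¹).1 v ∈ C.Dp c x := by
  constructor
  · intro h s hs
    have := h _ ((C.mem_St_smul ht hg x s).1 hs)
    rw [bA_apply, B_smul_right, O_B_right] at this
    simpa using this
  · intro h s hs
    have h1 : t⁻¹ • (g⁻¹).1 s ∈ C.St c x := by
      rw [C.mem_St_smul ht hg, map_smul, C.apply_inv, smul_inv_smul₀ ht]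
      exact hs
    have := h _ h1
    rw [bA_apply, B_smul_right, B_smul_left, O_B] at this
    simpa [ht] using this

theorem mem_Dp_conj (g : C.Φ.O) (c : V) (x : X) (v : V) :
    v ∈ C.Dp c x ↔ g.1 v ∈ C.Dp (g.1 c) (g • x) := by
  constructor
  · intro h s hs
    have h1 : (g⁻¹).1 s ∈ C.St c x := by
      rw [C.mem_St_conj g, C.apply_inv]
      exact hs
    have := h _ h1
    rwa [bA_apply, ← O_B_left] at this
  · intro h s hs
    have := h _ ((C.mem_St_conj g c x s).1 hs)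
    rwa [bA_apply, O_B] at this

omit [FiniteDimensional F V] in
theorem mem_smul_iff (g : C.Φ.O) (D : AddSubgroup V) (v : V) : v ∈ g • D ↔ (g⁻¹).1 v ∈ D :=
  AddSubgroup.mem_pointwise_smul_iff_inv_smul_mem

omit [FiniteDimensional F V] in
theorem apply_mem_of_fix {g : C.Φ.O} {D : AddSubgroup V} (h : g • D = D) {v : V} (hv : v ∈ D) :
    g.1 v ∈ D := by
  rw [← h, C.mem_smul_iff, C.inv_apply]
  exact hv

theorem Dp_smul {g : C.Φ.O} {c : V} (hg : g.1 c = c) (x : X) :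
    C.Dp c (g • x) = g • C.Dp c x := by
  ext v
  rw [C.mem_Dp_smul one_ne_zero (by rw [hg, one_smul]), one_smul, C.mem_smul_iff]

theorem Dp_s {c u : V} (hu : C.Φ.B c u = 0) (x : X) : C.Dp c (C.s c u • x) = C.Dp c x := by
  unfold Dp St
  congr 1
  exact (sgA C.hΦ C.hκ c ⊤).st_smul x ((mem_sgA_U _ _).2 ⟨trivial, hu⟩)

theorem s_apply_self {c u : V} (hc : C.Φ.Q c = 0) (hu : C.Φ.B c u = 0) : (C.s c u).1 c = c :=
  sg_apply_of_perp _ _ (by rw [C.self, hc, mul_zero]) (by rw [C.comm, hu])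

theorem s_smul_Dp {c u : V} (hc : C.Φ.Q c = 0) (hu : C.Φ.B c u = 0) (x : X) :
    C.s c u • C.Dp c x = C.Dp c x := by
  rw [← C.Dp_smul (C.s_apply_self hc hu), C.Dp_s hu]

/-- invariance under the stabiliser of the point `F c` in `Ω` -/
def PInv (c : V) (Ω : Set X) : Prop :=
  Ω.Finite ∧ ∀ g ∈ C.G, ∀ t : F, t ≠ 0 → g.1 c = t • c → ∀ x ∈ Ω, g • x ∈ Ω

/-- invariance under `Ω` -/
def GInv (Ω : Set X) : Prop := Ω.Finite ∧ ∀ g ∈ C.G, ∀ x ∈ Ω, g • x ∈ Ω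

omit [FiniteDimensional F V] in
theorem GInv.pInv {C : OC F V} [MulAction C.Φ.O X] {Ω : Set X} (h : C.GInv Ω) (c : V) :
    C.PInv c Ω := ⟨h.1, fun g hg _ _ _ => h.2 g hg⟩

omit [FiniteDimensional F V] in
theorem PInv.fix {C : OC F V} [MulAction C.Φ.O X] {Ω : Set X} {c : V} (h : C.PInv c Ω)
    {g : C.Φ.O} (hg : g ∈ C.G) (hc : g.1 c = c) {x : X} (hx : x ∈ Ω) : g • x ∈ Ω :=
  h.2 g hg 1 one_ne_zero (by rw [hc, one_smul]) x hx

/-- the annihilators containing `v` -/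
def M (c : V) (Ω : Set X) (v : V) : Set (AddSubgroup V) := {D | (∃ x ∈ Ω, C.Dp c x = D) ∧ v ∈ D}

theorem M_finite {c : V} {Ω : Set X} (h : Ω.Finite) (v : V) : (C.M c Ω v).Finite :=
  (h.image (C.Dp c)).subset fun _ hD => hD.1

theorem smul_mem_M {c v : V} {Ω : Set X} (h : C.PInv c Ω) {g : C.Φ.O} (hg : g ∈ C.G)
    (hc : g.1 c = c) (hv : g.1 v = v) : ∀ D ∈ C.M c Ω v, g • D ∈ C.M c Ω v := by
  rintro _ ⟨⟨x, hx, rfl⟩, hD⟩
  refine ⟨⟨g • x, h.fix hg hc hx, C.Dp_smul hc x⟩, ?_⟩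
  rw [C.mem_smul_iff, ← hv, C.inv_apply]
  exact hD

theorem ncard_M_le {c v v' : V} {Ω : Set X} (h : C.PInv c Ω) {g : C.Φ.O} (hg : g ∈ C.G) {t : F}
    (ht : t ≠ 0) (hc : g.1 c = t • c) (hv : g.1 v = t • v') :
    (C.M c Ω v).ncard ≤ (C.M c Ω v').ncard := by
  let τ : V →+ V := (t • (g⁻¹).1.toLinearMap).toAddMonoidHom
  have hτ : Function.Surjective τ := fun w => ⟨t⁻¹ • g.1 w, by simp [τ, ht]⟩
  refine Set.ncard_le_ncard_of_injOn (fun D => D.comap τ) ?_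
    (AddSubgroup.comap_injective hτ).injOn (C.M_finite h.1 v')
  rintro _ ⟨⟨x, hx, rfl⟩, hD⟩
  refine ⟨⟨g • x, h.2 g hg t ht hc x hx, ?_⟩, ?_⟩
  · ext w
    exact C.mem_Dp_smul ht hc x w
  · change t • (g⁻¹).1 v' ∈ C.Dp c x
    rwa [← map_smul, ← hv, C.inv_apply]

/-- the class of a vector under the stabiliser of `F c` -/
def K (c v : V) : Set V :=
  {w | C.Φ.B c w = 0 ∧ w ∉ F ∙ c ∧ ∃ t : F, t ≠ 0 ∧ C.Φ.Q v = t ^ 2 * C.Φ.Q w}

theorem exists_of_mem_K [Finite F] {c v w : V} (hc : C.Φ.Q c = 0) (h0 : c ≠ 0)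
    (hv : C.Φ.B c v = 0) (hv' : v ∉ F ∙ c) (hw : w ∈ C.K c v) :
    ∃ g ∈ C.G, ∃ t : F, t ≠ 0 ∧ g.1 c = t • c ∧ g.1 v = t • w := by
  obtain ⟨h1, h2, t, ht, h3⟩ := hw
  obtain ⟨g, hg, h4, h5⟩ := exists_omega_two C.hΦ C.hκ C.hV (c' := t • c) (v' := t • w) h0
    (smul_ne_zero ht h0) hv' (by
      rw [Submodule.span_singleton_smul_eq (IsUnit.mk0 t ht)]
      intro h
      exact h2 (by simpa [ht] using (F ∙ c).smul_mem t⁻¹ h))
    (by rw [C.Φ.Q_smul, hc, mul_zero]) (by rw [C.Φ.Q_smul, h3]) (by simp [hv, h1])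
  exact ⟨g, hg, t, ht, h4, h5⟩

variable [Fintype F]

theorem finrank_perp_one {c : V} (h0 : c ≠ 0) :
    finrank F (C.Φ.perp (F ∙ c)) + 1 = finrank F V := finrank_perp_single C.hΦ h0

theorem q_mul_card {c : V} (h0 : c ≠ 0) :
    Fintype.card F * Nat.card (sgA C.hΦ C.hκ c ⊤).U = Nat.card V := by
  rw [card_sgA_U, top_inf_eq, Module.natCard_eq_pow_finrank (K := F) (V := V),
    Nat.card_eq_fintype_card, ← C.finrank_perp_one h0, pow_succ']

theorem pInv_s {c : V} (hc : C.Φ.Q c = 0) {Ω : Set X} (h : C.PInv c Ω) :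
    ∀ u ∈ (sgA C.hΦ C.hκ c ⊤).U, ∀ x ∈ Ω, (sgA C.hΦ C.hκ c ⊤).e u • x ∈ Ω := fun u hu _ hx =>
  h.fix (C.s_mem c u) (C.s_apply_self hc ((mem_sgA_U _ _).1 hu).2) hx

theorem card_Dp {c : V} (h0 : c ≠ 0) (x : X) :
    Nat.card (C.Dp c x) = Fintype.card F * ((sgA C.hΦ C.hκ c ⊤).orb x).ncard := by
  have := finite_of_fd F V
  exact AH.card_pp_st _ _ _ (bA_nondeg' C.hΦ C.hψ) (C.q_mul_card h0) x

theorem sum_card_le {c : V} (hc : C.Φ.Q c = 0) (h0 : c ≠ 0) {Ω : Set X} (h : C.PInv c Ω)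
    (T : Finset (AddSubgroup V)) (hT : ∀ D ∈ T, ∃ x ∈ Ω, C.Dp c x = D) :
    ∑ D ∈ T, Nat.card D ≤ Fintype.card F * Ω.ncard := by
  have := finite_of_fd F V
  exact AH.sum_card_pp_le _ _ _ (bA_nondeg' C.hΦ C.hψ) (C.q_mul_card h0) h.1 (C.pInv_s hc h) T hT

/-- multiplicity bound with a weight: `α |K ∩ D| ≤ β |D|` -/
theorem mult_le {c v : V} (hc : C.Φ.Q c = 0) (h0 : c ≠ 0) {Ω : Set X} (h : C.PInv c Ω)
    (hv : C.Φ.B c v = 0) (hv' : v ∉ F ∙ c) {K' : Set V} (hK : K' ⊆ C.K c v) {α β : ℕ}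
    (hαβ : ∀ x ∈ Ω, α * {w ∈ K' | w ∈ C.Dp c x}.ncard ≤ β * Nat.card (C.Dp c x)) :
    α * ((C.M c Ω v).ncard * K'.ncard) ≤ β * (Fintype.card F * Ω.ncard) := by
  classical
  have := finite_of_fd F V
  let T := h.1.toFinset.image (C.Dp c)
  have hT : ∀ D, D ∈ T ↔ ∃ x ∈ Ω, C.Dp c x = D := by
    intro D; simp [T]
  have h1 := mul_ncard_le_sum (Set.toFinite K') T (fun D v => v ∈ D) (C.M c Ω v).ncard (by
    intro w hw
    obtain ⟨g, hg, t, ht, h2, h3⟩ := C.exists_of_mem_K hc h0 hv hv' (hK hw)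
    refine (C.ncard_M_le h hg ht h2 h3).trans (le_of_eq ?_)
    congr 1
    ext D
    simp only [M, hT, Set.mem_ofPred_eq])
  have h2 := C.sum_card_le hc h0 h T fun D hD => (hT D).1 hD
  calc _ ≤ α * ∑ D ∈ T, {w ∈ K' | w ∈ D}.ncard := Nat.mul_le_mul_left _ h1
    _ = ∑ D ∈ T, α * {w ∈ K' | w ∈ D}.ncard := by rw [Finset.mul_sum]
    _ ≤ ∑ D ∈ T, β * Nat.card D := Finset.sum_le_sum fun D hD => by
        obtain ⟨x, hx, rfl⟩ := (hT D).1 hD
        exact hαβ x hx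
    _ = β * ∑ D ∈ T, Nat.card D := by rw [Finset.mul_sum]
    _ ≤ _ := Nat.mul_le_mul_left _ h2

theorem mult_le' {c v : V} (hc : C.Φ.Q c = 0) (h0 : c ≠ 0) {Ω : Set X} (h : C.PInv c Ω)
    (hv : C.Φ.B c v = 0) (hv' : v ∉ F ∙ c) {K' : Set V} (hK : K' ⊆ C.K c v) :
    (C.M c Ω v).ncard * K'.ncard ≤ Fintype.card F * Ω.ncard := by
  have := finite_of_fd F V
  simpa using C.mult_le hc h0 h hv hv' hK (α := 1) (β := 1) fun x _ => by
    simpa using ncard_sep_le_card K' (C.Dp c x)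

/-- a hyperbolic pair perpendicular to `c` and to a vector `v` -/
theorem exists_hyp_perp {c v : V} (hc : C.Φ.Q c = 0) (hv : C.Φ.B c v = 0) (hQ : C.Φ.Q v ≠ 0) :
    ∃ y y', Hyp C.Φ y y' ∧ y ∈ C.Φ.perp (Submodule.span F {c, v}) ∧
      y' ∈ C.Φ.perp (Submodule.span F {c, v}) := by
  have h1 := C.hΦ.finrank_perp_add (Submodule.span F {c, v})
  have h2 := finrank_span_pair_le (F := F) c v
  have h3 : finrank F (F ∙ c) ≤ 1 := by
    simpa using finrank_span_le_card (R := F) ({c} : Set V)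
  have := C.hV
  obtain ⟨y, hy, hs, hn⟩ := (iso3_quad C.hκ).exists_notMem (S := F ∙ c)
    (T := C.Φ.perp (Submodule.span F {c, v})) (by omega)
  obtain ⟨y', h4, h5⟩ := exists_hyp_mem C.hΦ hs hy (by
    rw [C.hΦ.perp_perp, Submodule.mem_span_pair]
    rintro ⟨a, b, rfl⟩
    have := C.sing.1 hs
    rw [C.Qadd, C.Φ.Q_smul, C.Φ.Q_smul, hc] at this
    simp [hv, hQ] at this
    exact hn (by simp [this, Submodule.smul_mem]))
  exact ⟨y, y', h5, hy, h4⟩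

theorem exists_nonsing_perp (c : V) : ∃ v, C.Φ.B c v = 0 ∧ C.Φ.Q v ≠ 0 := by
  have h3 : finrank F (F ∙ c) ≤ 1 := by
    simpa using finrank_span_le_card (R := F) ({c} : Set V)
  have h2 : finrank F ((F ∙ c) ⊓ C.Φ.perp (F ∙ c) : Submodule F V) ≤ finrank F (F ∙ c) :=
    Submodule.finrank_mono inf_le_left
  have := C.hV
  obtain ⟨v, hv, hQ⟩ := exists_Q_ne_zero_of_finrank C.hκ C.hΦ (Z := F ∙ c) (by omega)
  exact ⟨v, (C.Φ.mem_perp_span_singleton).1 hv, hQ⟩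

theorem exists_hyp_perp_one {c : V} (hc : C.Φ.Q c = 0) :
    ∃ y y', Hyp C.Φ y y' ∧ C.Φ.B c y = 0 ∧ C.Φ.B c y' = 0 := by
  obtain ⟨v, hv, hQ⟩ := C.exists_nonsing_perp c
  obtain ⟨y, y', h, h1, h2⟩ := C.exists_hyp_perp hc hv hQ
  exact ⟨y, y', h, (mem_perp_pair.1 h1).1, (mem_perp_pair.1 h2).1⟩

theorem le_ncard_Q_mem {c : V} (hc : C.Φ.Q c = 0) (h0 : c ≠ 0) (T : Finset F) :
    T.card * ((Fintype.card F - 1) * Fintype.card F ^ (finrank F V - 3)) ≤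
      {w | C.Φ.B c w = 0 ∧ w ∉ F ∙ c ∧ C.Φ.Q w ∈ T}.ncard := by
  have := finite_of_fd F V
  obtain ⟨y, y', h, h1, h2⟩ := C.exists_hyp_perp_one hc
  have h3 := sum_le_of_fiber (Set.toFinite {w | C.Φ.B c w = 0 ∧ w ∉ F ∙ c ∧ C.Φ.Q w ∈ T}) C.Φ.Q T
    (fun _ => (Fintype.card F - 1) * Fintype.card F ^ (finrank F V - 3)) 1 (by
      intro a ha
      have h4 := ncard_Q_eq_not_perp' C.hΦ C.hκ (U := C.Φ.perp (F ∙ c)) h
        ((C.Φ.mem_perp_span_singleton).2 h1) ((C.Φ.mem_perp_span_singleton).2 h2) a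
      have h5 := C.finrank_perp_one h0
      rw [one_mul, show finrank F V - 3 = finrank F (C.Φ.perp (F ∙ c)) - 2 by omega, ← h4]
      apply Set.ncard_le_ncard _ (Set.toFinite _)
      rintro w ⟨h6, h7, h8⟩
      refine ⟨⟨(C.Φ.mem_perp_span_singleton).1 h6, fun h9 => ?_, h7 ▸ ha⟩, h7⟩
      obtain ⟨t, rfl⟩ := Submodule.mem_span_singleton.1 h9
      simp [C.comm y c, h1] at h8)
  simpa using h3

theorem le_ncard_Q_eq {c : V} (hc : C.Φ.Q c = 0) (h0 : c ≠ 0) (a : F) :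
    (Fintype.card F - 1) * Fintype.card F ^ (finrank F V - 3) ≤
      {w | C.Φ.B c w = 0 ∧ w ∉ F ∙ c ∧ C.Φ.Q w = a}.ncard := by
  simpa using C.le_ncard_Q_mem hc h0 {a}

omit [Fintype F] [FiniteDimensional F V] in
theorem subset_K (c v : V) : {w | C.Φ.B c w = 0 ∧ w ∉ F ∙ c ∧ C.Φ.Q w = C.Φ.Q v} ⊆ C.K c v :=
  fun _ h => ⟨h.1, h.2.1, 1, one_ne_zero, by rw [h.2.2]; ring⟩

/-- a point not fixed by `A_c` forces many points -/
theorem big {c : V} (hc : C.Φ.Q c = 0) (h0 : c ≠ 0) {Ω : Set X} (h : C.PInv c Ω) {x : X}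
    (hx : x ∈ Ω) {v : V} (hv : v ∈ C.Dp c x) (hv' : v ∉ F ∙ c) :
    (Fintype.card F - 1) * Fintype.card F ^ (finrank F V - 4) ≤ Ω.ncard := by
  have h1 := C.mult_le' hc h0 h (C.perp_of_mem_Dp hc hv) hv' (C.subset_K c v)
  have h2 := C.le_ncard_Q_eq hc h0 (C.Φ.Q v)
  have h3 : 1 ≤ (C.M c Ω v).ncard := by
    rw [Nat.one_le_iff_ne_zero]
    exact Set.ncard_ne_zero_of_mem (a := C.Dp c x) ⟨⟨x, hx, rfl⟩, hv⟩ (C.M_finite h.1 v)
  have h4 := C.hV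
  rw [show finrank F V - 3 = finrank F V - 4 + 1 by omega, pow_succ] at h2
  apply Nat.le_of_mul_le_mul_left _ (Fintype.card_pos (α := F))
  calc _ = (Fintype.card F - 1) * (Fintype.card F ^ (finrank F V - 4) * Fintype.card F) := by ring
    _ ≤ _ := h2
    _ ≤ _ := Nat.le_mul_of_pos_left _ h3
    _ ≤ _ := h1

end OC

end H22
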