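import Cfsg.Agent.H22.MdC

/-!
Minimal degrees of orthogonal groups: annihilators containing a non-singular vector, geometry.
-/

set_option autoImplicit false

namespace H22

open H23 H23.Form Module Pointwise

/-- the largest subspace inside an additive subgroup -/
def coreS (F : Type*) {V : Type*} [Field F] [AddCommGroup V] [Module F V] (D : AddSubgroup V) :
    Submodule F V where
  carrier := {x | ∀ t : F, t • x ∈ D}
  zero_mem' := by intro t; simp
  add_mem' := by intro x y hx hy t; rw [smul_add]; exact D.add_mem (hx t) (hy t)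
  smul_mem' := by intro a x hx t; rw [smul_smul]; exact hx _

theorem mem_of_mem_coreS {F V : Type*} [Field F] [AddCommGroup V] [Module F V] {D : AddSubgroup V}
    {x : V} (h : x ∈ coreS F D) : x ∈ D := by simpa using h 1

namespace OC

variable {F V : Type*} [Field F] [AddCommGroup V] [Module F V] [FiniteDimensional F V]
  (C : OC F V)

/-- torus element -/
noncomputable def tor (y y' : V) (s : F) : C.Φ.O := refl C.hκ (s • y - y') * refl C.hκ (y - y')

omit [FiniteDimensional F V] in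
theorem tor_apply {y y' : V} (h : Hyp C.Φ y y') {s : F} (hs : s ≠ 0) (x : V) :
    (C.tor y y' s).1 x = x + ((s - 1) * C.Φ.B y' x) • y + ((s⁻¹ - 1) * C.Φ.B y x) • y' := by
  change (refl C.hκ (s • y - y')).1 ((refl C.hκ (y - y')).1 x) = _
  have h1 : C.Φ.Q (s • y - y') = -s := by simp [C.Qsub, C.Φ.Q_smul, h.left.2, h.right.2, h.one]
  have h2 : C.Φ.Q (y - y') = -1 := by simp [C.Qsub, h.left.2, h.right.2, h.one]
  simp only [refl_apply, h1, h2, map_sub, map_smul,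
    LinearMap.sub_apply, LinearMap.smul_apply, h.left.1, h.right.1, h.one, C.comm y' y,
    RingHom.id_apply, smul_eq_mul, LinearMap.map_smulₛₗ]
  match_scalars <;> field_simp <;> ring

theorem tor_mem {y y' : V} (h : Hyp C.Φ y y') {t : F} (ht : t ≠ 0) :
    C.tor y y' (t ^ 2) ∈ C.G :=
  refl_mul_refl_mem_commutator C.hΦ C.hκ (t := t)
    (by simp [C.Qsub, C.Φ.Q_smul, h.left.2, h.right.2, h.one, ht])
    (by simp [C.Qsub, C.Φ.Q_smul, h.left.2, h.right.2, h.one])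

omit [FiniteDimensional F V] in
theorem tor_left {y y' : V} (h : Hyp C.Φ y y') {s : F} (hs : s ≠ 0) :
    (C.tor y y' s).1 y = s • y := by
  rw [C.tor_apply h hs, C.comm y' y, h.one, h.left.1]; module

omit [FiniteDimensional F V] in
theorem tor_of_perp {y y' : V} (h : Hyp C.Φ y y') {s : F} (hs : s ≠ 0) {x : V}
    (h1 : C.Φ.B y x = 0) (h2 : C.Φ.B y' x = 0) : (C.tor y y' s).1 x = x := by
  rw [C.tor_apply h hs, h1, h2]; simp

theorem s_add_smul {y u : V} (hy : C.Φ.Q y = 0) (hu : C.Φ.B y u = 0) (t : F) :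
    C.s y (u + t • y) = C.s y u := by
  rw [s, sg_add _ _ _ hu (by simp [C.self, hy]), sg_self, mul_one]

theorem conj_tor {y y' : V} (h : Hyp C.Φ y y') {s : F} (hs : s ≠ 0) {u : V}
    (hu : C.Φ.B y u = 0) :
    C.tor y y' s * C.s y u * (C.tor y y' s)⁻¹ = C.s y (s • u) := by
  rw [conj_sg, C.tor_left h hs, sg_smul _ _ hs, C.tor_apply h hs, hu, mul_zero, zero_smul, add_zero,
    smul_add, smul_smul]
  exact C.s_add_smul h.left.2 (by simp [hu]) _

theorem sub_mem_of_fix {D : AddSubgroup V} {y u x : V} (hy : C.Φ.Q y = 0) (hu : C.Φ.B y u = 0)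
    (h : C.s y u • D = D) (hx : x ∈ D) :
    (C.Φ.B u x - C.Φ.Q u * C.Φ.B y x) • y - C.Φ.B y x • u ∈ D := by
  have := D.sub_mem (C.apply_mem_of_fix h hx) hx
  rw [sg_apply _ _ hy hu] at this
  convert this using 1
  abel

/-- key step: an invariant additive subgroup contains `U ∩ y^⊥` -/
theorem star_step {U : Submodule F V} {D : AddSubgroup V} {v y x : V} (hy : C.Φ.Q y = 0)
    (hyU : y ∈ U) (hvU : ∀ u ∈ U, C.Φ.B v u = 0)
    (hH : ∀ u ∈ U, C.Φ.B y u = 0 → ∃ γ : F, (∀ t : F, C.s y (t • (u - γ • v)) • D = D) ∧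
      γ • v ∈ D ∧ γ * C.Φ.B v v = 0)
    (hne : ∃ u ∈ U, ∃ u' ∈ U, C.Φ.B y u = 0 ∧ C.Φ.B y u' = 0 ∧ C.Φ.B u u' ≠ 0)
    (hx : x ∈ D) (hβ : C.Φ.B y x ≠ 0) : ∀ u ∈ U, C.Φ.B y u = 0 → u ∈ D := by
  have hyv : C.Φ.B y v = 0 := by rw [C.comm, hvU y hyU]
  have hyD : ∀ t : F, t • y ∈ D := by
    obtain ⟨u, hu, u', hu', h1, h2, h3⟩ := hne
    obtain ⟨γ, h4, -, h5⟩ := hH u hu h1
    obtain ⟨γ', h6, -, h7⟩ := hH u' hu' h2
    set a := u - γ • v
    set b := u' - γ' • v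
    have ha : C.Φ.B y a = 0 := by simp [a, h1, hyv]
    have hb : C.Φ.B y b = 0 := by simp [b, h2, hyv]
    have hab : C.Φ.B a b = C.Φ.B u u' := by
      simp only [a, b, map_sub, map_smul, LinearMap.sub_apply, LinearMap.smul_apply, smul_eq_mul,
        LinearMap.map_smulₛₗ, RingHom.id_apply, hvU u' hu', C.comm u v, hvU u hu]
      linear_combination γ' * h5
    intro t
    set r := t / (C.Φ.B y x * C.Φ.B u u')
    have e1 := C.sub_mem_of_fix hy (by simp [ha]) (h4 r) hx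
    have e2 := C.sub_mem_of_fix hy hb (by simpa using h6 1) hx
    have e3 := C.sub_mem_of_fix (u := r • a + b) hy (by simp [ha, hb]) (by
      rw [s, sg_add _ _ _ (by simp [ha]) hb, mul_smul]
      have := h6 1
      rw [one_smul] at this
      rw [this, h4 r]) hx
    have e4 := D.sub_mem (D.add_mem e1 e2) e3
    convert e4 using 1
    simp only [C.Qadd, map_add, LinearMap.add_apply, LinearMap.map_smulₛₗ, LinearMap.smul_apply,
      RingHom.id_apply, smul_eq_mul, hab, C.Φ.Q_smul]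
    match_scalars <;> first | ring1 | (simp only [r]; field_simp; ring)
  intro u hu h1
  obtain ⟨γ, h4, h5, -⟩ := hH u hu h1
  have e1 := C.sub_mem_of_fix hy (by simp [h1, hyv]) (h4 (C.Φ.B y x)⁻¹) hx
  rw [smul_inv_smul₀ hβ] at e1
  obtain ⟨k, e1⟩ : ∃ k : F, k • y - (u - γ • v) ∈ D := ⟨_, e1⟩
  have := D.add_mem (D.sub_mem (hyD k) e1) h5
  simpa using this

variable [Fintype F]

theorem notMem_pair_of_sing {c v y : V} (hc : C.Φ.Q c = 0) (hv : C.Φ.B c v = 0)
    (hQ : C.Φ.Q v ≠ 0) (hy : C.Φ.Q y = 0) (hn : y ∉ F ∙ c) : y ∉ Submodule.span F {c, v} := by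
  rw [Submodule.mem_span_pair]
  rintro ⟨a, b, rfl⟩
  rw [C.Qadd, C.Φ.Q_smul, C.Φ.Q_smul, hc] at hy
  simp [hv, hQ] at hy
  exact hn (by simp [hy, Submodule.smul_mem])

theorem exists_sing_U {c v x : V} (hc : C.Φ.Q c = 0) (hv : C.Φ.B c v = 0) (hQ : C.Φ.Q v ≠ 0)
    (hx : x ∉ Submodule.span F {c, v}) :
    ∃ y ∈ C.Φ.perp (Submodule.span F {c, v}), C.Φ.Q y = 0 ∧ C.Φ.B y x ≠ 0 := by
  obtain ⟨e, f, h, he, hf⟩ := C.exists_hyp_perp hc hv hQ
  obtain ⟨y, hy, hs, hB⟩ := exists_sing_B_ne h he hf (x := x) (by rwa [C.hΦ.perp_perp])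
  exact ⟨y, hy, C.sing.1 hs, hB⟩

theorem star {c v : V} (hc : C.Φ.Q c = 0) (hv : C.Φ.B c v = 0) (hQ : C.Φ.Q v ≠ 0)
    (h7 : 7 ≤ finrank F V ∨ (2 : F) ≠ 0) {D : AddSubgroup V} (hD : ∀ x ∈ D, C.Φ.B c x = 0)
    (hH : ∀ y ∈ C.Φ.perp (Submodule.span F {c, v}), C.Φ.Q y = 0 →
      ∀ u ∈ C.Φ.perp (Submodule.span F {c, v}), C.Φ.B y u = 0 →
      ∃ γ : F, (∀ t : F, C.s y (t • (u - γ • v)) • D = D) ∧ γ • v ∈ D ∧ γ * C.Φ.B v v = 0)
    {x : V} (hx : x ∈ D) (hx' : x ∉ Submodule.span F {c, v}) :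
    ∀ u ∈ C.Φ.perp (Submodule.span F {c, v}), u ∈ D := by
  set U := C.Φ.perp (Submodule.span F {c, v}) with hU
  have key : ∀ x ∈ D, ∀ y ∈ U, C.Φ.Q y = 0 → C.Φ.B y x ≠ 0 → ∀ u ∈ U, C.Φ.B y u = 0 → u ∈ D := by
    intro x hx y hy hyQ hB
    refine C.star_step hyQ hy (fun u hu => (mem_perp_pair.1 hu).2) (hH y hy hyQ) ?_ hx hB
    by_contra hcon
    push Not at hcon
    set Z := Submodule.span F {c, v, y}
    have h1 : C.Φ.perp Z ≤ Z := by
      conv_rhs => rw [← C.hΦ.perp_perp Z]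
      intro u hu w hw
      rw [mem_perp_triple] at hu hw
      exact hcon w (mem_perp_pair.2 ⟨hw.1, hw.2.1⟩) u (mem_perp_pair.2 ⟨hu.1, hu.2.1⟩) hw.2.2 hu.2.2
    have h2 := C.hΦ.finrank_perp_add Z
    have h3 : finrank F Z ≤ 3 := finrank_span_triple_le (F := F) c v y
    have h4 := Submodule.finrank_mono h1
    have h5 := C.hV
    rcases h7 with h7 | h7
    · omega
    · have h6 := Submodule.eq_of_le_of_finrank_le h1 (by omega)
      have h8 : v ∈ C.Φ.perp Z := by rw [h6]; exact Submodule.subset_span (by simp)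
      rw [mem_perp_triple, C.self v] at h8
      exact mul_ne_zero h7 hQ h8.2.1
  obtain ⟨y, hy, hyQ, hB⟩ := C.exists_sing_U hc hv hQ hx'
  have h1 := key x hx y hy hyQ hB
  have hyy : C.Φ.B y y = 0 := by rw [C.self, hyQ, mul_zero]
  obtain ⟨y2, hy2, hyQ2, hB2⟩ := C.exists_sing_U hc hv hQ (C.notMem_pair_of_sing hc hv hQ hyQ (by
    intro h
    obtain ⟨t, rfl⟩ := Submodule.mem_span_singleton.1 h
    simp [hD x hx] at hB))
  have h2 := key y (h1 y hy hyy) y2 hy2 hyQ2 hB2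
  intro u hu
  have h3 := h2 (u - (C.Φ.B y2 u / C.Φ.B y2 y) • y) (U.sub_mem hu (U.smul_mem _ hy))
    (by simp [hB2])
  have h4 := h1 ((C.Φ.B y2 u / C.Φ.B y2 y) • y) (U.smul_mem _ hy) (by simp [hyy])
  simpa using D.add_mem h3 h4

/-- the characteristic two version, valid in dimension six -/
theorem star_two {c v : V} (hc : C.Φ.Q c = 0) (hv : C.Φ.B c v = 0) (hQ : C.Φ.Q v ≠ 0)
    (h2 : (2 : F) = 0) {D : AddSubgroup V} (hcD : ∀ t : F, t • c ∈ D) (hvD : v ∈ D)
    (hH : ∀ y ∈ C.Φ.perp (Submodule.span F {c, v}), C.Φ.Q y = 0 → ∀ t : F,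
      C.s y (t • v) • D = D)
    {x : V} (hx : x ∈ D) (hxU : x ∈ C.Φ.perp (Submodule.span F {c, v}))
    (hx' : x ∉ Submodule.span F {c, v}) :
    ∀ u ∈ C.Φ.perp (Submodule.span F {c, v}), u ∈ D := by
  set U := C.Φ.perp (Submodule.span F {c, v}) with hU
  set a := C.Φ.Q v
  have hvv : C.Φ.B v v = 0 := by rw [C.self, h2, zero_mul]
  have hvU : v ∈ U := mem_perp_pair.2 ⟨hv, hvv⟩
  have L : ∀ x ∈ D, x ∈ U → ∀ y ∈ U, C.Φ.Q y = 0 → C.Φ.B y x ≠ 0 → (a / C.Φ.B y x) • y ∈ D := by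
    intro x hx hxU y hy hyQ hB
    have hyv : C.Φ.B y v = 0 := by rw [C.comm, (mem_perp_pair.1 hy).2]
    have e1 := C.sub_mem_of_fix hyQ (by simp [hyv]) (hH y hy hyQ (C.Φ.B y x)⁻¹) hx
    rw [smul_inv_smul₀ hB] at e1
    have := D.neg_mem (D.add_mem e1 hvD)
    convert this using 1
    simp only [LinearMap.map_smulₛₗ, LinearMap.smul_apply, (mem_perp_pair.1 hxU).2, C.Φ.Q_smul]
    match_scalars
    · field_simp; ring
    · ring
  have L' : ∀ x ∈ coreS F D, x ∈ U → ∀ y ∈ U, C.Φ.Q y = 0 → C.Φ.B y x ≠ 0 → y ∈ coreS F D := by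
    intro x hx hxU y hy hyQ hB t
    by_cases ht : t = 0
    · simp [ht]
    have := L _ (hx (a / (t * C.Φ.B y x))) (U.smul_mem _ hxU) y hy hyQ
      (by simp [hB, ht, hQ])
    convert this using 2
    simp only [map_smul, smul_eq_mul]
    field_simp
  obtain ⟨y0, hy0, hyQ0, hB0⟩ := C.exists_sing_U hc hv hQ hx'
  set y := (a / C.Φ.B y0 x) • y0 with hy_def
  have hyD : y ∈ D := L x hx hxU y0 hy0 hyQ0 hB0
  have hy : y ∈ U := U.smul_mem _ hy0
  have hyQ : C.Φ.Q y = 0 := by rw [hy_def, C.Φ.Q_smul, hyQ0, mul_zero]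
  have hyx : C.Φ.B y x ≠ 0 := by simp [hy_def, hB0, hQ]
  obtain ⟨y2, hy2, h⟩ := exists_hyp_mem C.hΦ (C.sing.2 hyQ) hy (by
    intro h
    exact hyx (by rw [C.comm]; exact h x hxU))
  have hyv : C.Φ.B y v = 0 := by rw [C.comm, (mem_perp_pair.1 hy).2]
  have hy2v : C.Φ.B y2 v = 0 := by rw [C.comm, (mem_perp_pair.1 hy2).2]
  have h21 : C.Φ.B y2 y = 1 := by rw [C.comm, h.one]
  have M : ∀ y y2 : V, y ∈ D → y ∈ U → y2 ∈ U → Hyp C.Φ y y2 → ∀ s : F,
      (a * s) • v - (a * (s ^ 2 * a)) • y ∈ D := by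
    intro y y2 hyD hy hy2 h s
    have hyv : C.Φ.B v y = 0 := (mem_perp_pair.1 hy).2
    have hy2v : C.Φ.B y2 v = 0 := by rw [C.comm, (mem_perp_pair.1 hy2).2]
    have h21 : C.Φ.B y2 y = 1 := by rw [C.comm, h.one]
    have e1 := L y hyD hy (y2 + s • v - (s ^ 2 * a) • y)
      (U.sub_mem (U.add_mem hy2 (U.smul_mem _ hvU)) (U.smul_mem _ hy))
      (by simp [C.Qsub, C.Qadd, C.Φ.Q_smul, h.left.2, h.right.2, hy2v, hyv, h21, a])
      (by simp [h21, hyv, h.left.1])
    have e2 := L y hyD hy y2 hy2 h.right.2 (by simp [h21])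
    have := D.sub_mem e1 e2
    convert this using 1
    simp only [map_sub, map_add, LinearMap.map_smulₛₗ, LinearMap.smul_apply, LinearMap.sub_apply,
      LinearMap.add_apply, h21, hyv, h.left.1]
    match_scalars <;> simp
  have hay2 : a • y2 ∈ D := by simpa [h21] using L y hyD hy y2 hy2 h.right.2 (by simp [h21])
  have hw : y - a • y2 ∈ coreS F D := by
    intro t
    obtain ⟨r, hr⟩ := isSquare_of_two_eq_zero h2 t
    have e1 := M y y2 hyD hy hy2 h (r / a)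
    have e2 := M (a • y2) (a⁻¹ • y) hay2 (U.smul_mem _ hy2) (U.smul_mem _ hy)
      ⟨h.right.smul _, h.left.smul _, by simp [h21, hQ]⟩ (r / a)
    have := D.sub_mem e2 e1
    convert this using 1
    rw [hr]
    match_scalars <;> field_simp <;> ring
  have hyc : y ∈ coreS F D := L' _ hw (U.sub_mem hy (U.smul_mem _ hy2)) y hy hyQ
    (by simp [h.left.1, h.one, hQ])
  have hy2c : y2 ∈ coreS F D := L' _ hyc hy y2 hy2 h.right.2 (by simp [h21])
  have := le_of_sing_mem (U := coreS F D) h hy hy2 (by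
    intro z hz hs
    by_cases h3 : C.Φ.B z y = 0
    · by_cases h4 : C.Φ.B z y2 = 0
      · have := L' _ hy2c hy2 (z + y) (U.add_mem hz hy)
          (by rw [C.Qadd, C.sing.1 hs, hyQ, h3]; simp) (by simp [h4, h.one])
        simpa using (coreS F D).sub_mem this hyc
      · exact L' _ hy2c hy2 z hz (C.sing.1 hs) h4
    · exact L' _ hyc hy z hz (C.sing.1 hs) h3)
  exact fun u hu => mem_of_mem_coreS (this hu)

variable {X : Type*} [MulAction C.Φ.O X]

theorem ncard_pair_le (c v : V) :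
    {w | w ∈ Submodule.span F {c, v} ∧ w ∉ F ∙ c}.ncard ≤ Fintype.card F * (Fintype.card F - 1) := by
  classical
  rw [← Fintype.card_units, ← Fintype.card_prod, ← Nat.card_eq_fintype_card, ← Set.ncard_univ]
  refine (Set.ncard_le_ncard ?_ (Set.toFinite _)).trans
    (Set.ncard_image_le (f := fun p : F × Fˣ => p.1 • c + (p.2 : F) • v))
  rintro w ⟨h1, h2⟩
  obtain ⟨a, b, rfl⟩ := Submodule.mem_span_pair.1 h1
  have hb : b ≠ 0 := by rintro rfl; exact h2 (by simp [Submodule.smul_mem])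
  exact ⟨(a, Units.mk0 b hb), trivial, rfl⟩

/-- an annihilator containing a hyperplane `⟨c, v⟩^⊥` of `c^⊥` but not all of `c^⊥` -/
theorem le_of_U_le {c v : V} (hc : C.Φ.Q c = 0) (h0 : c ≠ 0) {Ω : Set X} (h : C.PInv c Ω) {x : X}
    (hx : x ∈ Ω) (hv : C.Φ.B c v = 0) (hv' : v ∉ F ∙ c)
    (hU : ∀ u ∈ C.Φ.perp (Submodule.span F {c, v}), u ∈ C.Dp c x) {z : V} (hz : C.Φ.B c z = 0)
    (hz' : z ∉ C.Dp c x) :
    Fintype.card F ^ (finrank F V - 3) * Fintype.card F ^ (finrank F V - 4) ≤ Ω.ncard := by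
  classical
  have := finite_of_fd F V
  let R : AddSubgroup V → V → Prop := fun D w => ∀ u ∈ C.Φ.perp (Submodule.span F {c, w}), u ∈ D
  let K' := {w | C.Φ.B c w = 0 ∧ w ∉ F ∙ c ∧ C.Φ.Q w = C.Φ.Q v}
  let T := (h.1.toFinset.image (C.Dp c)).filter
    (fun D => (∃ z, C.Φ.B c z = 0 ∧ z ∉ D) ∧ ∃ w ∈ K', R D w)
  have h1 := ncard_le_mul_of_cover (Set.toFinite K') T R 1
    (Fintype.card F * (Fintype.card F - 1)) (by
      intro w hw
      obtain ⟨g, hg, t, ht, h2, h3⟩ := C.exists_of_mem_K hc h0 hv hv' (C.subset_K c v hw)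
      have hR : R (C.Dp c (g • x)) w := by
        intro u hu
        rw [C.mem_Dp_smul ht h2]
        apply hU
        rw [mem_perp_pair] at hu ⊢
        simp only [map_smul, ← O_B_left, h2, h3, LinearMap.map_smulₛₗ, LinearMap.smul_apply,
          hu.1, hu.2, smul_zero, and_self]
      rw [Nat.one_le_iff_ne_zero]
      refine Set.ncard_ne_zero_of_mem (a := C.Dp c (g • x)) ⟨?_, hR⟩
      refine Finset.mem_filter.2 ⟨Finset.mem_image.2 ⟨g • x, by
        simpa using h.2 g hg t ht h2 x hx, rfl⟩, ⟨t⁻¹ • g.1 z, ?_, ?_⟩, w, hw, hR⟩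
      · have := O_B C.Φ g c z
        rw [h2, B_smul_left, hz] at this
        simpa [ht] using this
      · rw [C.mem_Dp_smul ht h2, map_smul, C.inv_apply, smul_inv_smul₀ ht]
        exact hz') (by
      intro D hD
      obtain ⟨-, ⟨z, hz, hz'⟩, w, hw, hR⟩ := Finset.mem_filter.1 hD
      refine (Set.ncard_le_ncard ?_ (Set.toFinite _)).trans (ncard_pair_le c w)
      rintro w' ⟨hw', hR'⟩
      refine ⟨?_, hw'.2.1⟩
      by_contra hcon
      obtain ⟨u, hu, hu'⟩ := C.hΦ.exists_perp_eq_one hcon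
      have hu2 : u ∈ C.Φ.perp (Submodule.span F {c, w}) := fun y hy =>
        C.Φ.B_eq_zero_symm (hu y hy)
      have e1 := hR _ ((C.Φ.perp _).smul_mem (C.Φ.B w' z) hu2)
      have e2 := hR' (z - C.Φ.B w' z • u) (mem_perp_pair.2 ⟨by
        simp [hz, (mem_perp_pair.1 hu2).1], by simp [C.comm w' u, hu']⟩)
      exact hz' (by simpa using D.add_mem e2 e1))
  have h2 := C.sum_card_le hc h0 h T (by
    intro D hD
    obtain ⟨x, hx, rfl⟩ := Finset.mem_image.1 (Finset.mem_filter.1 hD).1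
    exact ⟨x, by simpa using hx, rfl⟩)
  have h3 : T.card * Fintype.card F ^ (finrank F V - 2) ≤ ∑ D ∈ T, Nat.card D := by
    rw [← smul_eq_mul, ← Finset.sum_const]
    apply Finset.sum_le_sum
    intro D hD
    obtain ⟨-, -, w, -, hR⟩ := Finset.mem_filter.1 hD
    have e1 := C.hΦ.finrank_perp_add (Submodule.span F {c, w})
    have e2 := finrank_span_pair_le (F := F) c w
    calc _ ≤ Fintype.card F ^ finrank F (C.Φ.perp (Submodule.span F {c, w})) :=
          Nat.pow_le_pow_right Fintype.card_pos (by omega)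
      _ = _ := (card_submodule _).symm
      _ ≤ _ := AddSubgroup.card_le_of_le (H := (C.Φ.perp (Submodule.span F {c, w})).toAddSubgroup) hR
  have h4 := C.le_ncard_Q_eq hc h0 (C.Φ.Q v)
  have h5 := C.hV
  have hq : 1 < Fintype.card F := Fintype.one_lt_card
  set q := Fintype.card F
  rw [show finrank F V - 2 = finrank F V - 4 + 2 by omega, pow_add] at h3
  have h6 : 0 < q * q * (q - 1) := Nat.mul_pos (Nat.mul_pos (by omega) (by omega)) (by omega)
  apply Nat.le_of_mul_le_mul_left _ h6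
  calc _ = ((q - 1) * q ^ (finrank F V - 3)) * (q ^ (finrank F V - 4) * q ^ 2) := by ring
    _ ≤ (T.card * (q * (q - 1))) * (q ^ (finrank F V - 4) * q ^ 2) :=
        Nat.mul_le_mul_right _ (h4.trans (by simpa using h1))
    _ = (q * (q - 1)) * (T.card * (q ^ (finrank F V - 4) * q ^ 2)) := by ring
    _ ≤ (q * (q - 1)) * (q * Ω.ncard) := Nat.mul_le_mul_left _ (h3.trans h2)
    _ = _ := by ring

end OC

end H22
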