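import Cfsg.Agent.H22.MdD

/-!
Minimal degrees of orthogonal groups: annihilators containing a non-singular vector.
-/

set_option autoImplicit false

namespace H22

open H23 H23.Form Module Pointwise

section Small

variable {F : Type*} [Field F] [Fintype F]

theorem eq_zero_or_one_card_two (h : Fintype.card F = 2) (a : F) : a = 0 ∨ a = 1 := by
  by_cases ha : a = 0
  · exact Or.inl ha
  · have := FiniteField.pow_card_sub_one_eq_one a ha
    rw [h] at this
    exact Or.inr (by simpa using this)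

theorem two_eq_zero_card_two (h : Fintype.card F = 2) : (2 : F) = 0 := by
  have := FiniteField.cast_card_eq_zero F
  rw [h] at this
  exact_mod_cast this

theorem three_eq_zero_card_three (h : Fintype.card F = 3) : (3 : F) = 0 := by
  have := FiniteField.cast_card_eq_zero F
  rw [h] at this
  exact_mod_cast this

theorem sq_eq_one_card_three (h : Fintype.card F = 3) {a : F} (ha : a ≠ 0) : a * a = 1 := by
  have := FiniteField.pow_card_sub_one_eq_one a ha
  rw [h] at this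
  simpa [sq] using this

theorem two_ne_zero_card_three (h : Fintype.card F = 3) : (2 : F) ≠ 0 := fun h2 =>
  one_ne_zero (α := F) (by linear_combination three_eq_zero_card_three h - h2)

theorem exists_pow_four_ne (h2 : Fintype.card F ≠ 2) (h3 : Fintype.card F ≠ 3)
    (h5 : Fintype.card F ≠ 5) : ∃ t : F, t ≠ 0 ∧ t ^ 4 ≠ 1 := by
  by_contra hc
  push Not at hc
  have h := (FiniteField.forall_pow_eq_one_iff F 4).1 fun x => Units.ext (by
    simpa using hc x x.ne_zero)
  have h1 : 1 < Fintype.card F := Fintype.one_lt_card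
  have h4 := Nat.le_of_dvd (by norm_num) h
  have : Fintype.card F = 4 := by omega
  rw [this] at h
  norm_num at h

theorem exists_sq_ne_one (h : 4 ≤ Fintype.card F) : ∃ t : F, t ≠ 0 ∧ t ^ 2 ≠ 1 := by
  by_contra hc
  push Not at hc
  have h := (FiniteField.forall_pow_eq_one_iff F 2).1 fun x => Units.ext (by
    simpa using hc x x.ne_zero)
  have h4 := Nat.le_of_dvd (by norm_num) h
  omega

theorem card_sq_class [DecidableEq F] {a : F} (ha : a ≠ 0) :
    Fintype.card F - 1 ≤ 2 * (Finset.univ.image fun t : Fˣ => a / (t : F) ^ 2).card ∧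
    ((2 : F) = 0 → Fintype.card F - 1 ≤ (Finset.univ.image fun t : Fˣ => a / (t : F) ^ 2).card) := by
  have key : ∀ t s : Fˣ, a / (t : F) ^ 2 = a / (s : F) ^ 2 → t = s ∨ t = -s := by
    intro t s h
    have ht := t.ne_zero
    have hs := s.ne_zero
    field_simp at h
    rcases sq_eq_sq_iff_eq_or_eq_neg.1 h.symm with h | h
    · exact Or.inl (Units.ext h)
    · exact Or.inr (Units.ext h)
  constructor
  · rw [← Fintype.card_units, ← Finset.card_univ]
    apply Finset.card_le_mul_card_image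
    intro b hb
    obtain ⟨s, -, rfl⟩ := Finset.mem_image.1 hb
    refine (Finset.card_le_card (t := {s, -s}) ?_).trans Finset.card_le_two
    intro t ht
    simpa using key t s (Finset.mem_filter.1 ht).2
  · intro h2
    rw [Finset.card_image_of_injective, Finset.card_univ, Fintype.card_units]
    intro t s h
    rcases key t s h with h | h
    · exact h
    · rw [h]; exact Units.ext (by simp only [Units.val_neg]; linear_combination (-(s : F)) * h2)

end Small

namespace OC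

variable {F V : Type*} [Field F] [AddCommGroup V] [Module F V] [FiniteDimensional F V]
  (C : OC F V) [Fintype F]

/-- number of vectors of norm `a` -/
noncomputable def N (a : F) : ℕ := {v | C.Φ.Q v = a}.ncard

/-- the numerical hypotheses -/
structure Num (ω : ℕ) : Prop where
  h1 : ω < 2 * Fintype.card F ^ (finrank F V - 2)
  h1' : 3 ≤ Fintype.card F → 2 * ω < 3 * Fintype.card F ^ (finrank F V - 2)
  hs : ω * (Fintype.card F - 1) + 1 < C.N 0
  hn : ∀ a ≠ 0, ω < C.N a ∧ ((2 : F) ≠ 0 → 2 * ω < C.N a)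
  h36 : Fintype.card F = 3 → finrank F V = 6 → ∀ a ≠ 0, 2 * ω + 486 < 3 * C.N a
  h37 : Fintype.card F = 3 → finrank F V = 7 → ω < 360
  h2 : Fintype.card F = 2 → 3 * ω + 8 * 2 ^ (finrank F V - 2) < 8 * C.N 1
  h26 : Fintype.card F = 2 → finrank F V = 6 → 3 * ω + 64 < 4 * C.N 1
  h20 : Fintype.card F = 2 → 8 ≤ finrank F V → 2 * ω + 5 * (2 ^ (finrank F V - 2) + 2) < 5 * C.N 0
  w6 : finrank F V = 6 → ∀ E, C.Φ.TotSing E → finrank F E ≤ 2
  w7 : finrank F V = 7 → C.N 0 = Fintype.card F ^ 6 ∧ Fintype.card F ≠ 2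
  w8 : finrank F V = 8 → (∀ E, C.Φ.TotSing E → finrank F E ≤ 3) ∨
    (C.N 0 + Fintype.card F ^ 3 = Fintype.card F ^ 7 + Fintype.card F ^ 4 ∧
      (Fintype.card F ≤ 3 →
        ω < Fintype.card F ^ 3 * (Fintype.card F + 1) * (Fintype.card F ^ 2 + 1)))

omit [FiniteDimensional F V] in
theorem Num.mono {C : OC F V} {ω ω' : ℕ} (h : C.Num ω) (hle : ω' ≤ ω) : C.Num ω' where
  h1 := hle.trans_lt h.h1
  h1' := fun hq => by have := h.h1' hq; omega
  hs := by have := h.hs; have := Nat.mul_le_mul_right (Fintype.card F - 1) hle; omega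
  hn := fun a ha => ⟨hle.trans_lt (h.hn a ha).1, fun h2 => by have := (h.hn a ha).2 h2; omega⟩
  h36 := fun h1 h2 a ha => by have := h.h36 h1 h2 a ha; omega
  h37 := fun h1 h2 => by have := h.h37 h1 h2; omega
  h2 := fun h1 => by have := h.h2 h1; omega
  h26 := fun h1 h2 => by have := h.h26 h1 h2; omega
  h20 := fun h1 h2 => by have := h.h20 h1 h2; omega
  w6 := h.w6
  w7 := h.w7
  w8 := fun h1 => (h.w8 h1).imp id fun h2 => ⟨h2.1, fun h3 => hle.trans_lt (h2.2 h3)⟩

theorem ncard_perp_add {c : V} (hc : C.Φ.Q c = 0) (h0 : c ≠ 0) (a : F) :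
    {w | C.Φ.B c w = 0 ∧ C.Φ.Q w = a}.ncard +
      (Fintype.card F - 1) * Fintype.card F ^ (finrank F V - 2) = C.N a := by
  have := finite_of_fd F V
  obtain ⟨c', h⟩ := exists_hyp C.hΦ (C.sing.2 hc) h0
  have h1 := ncard_Q_eq_not_perp' C.hΦ C.hκ (U := ⊤) h trivial trivial a
  rw [finrank_top] at h1
  rw [← h1, N, ← Set.ncard_union_eq (by
    rw [Set.disjoint_left]; exact fun w h1 h2 => h2.2.2 h1.1)]
  congr 1
  ext w
  by_cases hw : C.Φ.B c w = 0 <;> simp [hw]

theorem ncard_K_add {c : V} (hc : C.Φ.Q c = 0) (h0 : c ≠ 0) {a : F} (ha : a ≠ 0) :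
    {w | C.Φ.B c w = 0 ∧ w ∉ F ∙ c ∧ C.Φ.Q w = a}.ncard +
      (Fintype.card F - 1) * Fintype.card F ^ (finrank F V - 2) = C.N a := by
  rw [← C.ncard_perp_add hc h0 a]
  congr 2
  ext w
  refine and_congr_right fun _ => ⟨fun h => h.2, fun h => ⟨fun h1 => ?_, h⟩⟩
  obtain ⟨t, rfl⟩ := Submodule.mem_span_singleton.1 h1
  rw [C.Φ.Q_smul, hc, mul_zero] at h
  exact ha h.symm

theorem ncard_K_zero_add {c : V} (hc : C.Φ.Q c = 0) (h0 : c ≠ 0) :
    {w | C.Φ.B c w = 0 ∧ w ∉ F ∙ c ∧ C.Φ.Q w = 0}.ncard + Fintype.card F +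
      (Fintype.card F - 1) * Fintype.card F ^ (finrank F V - 2) = C.N 0 := by
  have := finite_of_fd F V
  rw [← C.ncard_perp_add hc h0 0]
  congr 1
  have h1 : ((F ∙ c : Submodule F V) : Set V).ncard = Fintype.card F := by
    rw [← Nat.card_coe_set_eq]
    change Nat.card (F ∙ c : Submodule F V) = _
    rw [card_submodule, finrank_span_singleton h0, pow_one]
  rw [← h1, ← Set.ncard_union_eq (by
    rw [Set.disjoint_left]; exact fun w h1 h2 => h1.2.1 h2)]
  congr 1
  ext w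
  simp only [Set.mem_union, Set.mem_ofPred_eq, SetLike.mem_coe]
  constructor
  · rintro (h | h)
    · exact ⟨h.1, h.2.2⟩
    · obtain ⟨t, rfl⟩ := Submodule.mem_span_singleton.1 h
      simp [C.self, hc, C.Φ.Q_smul]
  · intro h
    by_cases hw : w ∈ F ∙ c
    · exact Or.inr hw
    · exact Or.inl ⟨h.1, hw, h.2⟩

theorem frac3 (h2 : (2 : F) ≠ 0) {a : F} (ha : a ≠ 0) (D : AddSubgroup V) {K : Set V}
    (hK : ∀ w ∈ K, C.Φ.Q w = a) : 3 * {w ∈ K | w ∈ D}.ncard ≤ 2 * Nat.card D := by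
  have := finite_of_fd F V
  let A : V → Set V := fun z => {x | x ∈ D ∧ C.Φ.Q (x + z) = a}
  have h1 : {w ∈ K | w ∈ D}.ncard ≤ (A 0).ncard :=
    Set.ncard_le_ncard (fun w hw => ⟨hw.2, by rw [add_zero, hK w hw.1]⟩) (Set.toFinite _)
  rcases Set.eq_empty_or_nonempty (A 0) with h | ⟨v, hv, hQ⟩
  · rw [h] at h1; simp at h1; simp [h1]
  rw [add_zero] at hQ
  have h3 : ∀ z ∈ D, (A 0).ncard ≤ (A z).ncard := fun z hz =>
    Set.ncard_le_ncard_of_injOn (fun x => x - z) (fun x hx => ⟨D.sub_mem hx.1 hz, by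
      simpa using hx.2⟩) (sub_left_injective.injOn) (Set.toFinite _)
  have h4 : ∀ z, ((D : Set V) \ A z).ncard + (A z).ncard = Nat.card D := fun z =>
    Set.ncard_sdiff_add_ncard_of_subset (fun _ h => h.1)
  have h5 : (D : Set V) ⊆ ((D : Set V) \ A 0) ∪ (((D : Set V) \ A v) ∪ ((D : Set V) \ A (-v))) := by
    intro x hx
    by_contra hc
    simp only [Set.mem_union, Set.mem_sdiff, not_or, not_and, not_not] at hc
    have e1 := (hc.1 hx).2
    have e2 := (hc.2.1 hx).2
    have e3 := (hc.2.2 hx).2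
    rw [add_zero] at e1
    rw [C.Qadd, e1, hQ] at e2
    rw [← sub_eq_add_neg, C.Qsub, e1, hQ] at e3
    exact mul_ne_zero h2 ha (by linear_combination e2 + e3)
  have h6 := (Set.ncard_le_ncard h5 (Set.toFinite _)).trans ((Set.ncard_union_le _ _).trans
    (Nat.add_le_add_left (Set.ncard_union_le _ _) _))
  have h7 : (D : Set V).ncard = Nat.card D := rfl
  have := h3 v hv
  have := h3 (-v) (D.neg_mem hv)
  have := h4 0
  have := h4 v
  have := h4 (-v)
  omega

theorem frac2 (hq : Fintype.card F = 2) (D : AddSubgroup V) {K : Set V}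
    (hK : ∀ w ∈ K, C.Φ.Q w = 1) : 4 * {w ∈ K | w ∈ D}.ncard ≤ 3 * Nat.card D := by
  have := finite_of_fd F V
  have h2 := two_eq_zero_card_two hq
  let A : Set V := {x | x ∈ D ∧ C.Φ.Q x = 1}
  have h1 : {w ∈ K | w ∈ D}.ncard ≤ A.ncard :=
    Set.ncard_le_ncard (fun w hw => ⟨hw.2, hK w hw.1⟩) (Set.toFinite _)
  rcases Set.eq_empty_or_nonempty A with h | ⟨v, hv, hQ⟩
  · rw [h] at h1; simp at h1; simp [h1]
  let D0 : Set V := {x | x ∈ D ∧ C.Φ.B x v = 0}
  have h3 : ((D : Set V) \ A).ncard + A.ncard = Nat.card D :=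
    Set.ncard_sdiff_add_ncard_of_subset (fun _ h => h.1)
  have h4 : ((D : Set V) \ D0).ncard + D0.ncard = Nat.card D :=
    Set.ncard_sdiff_add_ncard_of_subset (fun _ h => h.1)
  have h5 : ((D : Set V) \ D0).ncard ≤ D0.ncard := by
    rcases Set.eq_empty_or_nonempty ((D : Set V) \ D0) with h | ⟨z, hz, hz'⟩
    · simp [h]
    refine Set.ncard_le_ncard_of_injOn (fun x => x + z) (fun x hx => ⟨D.add_mem hx.1 hz, ?_⟩)
      ((add_left_injective z).injOn) (Set.toFinite _)
    have e1 := (eq_zero_or_one_card_two hq (C.Φ.B x v)).resolve_left fun h => hx.2 ⟨hx.1, h⟩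
    have e2 := (eq_zero_or_one_card_two hq (C.Φ.B z v)).resolve_left fun h => hz' ⟨hz, h⟩
    simp only [map_add, LinearMap.add_apply, e1, e2]
    linear_combination h2
  have h6 : (D0 ∩ A).ncard + (D0 \ A).ncard = D0.ncard := Set.ncard_inter_add_ncard_sdiff_eq_ncard _ _
  have h7 : (D0 ∩ A).ncard ≤ (D0 \ A).ncard := by
    refine Set.ncard_le_ncard_of_injOn (fun x => x + v) (fun x hx => ⟨⟨D.add_mem hx.1.1 hv, ?_⟩, ?_⟩)
      ((add_left_injective v).injOn) (Set.toFinite _)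
    · simp [hx.1.2, C.self, h2]
    · intro h
      have e := h.2
      rw [C.Qadd, hx.2.2, hQ, hx.1.2] at e
      exact one_ne_zero (α := F) (by linear_combination e)
  have h8 : (D0 \ A).ncard ≤ ((D : Set V) \ A).ncard :=
    Set.ncard_le_ncard (fun x hx => ⟨hx.1.1, hx.2⟩) (Set.toFinite _)
  omega

variable {X : Type*} [MulAction C.Φ.O X]

theorem ncard_M_le_of_four_le {c v : V} (hc : C.Φ.Q c = 0) (h0 : c ≠ 0) {Ω : Set X}
    (h : C.PInv c Ω) (hN : C.Num Ω.ncard) (hv : C.Φ.B c v = 0) (hQ : C.Φ.Q v ≠ 0)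
    (hq : 4 ≤ Fintype.card F) :
    ((2 : F) = 0 → (C.M c Ω v).ncard ≤ 3) ∧ ((2 : F) ≠ 0 → (C.M c Ω v).ncard ≤ 4) := by
  classical
  have hv' : v ∉ F ∙ c := fun h1 => by
    obtain ⟨t, rfl⟩ := Submodule.mem_span_singleton.1 h1
    exact hQ (by rw [C.Φ.Q_smul, hc, mul_zero])
  set T := Finset.univ.image fun t : Fˣ => C.Φ.Q v / (t : F) ^ 2
  have h1 := C.mult_le' hc h0 h hv hv' (K' := {w | C.Φ.B c w = 0 ∧ w ∉ F ∙ c ∧ C.Φ.Q w ∈ T}) (by
    rintro w ⟨h1, h2, h3⟩
    obtain ⟨t, -, h4⟩ := Finset.mem_image.1 h3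
    exact ⟨h1, h2, t, t.ne_zero, by rw [← h4]; field_simp⟩)
  have h2 := C.le_ncard_Q_mem hc h0 T
  have h3 := hN.h1' (by omega)
  obtain ⟨h4, h5⟩ := card_sq_class hQ
  have h6 := C.hV
  set q := Fintype.card F
  set m := (C.M c Ω v).ncard
  rw [show finrank F V - 2 = finrank F V - 3 + 1 by omega, pow_succ] at h3
  set y := q ^ (finrank F V - 3)
  have hy : 0 < y := by positivity
  have h7 : 2 * (m * (T.card * ((q - 1) * y))) < q * (3 * (y * q)) :=
    calc _ ≤ 2 * (q * Ω.ncard) := Nat.mul_le_mul_left _ ((Nat.mul_le_mul_left _ h2).trans h1)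
      _ = q * (2 * Ω.ncard) := by ring
      _ < _ := Nat.mul_lt_mul_of_pos_left h3 (by omega)
  have h8 : 2 * m * T.card * (q - 1) < 3 * q * q := by
    apply Nat.lt_of_mul_lt_mul_right (a := y)
    calc _ = 2 * (m * (T.card * ((q - 1) * y))) := by ring
      _ < _ := h7
      _ = _ := by ring
  obtain ⟨r, hr⟩ : ∃ r, q = r + 1 := ⟨q - 1, by omega⟩
  rw [hr] at h8 h4 h5 hq
  simp only [Nat.add_sub_cancel] at h8 h4 h5
  constructor
  · intro h2
    have := h5 h2
    by_contra hm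
    have : 2 * 4 * r * r ≤ 2 * m * T.card * r := by gcongr; omega
    nlinarith
  · intro h2
    have hodd := odd_card_of_two_ne_zero h2
    change Odd q at hodd
    have hr4 : 4 ≤ r := by obtain ⟨k, hk⟩ := hodd; omega
    by_contra hm
    have : 5 * (2 * T.card) * r ≤ m * (2 * T.card) * r := by gcongr; omega
    have : 5 * r * r ≤ 5 * (2 * T.card) * r := by gcongr
    nlinarith

theorem s_smul_of_mem_span {c y u : V} (hc : C.Φ.Q c = 0) (hy : y ∈ F ∙ c) (hu : C.Φ.B c u = 0)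
    (x : X) : C.s y u • C.Dp c x = C.Dp c x := by
  obtain ⟨t, rfl⟩ := Submodule.mem_span_singleton.1 hy
  by_cases ht : t = 0
  · have : C.s (t • c) u = 1 := O_ext _ fun z => by
      rw [ht, zero_smul, sg_apply _ _ (by simp) (by simp)]; simp
    rw [this, one_smul]
  · rw [s, sg_smul _ _ ht]
    exact C.s_smul_Dp hc (by simp [hu]) x

end OC

end H22
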