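import Cfsg.Agent.H22.MdE

/-!
Minimal degrees of orthogonal groups: annihilators containing a non-singular vector are lines or
everything.
-/

set_option autoImplicit false

namespace H22

open H23 H23.Form Module Pointwise

namespace OC

variable {F V : Type*} [Field F] [AddCommGroup V] [Module F V] [FiniteDimensional F V]
  (C : OC F V) [Fintype F] {X : Type*} [MulAction C.Φ.O X]

theorem card_sgA (y : V) (U : Submodule F V) :
    (ringChar F).Prime ∧ ∃ k, Nat.card (sgA C.hΦ C.hκ y U).U = ringChar F ^ k := by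
  obtain ⟨n, hp, hn⟩ := FiniteField.card F (ringChar F)
  exact ⟨hp, _, by rw [card_sgA_U, hn, ← pow_mul]⟩

theorem sgA_inv {c v y : V} {Ω : Set X} (h : C.PInv c Ω)
    (hy : y ∈ C.Φ.perp (Submodule.span F {c, v})) :
    ∀ u ∈ (sgA C.hΦ C.hκ y (C.Φ.perp (Submodule.span F {c, v}))).U, ∀ D ∈ C.M c Ω v,
      (sgA C.hΦ C.hκ y (C.Φ.perp (Submodule.span F {c, v}))).e u • D ∈ C.M c Ω v := by
  intro u hu
  have h1 := mem_perp_pair.1 ((mem_sgA_U _ _).1 hu).1
  have h2 := mem_perp_pair.1 hy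
  exact C.smul_mem_M h (C.s_mem y u)
    (sg_apply_of_perp _ _ (by rw [C.comm, h2.1]) (by rw [C.comm, h1.1]))
    (sg_apply_of_perp _ _ (by rw [C.comm, h2.2]) (by rw [C.comm, h1.2]))

theorem fix_of_M_lt {c v y u : V} {Ω : Set X} (h : C.PInv c Ω)
    (hlt : (C.M c Ω v).ncard < ringChar F) (hy : y ∈ C.Φ.perp (Submodule.span F {c, v}))
    (hu : u ∈ C.Φ.perp (Submodule.span F {c, v})) (hyu : C.Φ.B y u = 0) {D : AddSubgroup V}
    (hD : D ∈ C.M c Ω v) : C.s y u • D = D := by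
  have := finite_of_fd F V
  obtain ⟨hp, k, hk⟩ := C.card_sgA y (C.Φ.perp (Submodule.span F {c, v}))
  exact AH.fix_of_lt _ hp hk (C.M_finite h.1 v) (C.sgA_inv h hy) hlt
    ((mem_sgA_U _ _).2 ⟨hu, hyu⟩) hD

theorem fix_of_M_small {c v y u u1 u2 : V} {Ω : Set X} (h : C.PInv c Ω)
    (hc : (C.M c Ω v).ncard ≤ 3 ∨ ((2 : F) ≠ 0 ∧ (C.M c Ω v).ncard ≤ 4))
    (hy : y ∈ C.Φ.perp (Submodule.span F {c, v}))
    (hu : u ∈ C.Φ.perp (Submodule.span F {c, v})) (hyu : C.Φ.B y u = 0)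
    (hu1 : u1 ∈ C.Φ.perp (Submodule.span F {c, v})) (hyu1 : C.Φ.B y u1 = 0)
    (hu2 : u2 ∈ C.Φ.perp (Submodule.span F {c, v})) (hyu2 : C.Φ.B y u2 = 0)
    {g : C.Φ.O} (hg : g ∈ C.G) (hgc : g.1 c = c) (hgv : g.1 v = v)
    (h1 : g * C.s y u * g⁻¹ = C.s y u1) (h2 : g * C.s y u1 * g⁻¹ = C.s y u2)
    {D : AddSubgroup V} (hD : D ∈ C.M c Ω v) : C.s y (u2 - u) • D = D := by
  have := finite_of_fd F V
  obtain ⟨hp, k, hk⟩ := C.card_sgA y (C.Φ.perp (Submodule.span F {c, v}))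
  exact AH.fix_of_small _ hp hk (C.M_finite h.1 v) (C.sgA_inv h hy)
    (hc.imp id fun h => ⟨ringChar_ne_two h.1, h.2⟩) (C.smul_mem_M h hg hgc hgv)
    ((mem_sgA_U _ _).2 ⟨hu, hyu⟩) ((mem_sgA_U _ _).2 ⟨hu1, hyu1⟩) ((mem_sgA_U _ _).2 ⟨hu2, hyu2⟩)
    h1 h2 hD

theorem exists_partner_U {c v y : V} (hc : C.Φ.Q c = 0) (hv : C.Φ.B c v = 0) (hQ : C.Φ.Q v ≠ 0)
    (hy : y ∈ C.Φ.perp (Submodule.span F {c, v})) (hyQ : C.Φ.Q y = 0) (hn : y ∉ F ∙ c) :
    ∃ y' ∈ C.Φ.perp (Submodule.span F {c, v}), Hyp C.Φ y y' :=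
  exists_hyp_mem C.hΦ (C.sing.2 hyQ) hy (by
    rw [C.hΦ.perp_perp]; exact C.notMem_pair_of_sing hc hv hQ hyQ hn)

theorem ringChar_eq_of_card {p : ℕ} (hp : p.Prime) (h : Fintype.card F = p) : ringChar F = p := by
  obtain ⟨n, hp', hn⟩ := FiniteField.card F (ringChar F)
  rw [h] at hn
  exact ((Nat.Prime.eq_one_or_self_of_dvd hp _ (hn ▸ dvd_pow_self _ n.ne_zero)).resolve_left
    hp'.one_lt.ne')

theorem inv_four {c v y u : V} (hc : C.Φ.Q c = 0) (h0 : c ≠ 0) {Ω : Set X} (h : C.PInv c Ω)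
    (hN : C.Num Ω.ncard) (hq : 4 ≤ Fintype.card F) {x : X} (hx : x ∈ Ω) (hvD : v ∈ C.Dp c x)
    (hQ : C.Φ.Q v ≠ 0) (hy : y ∈ C.Φ.perp (Submodule.span F {c, v})) (hyQ : C.Φ.Q y = 0)
    (hu : u ∈ C.Φ.perp (Submodule.span F {c, v})) (hyu : C.Φ.B y u = 0) :
    C.s y u • C.Dp c x = C.Dp c x := by
  have hv := C.perp_of_mem_Dp hc hvD
  have hD : C.Dp c x ∈ C.M c Ω v := ⟨⟨x, hx, rfl⟩, hvD⟩
  obtain ⟨h1, h2⟩ := C.ncard_M_le_of_four_le hc h0 h hN hv hQ hq
  by_cases h5 : Fintype.card F = 5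
  · refine C.fix_of_M_lt h ?_ hy hu hyu hD
    rw [ringChar_eq_of_card (by norm_num) h5]
    have := h2 (two_ne_zero_of_odd_card (by rw [h5]; decide))
    omega
  by_cases hn : y ∈ F ∙ c
  · exact C.s_smul_of_mem_span hc hn (mem_perp_pair.1 hu).1 x
  obtain ⟨y', hy', hh⟩ := C.exists_partner_U hc hv hQ hy hyQ hn
  obtain ⟨t, ht, ht4⟩ := exists_pow_four_ne (F := F) (by omega) (by omega) h5
  have ht2 : t ^ 2 ≠ 0 := pow_ne_zero _ ht
  set U := C.Φ.perp (Submodule.span F {c, v})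
  set w := (t ^ 4 - 1)⁻¹ • u
  have hw : w ∈ U := U.smul_mem _ hu
  have hyw : C.Φ.B y w = 0 := by simp [w, hyu]
  have := C.fix_of_M_small h (by
      by_cases h2' : (2 : F) = 0
      · exact Or.inl (h1 h2')
      · exact Or.inr ⟨h2', h2 h2'⟩) hy hw hyw (U.smul_mem (t ^ 2) hw) (by simp [hyw])
    (U.smul_mem (t ^ 2) (U.smul_mem (t ^ 2) hw)) (by simp [hyw]) (C.tor_mem hh ht)
    (C.tor_of_perp hh ht2 (by rw [C.comm, (mem_perp_pair.1 hy).1])
      (by rw [C.comm, (mem_perp_pair.1 hy').1]))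
    (C.tor_of_perp hh ht2 (by rw [C.comm, (mem_perp_pair.1 hy).2])
      (by rw [C.comm, (mem_perp_pair.1 hy').2]))
    (C.conj_tor hh ht2 hyw) (C.conj_tor hh ht2 (by simp [hyw])) hD
  have e : t ^ 2 • t ^ 2 • w - w = u := by
    have := sub_ne_zero.2 ht4
    simp only [w]
    match_scalars
    field_simp
  rwa [e] at this

omit [FiniteDimensional F V] [Fintype F] in
theorem notMem_span_of_Q {c v : V} (hc : C.Φ.Q c = 0) (hQ : C.Φ.Q v ≠ 0) : v ∉ F ∙ c := fun h1 => by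
  obtain ⟨t, rfl⟩ := Submodule.mem_span_singleton.1 h1
  exact hQ (by rw [C.Φ.Q_smul, hc, mul_zero])

theorem M_le_three {c v : V} (hc : C.Φ.Q c = 0) (h0 : c ≠ 0) {Ω : Set X} (h : C.PInv c Ω)
    (hq : Fintype.card F = 3) (hv : C.Φ.B c v = 0) (hQ : C.Φ.Q v ≠ 0) :
    (C.M c Ω v).ncard * {w | C.Φ.B c w = 0 ∧ w ∉ F ∙ c ∧ C.Φ.Q w = C.Φ.Q v}.ncard ≤
      2 * Ω.ncard := by
  have := C.mult_le hc h0 h hv (C.notMem_span_of_Q hc hQ) (C.subset_K c v) (α := 3) (β := 2)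
    fun x _ => C.frac3 (two_ne_zero_card_three hq) hQ _ fun w hw => hw.2.2
  rw [hq] at this
  omega

theorem M_le_two {c v : V} (hc : C.Φ.Q c = 0) (h0 : c ≠ 0) {Ω : Set X} (h : C.PInv c Ω)
    (hq : Fintype.card F = 2) (hv : C.Φ.B c v = 0) (hQ : C.Φ.Q v = 1) :
    4 * ((C.M c Ω v).ncard * {w | C.Φ.B c w = 0 ∧ w ∉ F ∙ c ∧ C.Φ.Q w = 1}.ncard) ≤
      6 * Ω.ncard := by
  have := C.mult_le hc h0 h hv (C.notMem_span_of_Q hc (by simp [hQ])) (C.subset_K c v)
    (α := 4) (β := 3) fun x _ => C.frac2 hq _ fun w hw => hw.2.2.trans hQ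
  rw [hq, hQ] at this
  omega

/-- counting in dimension seven over the field of three elements -/
theorem count_seven {c v y y' z z' : V} (hq : Fintype.card F = 3) (h7 : finrank F V = 7)
    (hc : C.Φ.Q c = 0) (h0 : c ≠ 0) (hv : C.Φ.B c v = 0) (hQ : C.Φ.Q v ≠ 0)
    (hy : Hyp C.Φ y y') (hz : Hyp C.Φ z z') (h1 : C.Φ.B c y = 0) (h2 : C.Φ.B c y' = 0)
    (h3 : C.Φ.B c z = 0) (h4 : C.Φ.B c z' = 0) (h5 : C.Φ.B y z = 0) (h6 : C.Φ.B y z' = 0)
    (h8 : C.Φ.B y' z = 0) (h9 : C.Φ.B v y = 0) (h10 : C.Φ.B v y' = 0) (h11 : C.Φ.B v z = 0)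
    (h12 : C.Φ.B v z' = 0) :
    270 ≤ {w | C.Φ.B c w = 0 ∧ w ∉ F ∙ c ∧ C.Φ.Q w = C.Φ.Q v}.ncard := by
  classical
  have := finite_of_fd F V
  have e1 := ncard_Q_eq_not_perp' C.hΦ C.hκ (U := C.Φ.perp (F ∙ c)) hy
    ((C.Φ.mem_perp_span_singleton).2 h1) ((C.Φ.mem_perp_span_singleton).2 h2) (C.Φ.Q v)
  have e2 := ncard_Q_eq_not_perp' C.hΦ C.hκ (U := C.Φ.perp (Submodule.span F {c, y})) hz
    (mem_perp_pair.2 ⟨h3, h5⟩) (mem_perp_pair.2 ⟨h4, h6⟩) (C.Φ.Q v)
  have d1 := C.finrank_perp_one h0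
  have d2 := C.hΦ.finrank_perp_add (Submodule.span F {c, y})
  have d3 := finrank_span_pair_le (F := F) c y
  rw [hq, show finrank F (C.Φ.perp (F ∙ c)) - 2 = 4 by omega] at e1
  have e2' : 54 ≤ {w | w ∈ C.Φ.perp (Submodule.span F {c, y}) ∧ C.Φ.Q w = C.Φ.Q v ∧
      C.Φ.B z w ≠ 0}.ncard := by
    rw [e2, hq]
    have : 3 ^ 3 ≤ 3 ^ (finrank F (C.Φ.perp (Submodule.span F {c, y})) - 2) :=
      Nat.pow_le_pow_right (by norm_num) (by omega)
    omega
  let f : F × F × F × Fˣ → V := fun p => p.1 • c + p.2.1 • y + p.2.2.1 • z + (p.2.2.2 : F) • v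
  have hcc : C.Φ.B c c = 0 := by rw [C.self, hc, mul_zero]
  have hf : Function.Injective f := by
    rintro ⟨a, b, d, e⟩ ⟨a', b', d', e'⟩ hh
    have k1 := congrArg (C.Φ.B y') hh
    have k2 := congrArg (C.Φ.B z') hh
    have k3 := congrArg (C.Φ.B v) hh
    simp only [f, map_add, map_smul, smul_eq_mul, C.comm y' c, C.comm y' y, C.comm y' v, h2, hy.one,
      h8, h10, C.comm z' c, C.comm z' y, C.comm z' z, C.comm z' v, h4, h6, hz.one, h12,
      C.comm v c, hv, h9, h11, C.self v, mul_zero, mul_one, add_zero, zero_add] at k1 k2 k3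
    have k4 : e = e' := Units.ext (mul_right_cancel₀
      (mul_ne_zero (two_ne_zero_card_three hq) hQ) k3)
    subst k1 k2 k4
    simp only [f, add_left_inj] at hh
    rw [smul_left_injective F h0 hh]
  have e3 : (Set.range f).ncard = 54 := by
    rw [Set.ncard_range_of_injective hf]
    simp [Nat.card_eq_fintype_card, Fintype.card_units, hq]
  have hS : ∀ w ∈ Set.range f, C.Φ.B c w = 0 ∧ C.Φ.B y w = 0 ∧ C.Φ.B z w = 0 ∧
      C.Φ.Q w = C.Φ.Q v := by
    rintro _ ⟨⟨a, b, d, e⟩, rfl⟩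
    have := sq_eq_one_card_three hq e.ne_zero
    simp [f, C.Qadd, C.Φ.Q_smul, hcc, h1, h3, hv, C.comm y c, hy.left.1, h5, C.comm y v, h9,
      C.comm z c, C.comm z y, hz.left.1, C.comm z v, h11, hc, hy.left.2, hz.left.2, sq, this]
  set S1 := {w | w ∈ C.Φ.perp (F ∙ c) ∧ C.Φ.Q w = C.Φ.Q v ∧ C.Φ.B y w ≠ 0}
  set S2 := {w | w ∈ C.Φ.perp (Submodule.span F {c, y}) ∧ C.Φ.Q w = C.Φ.Q v ∧ C.Φ.B z w ≠ 0}
  have u1 : (S2 ∪ Set.range f).ncard = S2.ncard + (Set.range f).ncard :=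
    Set.ncard_union_eq (by rw [Set.disjoint_left]; exact fun w a b => a.2.2 (hS w b).2.2.1)
  have u2 : (S1 ∪ (S2 ∪ Set.range f)).ncard = S1.ncard + (S2 ∪ Set.range f).ncard :=
    Set.ncard_union_eq (by
      rw [Set.disjoint_left]
      rintro w a (b | b)
      · exact a.2.2 (mem_perp_pair.1 b.1).2
      · exact a.2.2 (hS w b).2.1)
  have u3 : (S1 ∪ (S2 ∪ Set.range f)).ncard ≤
      {w | C.Φ.B c w = 0 ∧ w ∉ F ∙ c ∧ C.Φ.Q w = C.Φ.Q v}.ncard := by
    apply Set.ncard_le_ncard _ (Set.toFinite _)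
    have k : ∀ w, C.Φ.Q w = C.Φ.Q v → w ∉ F ∙ c := fun w hw =>
      C.notMem_span_of_Q hc (hw ▸ hQ)
    rintro w (a | a | a)
    · exact ⟨(C.Φ.mem_perp_span_singleton).1 a.1, k w a.2.1, a.2.1⟩
    · exact ⟨(mem_perp_pair.1 a.1).1, k w a.2.1, a.2.1⟩
    · exact ⟨(hS w a).1, k w (hS w a).2.2.2, (hS w a).2.2.2⟩
  omega

theorem fix_rot {c v y y' u w : V} {Ω : Set X} (h : C.PInv c Ω) (hq : Fintype.card F = 3)
    (hM : (C.M c Ω v).ncard ≤ 4) (hy : y ∈ C.Φ.perp (Submodule.span F {c, v}))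
    (hy' : y' ∈ C.Φ.perp (Submodule.span F {c, v})) (hh : Hyp C.Φ y y')
    (hu : u ∈ C.Φ.perp (Submodule.span F {c, v})) (hyu : C.Φ.B y u = 0) (hyu' : C.Φ.B y' u = 0)
    (hw : w ∈ C.Φ.perp (Submodule.span F {c, v})) (hyw : C.Φ.B y w = 0) (hyw' : C.Φ.B y' w = 0)
    (huw : C.Φ.B u w = 0) (hQ : C.Φ.Q u ≠ 0) (hQw : C.Φ.Q w = C.Φ.Q u)
    {D : AddSubgroup V} (hD : D ∈ C.M c Ω v) : C.s y u • D = D := by
  have h3 := three_eq_zero_card_three hq
  have h2 := two_ne_zero_card_three hq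
  set a := C.Φ.Q u with ha
  have ha2 := sq_eq_one_card_three hq hQ
  set U := C.Φ.perp (Submodule.span F {c, v})
  have q1 : C.Φ.Q (u - w) = -a := by rw [C.Qsub, hQw, huw]; linear_combination a * h3
  have q2 : C.Φ.Q (y + a • y') = a := by
    simp [C.Qadd, C.Φ.Q_smul, hh.left.2, hh.right.2, hh.one]
  have q3 : C.Φ.Q (y - a • y') = -a := by
    simp [C.Qsub, C.Φ.Q_smul, hh.left.2, hh.right.2, hh.one]
  let g : C.Φ.O := refl C.hκ (u - w) * (refl C.hκ w * refl C.hκ (y + a • y')) *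
    refl C.hκ (y - a • y')
  have hg : g ∈ C.G := by
    have e : g = refl C.hκ (u - w) * (refl C.hκ w * refl C.hκ (y + a • y')) *
        (refl C.hκ (u - w))⁻¹ * (refl C.hκ (u - w) * refl C.hκ (y - a • y')) := by
      simp only [g]; group
    rw [e]
    exact mul_mem ((inferInstance : (commutator C.Φ.O).Normal).conj_mem _
      (refl_mul_refl_mem_commutator C.hΦ C.hκ (t := 1) (by rwa [hQw]) (by rw [hQw, q2]; ring)) _)
      (refl_mul_refl_mem_commutator C.hΦ C.hκ (t := 1) (by rwa [q1, neg_ne_zero])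
        (by rw [q1, q3]; ring))
  have hgx : ∀ x, g.1 x = (refl C.hκ (u - w)).1 ((refl C.hκ w).1 ((refl C.hκ (y + a • y')).1
      ((refl C.hκ (y - a • y')).1 x))) := fun _ => rfl
  have hfix : ∀ x, C.Φ.B x y = 0 → C.Φ.B x y' = 0 → C.Φ.B x u = 0 → C.Φ.B x w = 0 → g.1 x = x := by
    intro x h1 h2 h3 h4
    rw [C.comm] at h1 h2 h3 h4
    rw [hgx, refl_apply_of_perp C.hκ (x := x) (by simp [h1, h2]),
      refl_apply_of_perp C.hκ (x := x) (by simp [h1, h2]), refl_apply_of_perp C.hκ h4,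
      refl_apply_of_perp C.hκ (x := x) (by simp [h3, h4])]
  have huu : C.Φ.B u u = -a := by rw [C.self]; linear_combination a * h3
  have hww : C.Φ.B w w = -a := by rw [C.self, hQw]; linear_combination a * h3
  have hai : a⁻¹ = a := inv_eq_of_mul_eq_one_right ha2
  have gy : g.1 y = (-1 : F) • y := by
    simp only [hgx, refl_apply, q1, q2, q3, hQw, map_sub, map_add, map_smul, LinearMap.sub_apply,
      LinearMap.add_apply, LinearMap.smul_apply, hh.left.1, hh.right.1, hh.one, C.comm y' y,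
      C.comm w y, C.comm w y', C.comm u y, C.comm u y', hyu, hyu', hyw, hyw', smul_eq_mul,
      inv_neg, hai]
    match_scalars <;> grind
  have gu : g.1 u = w := by
    simp only [hgx, refl_apply, q1, q2, q3, hQw, map_sub, map_add, map_smul, LinearMap.sub_apply,
      LinearMap.add_apply, LinearMap.smul_apply, hh.left.1, hh.right.1, hh.one, C.comm y' y,
      C.comm w y, C.comm w y', C.comm u y, C.comm u y', hyu, hyu', hyw, hyw', smul_eq_mul,
      inv_neg, hai, huu, hww, huw, C.comm w u]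
    match_scalars <;> grind
  have gw : g.1 w = -u := by
    simp only [hgx, refl_apply, q1, q2, q3, hQw, map_sub, map_add, map_smul, LinearMap.sub_apply,
      LinearMap.add_apply, LinearMap.smul_apply, hh.left.1, hh.right.1, hh.one, C.comm y' y,
      C.comm w y, C.comm w y', C.comm u y, C.comm u y', hyu, hyu', hyw, hyw', smul_eq_mul,
      inv_neg, hai, huu, hww, huw, C.comm w u]
    match_scalars <;> grind
  have := C.fix_of_M_small h (Or.inr ⟨h2, hM⟩) hy hu hyu (U.neg_mem hw) (by simp [hyw])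
    (U.neg_mem hu) (by simp [hyu]) hg
    (hfix c (mem_perp_pair.1 hy).1 (mem_perp_pair.1 hy').1 (mem_perp_pair.1 hu).1
      (mem_perp_pair.1 hw).1)
    (hfix v (mem_perp_pair.1 hy).2 (mem_perp_pair.1 hy').2 (mem_perp_pair.1 hu).2
      (mem_perp_pair.1 hw).2)
    (by rw [conj_sg, gy, gu, sg_smul _ _ (by simp), neg_one_smul])
    (by rw [conj_sg, gy, map_neg, gw, sg_smul _ _ (by simp), neg_neg, neg_one_smul]) hD
  have e : -u - u = u := by
    have : u = -u - u + (3 : F) • u := by module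
    rw [h3, zero_smul, add_zero] at this
    exact this.symm
  rwa [e] at this

theorem inv_three {c v y u : V} (hc : C.Φ.Q c = 0) (h0 : c ≠ 0) {Ω : Set X} (h : C.PInv c Ω)
    (hN : C.Num Ω.ncard) (hq : Fintype.card F = 3) {x : X} (hx : x ∈ Ω) (hvD : v ∈ C.Dp c x)
    (hQ : C.Φ.Q v ≠ 0) (hy : y ∈ C.Φ.perp (Submodule.span F {c, v})) (hyQ : C.Φ.Q y = 0)
    (hu : u ∈ C.Φ.perp (Submodule.span F {c, v})) (hyu : C.Φ.B y u = 0) :
    C.s y u • C.Dp c x = C.Dp c x := by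
  have hv := C.perp_of_mem_Dp hc hvD
  have hD : C.Dp c x ∈ C.M c Ω v := ⟨⟨x, hx, rfl⟩, hvD⟩
  have h3 := three_eq_zero_card_three hq
  have h2 := two_ne_zero_card_three hq
  by_cases hlt : (C.M c Ω v).ncard < 3
  · exact C.fix_of_M_lt h (by rwa [ringChar_eq_of_card (by norm_num) hq]) hy hu hyu hD
  have m1 := C.M_le_three hc h0 h hq hv hQ
  have m2 := C.le_ncard_Q_eq hc h0 (C.Φ.Q v)
  have m3 := hN.h1' hq.ge
  have m4 := C.ncard_K_add hc h0 hQ
  have hV := C.hV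
  set k := {w | C.Φ.B c w = 0 ∧ w ∉ F ∙ c ∧ C.Φ.Q w = C.Φ.Q v}.ncard
  have m5 : 3 * k ≤ 2 * Ω.ncard := (Nat.mul_le_mul_right _ (by omega)).trans m1
  have hM : (C.M c Ω v).ncard ≤ 4 := by
    by_contra hc
    have : 5 * k ≤ 2 * Ω.ncard := (Nat.mul_le_mul_right _ (by omega)).trans m1
    rw [hq, show finrank F V - 2 = finrank F V - 3 + 1 by omega, pow_succ] at m3
    rw [hq] at m2
    omega
  have h7 : 7 ≤ finrank F V := by
    by_contra hc
    have h6 : finrank F V = 6 := by omega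
    have := hN.h36 hq h6 _ hQ
    rw [hq, h6] at m4
    omega
  by_cases hn : y ∈ F ∙ c
  · exact C.s_smul_of_mem_span hc hn (mem_perp_pair.1 hu).1 x
  obtain ⟨y', hy', hh⟩ := C.exists_partner_U hc hv hQ hy hyQ hn
  set U := C.Φ.perp (Submodule.span F {c, v})
  have hcc : C.Φ.B c c = 0 := by rw [C.self, hc, mul_zero]
  have key : ∀ u ∈ U, C.Φ.B y u = 0 → C.Φ.Q u ≠ 0 → C.s y u • C.Dp c x = C.Dp c x := by
    intro u0 hu0 hyu0 hQ0
    set u := u0 + (-C.Φ.B y' u0) • y with hu_def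
    rw [← C.s_add_smul hyQ hyu0 (-C.Φ.B y' u0)]
    have hu : u ∈ U := U.add_mem hu0 (U.smul_mem _ hy)
    have hyu : C.Φ.B y u = 0 := by simp [hu_def, hyu0, hh.left.1]
    have hyu' : C.Φ.B y' u = 0 := by simp [hu_def, C.comm y' y, hh.one]
    have hQu : C.Φ.Q u ≠ 0 := by
      simpa [hu_def, C.Qadd, C.Qsub, C.Φ.Q_smul, C.Φ.Q_neg, hyQ, C.comm u0 y, hyu0] using hQ0
    set Z := Submodule.span F {c, v, y, y', u}
    have hZ : finrank F Z ≤ 5 := by
      have := finrank_span_list_le (F := F) [c, v, y, y', u]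
      have e : {x | x ∈ [c, v, y, y', u]} = ({c, v, y, y', u} : Set V) := by ext; simp
      rwa [e] at this
    have hZp : ∀ w, w ∈ C.Φ.perp Z ↔ C.Φ.B c w = 0 ∧ C.Φ.B v w = 0 ∧ C.Φ.B y w = 0 ∧
        C.Φ.B y' w = 0 ∧ C.Φ.B u w = 0 := by
      intro w; simp [Z, mem_perp_span]
    have hrad : finrank F (Z ⊓ C.Φ.perp Z : Submodule F V) ≤ 1 := by
      rw [← finrank_span_singleton (K := F) h0]
      apply Submodule.finrank_mono
      rintro z ⟨hz, hz'⟩
      obtain ⟨-, k1, k2, k3, k4⟩ := (hZp z).1 hz'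
      simp only [Z, SetLike.mem_coe, Submodule.mem_span_insert,
        Submodule.mem_span_singleton] at hz
      obtain ⟨a1, _, ⟨a2, _, ⟨a3, _, ⟨a4, _, ⟨a5, rfl⟩, rfl⟩, rfl⟩, rfl⟩, rfl⟩ := hz
      have p1 := mem_perp_pair.1 hy
      have p2 := mem_perp_pair.1 hy'
      have p3 := mem_perp_pair.1 hu
      simp [C.comm v c, hv, p1.1, p1.2, p2.1, p2.2, p3.1, p3.2, C.comm y c, C.comm y v,
        C.comm y' c, C.comm y' v, C.comm u c, C.comm u v, hh.left.1, hh.right.1, hh.one,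
        C.comm y' y, hyu, hyu', C.comm u y, C.comm u y', C.self v, C.self u, hQ, hQu, h2] at k1 k2 k3 k4
      simp [k1, k2, k3, k4, Submodule.smul_mem]
    have hw : ∃ w ∈ C.Φ.perp Z, C.Φ.Q w = C.Φ.Q u := by
      by_cases h8 : 8 ≤ finrank F V
      · exact exists_perp_Q_eq C.hΦ C.hκ (by omega) _
      obtain ⟨w, hw, hQw⟩ := exists_Q_ne_zero_of_finrank C.hκ C.hΦ (Z := Z) (by omega)
      refine ⟨w, hw, ?_⟩
      by_contra hne
      obtain ⟨k0, k1, k2, k3, k4⟩ := (hZp w).1 hw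
      have a1 := sq_eq_one_card_three hq hQu
      have a2 := sq_eq_one_card_three hq hQw
      have a3 : C.Φ.Q w = -C.Φ.Q u := by
        rcases mul_self_eq_mul_self_iff.1 (a2.trans a1.symm) with h | h
        · exact absurd h hne
        · exact h
      have p1 := mem_perp_pair.1 hy
      have p2 := mem_perp_pair.1 hy'
      have p3 := mem_perp_pair.1 hu
      have hz : Hyp C.Φ (u + w) (C.Φ.Q u • (u - w)) := by
        refine ⟨C.sing.2 ?_, C.sing.2 ?_, ?_⟩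
        · rw [C.Qadd, a3, k4]; ring
        · rw [C.Φ.Q_smul, C.Qsub, a3, k4]; ring
        · simp only [map_smul, map_sub, map_add, LinearMap.add_apply, C.self u, C.self w, k4,
            C.comm w u, a3, smul_eq_mul]
          linear_combination a1 + C.Φ.Q u * C.Φ.Q u * h3
      have := C.count_seven hq (by omega) hc h0 hv hQ hh hz p1.1 p2.1 (by simp [p3.1, k0])
        (by simp [p3.1, k0]) (by simp [hyu, k2]) (by simp [hyu, k2]) (by simp [hyu', k3]) p1.2 p2.2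
        (by simp [p3.2, k1]) (by simp [p3.2, k1])
      have := hN.h37 hq (by omega)
      omega
    obtain ⟨w, hw, hQw⟩ := hw
    obtain ⟨k0, k1, k2, k3, k4⟩ := (hZp w).1 hw
    exact C.fix_rot h hq hM hy hy' hh hu hyu hyu' (mem_perp_pair.2 ⟨k0, k1⟩) k2 k3 k4 hQu hQw hD
  by_cases hQu : C.Φ.Q u ≠ 0
  · exact key u hu hyu hQu
  push Not at hQu
  obtain ⟨w, hw, hQw⟩ := exists_Q_ne_zero_of_finrank C.hκ C.hΦ (Z := Submodule.span F {c, v, y})
    (by
      have h1 := finrank_span_triple_le (F := F) c v y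
      have h2 : finrank F (Submodule.span F {c, v, y} ⊓ C.Φ.perp (Submodule.span F {c, v, y}) :
        Submodule F V) ≤ finrank F (Submodule.span F {c, v, y}) := Submodule.finrank_mono inf_le_left
      omega)
  rw [mem_perp_triple] at hw
  have hwU : w ∈ U := mem_perp_pair.2 ⟨hw.1, hw.2.1⟩
  by_cases h1 : C.Φ.Q (u + w) = 0
  · have h4 : C.Φ.Q (u - w) ≠ 0 := by
      intro h4
      rw [C.Qadd] at h1
      rw [C.Qsub] at h4
      exact mul_ne_zero h2 hQw (by linear_combination h1 + h4 - 2 * hQu)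
    rw [← sub_add_cancel u w, s, sg_add _ _ _ (by simp [hyu, hw.2.2]) hw.2.2, mul_smul,
      key w hwU hw.2.2 hQw, key _ (U.sub_mem hu hwU) (by simp [hyu, hw.2.2]) h4]
  · rw [← add_neg_cancel_right u w, s, sg_add _ _ _ (by simp [hyu, hw.2.2]) (by simp [hw.2.2]),
      mul_smul, key (-w) (U.neg_mem hwU) (by simp [hw.2.2]) (by rwa [C.Φ.Q_neg]),
      key _ (U.add_mem hu hwU) (by simp [hyu, hw.2.2]) h1]

theorem inv_two {c v y u : V} (hc : C.Φ.Q c = 0) (h0 : c ≠ 0) {Ω : Set X} (h : C.PInv c Ω)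
    (hN : C.Num Ω.ncard) (hq : Fintype.card F = 2) {x : X} (hx : x ∈ Ω) (hvD : v ∈ C.Dp c x)
    (hQ : C.Φ.Q v ≠ 0) (hy : y ∈ C.Φ.perp (Submodule.span F {c, v})) (hyQ : C.Φ.Q y = 0)
    (hu : u ∈ C.Φ.perp (Submodule.span F {c, v})) (hyu : C.Φ.B y u = 0) :
    ∃ γ : F, C.s y (u - γ • v) • C.Dp c x = C.Dp c x := by
  have hv := C.perp_of_mem_Dp hc hvD
  have hD : C.Dp c x ∈ C.M c Ω v := ⟨⟨x, hx, rfl⟩, hvD⟩
  have h2 := two_eq_zero_card_two hq
  have hQ1 : C.Φ.Q v = 1 := (eq_zero_or_one_card_two hq _).resolve_left hQ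
  have m1 := C.M_le_two hc h0 h hq hv hQ1
  have m2 := C.ncard_K_add hc h0 (one_ne_zero (α := F))
  have m3 := hN.h2 hq
  rw [hq] at m2
  have hM : (C.M c Ω v).ncard ≤ 3 := by
    by_contra hc
    have := Nat.mul_le_mul_right {w | C.Φ.B c w = 0 ∧ w ∉ F ∙ c ∧ C.Φ.Q w = 1}.ncard
      (show 4 ≤ (C.M c Ω v).ncard by omega)
    omega
  set U := C.Φ.perp (Submodule.span F {c, v})
  have hvv : C.Φ.B v v = 0 := by rw [C.self, h2, zero_mul]
  have hvU : v ∈ U := mem_perp_pair.2 ⟨hv, hvv⟩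
  have hyv : C.Φ.B y v = 0 := by rw [C.comm, (mem_perp_pair.1 hy).2]
  have hns : ∀ w ∈ U, ∃ γ : F, C.Φ.Q (w - γ • v) = 1 := by
    intro w hw
    rcases eq_zero_or_one_card_two hq (C.Φ.Q w) with h1 | h1
    · exact ⟨1, by rw [one_smul, C.Qsub, h1, hQ1, C.comm w v, (mem_perp_pair.1 hw).2]; ring⟩
    · exact ⟨0, by simpa using h1⟩
  by_cases hmem : u ∈ Submodule.span F {c, v, y}
  · simp only [Submodule.mem_span_insert, Submodule.mem_span_singleton] at hmem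
    obtain ⟨a1, _, ⟨a2, _, ⟨a3, rfl⟩, rfl⟩, rfl⟩ := hmem
    refine ⟨a2, ?_⟩
    have hcy := (mem_perp_pair.1 hy).1
    rw [show a1 • c + (a2 • v + a3 • y) - a2 • v = a1 • c + a3 • y by abel,
      C.s_add_smul hyQ (by simp [C.comm y c, hcy]), s, sg_swap _ _ hc hyQ hcy]
    exact C.s_smul_Dp hc (by simp [hcy]) x
  obtain ⟨γ, hγ⟩ := hns u hu
  refine ⟨γ, ?_⟩
  obtain ⟨e, he, he1⟩ := C.hΦ.exists_perp_eq_one hmem
  have he' : e ∈ C.Φ.perp (Submodule.span F {c, v, y}) := fun z hz => C.Φ.B_eq_zero_symm (he z hz)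
  rw [mem_perp_triple] at he'
  have heU : e ∈ U := mem_perp_pair.2 ⟨he'.1, he'.2.1⟩
  obtain ⟨δ, hδ⟩ := hns e heU
  set a := u - γ • v with ha
  set b := e - δ • v with hb
  have haU : a ∈ U := U.sub_mem hu (U.smul_mem _ hvU)
  have hbU : b ∈ U := U.sub_mem heU (U.smul_mem _ hvU)
  have hya : C.Φ.B y a = 0 := by simp [ha, hyu, hyv]
  have hyb : C.Φ.B y b = 0 := by simp [hb, he'.2.2, hyv]
  have hba : C.Φ.B b a = 1 := by
    simp [ha, hb, he1, hvv, (mem_perp_pair.1 hu).2, C.comm e v, he'.2.1]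
  have haa : C.Φ.B a a = 0 := by rw [C.self, h2, zero_mul]
  have hbb : C.Φ.B b b = 0 := by rw [C.self, h2, zero_mul]
  let g : C.Φ.O := refl C.hκ b * refl C.hκ a
  have hg : g ∈ C.G := refl_mul_refl_mem_commutator C.hΦ C.hκ (t := 1) (by simp [hδ])
    (by rw [hγ, hδ]; ring)
  have hgx : ∀ z, g.1 z = (refl C.hκ b).1 ((refl C.hκ a).1 z) := fun _ => rfl
  have hfix : ∀ z, C.Φ.B z a = 0 → C.Φ.B z b = 0 → g.1 z = z := by
    intro z h1 h2
    rw [C.comm] at h1 h2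
    rw [hgx, refl_apply_of_perp C.hκ h1, refl_apply_of_perp C.hκ h2]
  have h2V : ∀ z : V, z + z = 0 := fun z => by rw [← two_smul F, h2, zero_smul]
  have gb : g.1 b = a := by
    simp only [hgx, refl_apply, hγ, hδ, map_sub, map_smul, haa, hbb, hba, C.comm a b, smul_eq_mul]
    match_scalars <;> grind
  have ga : g.1 a = a + b := by
    simp only [hgx, refl_apply, hγ, hδ, map_sub, map_smul, haa, hbb, hba, C.comm a b, smul_eq_mul]
    match_scalars <;> grind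
  have := C.fix_of_M_small h (Or.inl hM) hy hbU hyb haU hya (U.add_mem haU hbU) (by simp [hya, hyb])
    hg (hfix c (mem_perp_pair.1 haU).1 (mem_perp_pair.1 hbU).1)
    (hfix v (mem_perp_pair.1 haU).2 (mem_perp_pair.1 hbU).2)
    (by rw [conj_sg, hfix y hya hyb, gb]) (by rw [conj_sg, hfix y hya hyb, ga]) hD
  rwa [add_sub_cancel_right] at this

theorem inv_full {c v y u : V} (hc : C.Φ.Q c = 0) (h0 : c ≠ 0) {Ω : Set X} (h : C.PInv c Ω)
    (hN : C.Num Ω.ncard) (hq : Fintype.card F ≠ 2 ∨ finrank F V = 6) {x : X} (hx : x ∈ Ω)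
    (hvD : v ∈ C.Dp c x)
    (hQ : C.Φ.Q v ≠ 0) (hy : y ∈ C.Φ.perp (Submodule.span F {c, v})) (hyQ : C.Φ.Q y = 0)
    (hu : u ∈ C.Φ.perp (Submodule.span F {c, v})) (hyu : C.Φ.B y u = 0) :
    C.s y u • C.Dp c x = C.Dp c x := by
  have h1 : 1 < Fintype.card F := Fintype.one_lt_card
  by_cases h2 : Fintype.card F = 2
  · have h6 := hq.resolve_left (not_not.2 h2)
    have hv := C.perp_of_mem_Dp hc hvD
    have hQ1 : C.Φ.Q v = 1 := (eq_zero_or_one_card_two h2 _).resolve_left hQ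
    have m1 := C.M_le_two hc h0 h h2 hv hQ1
    have m2 := C.ncard_K_add hc h0 (one_ne_zero (α := F))
    have m3 := hN.h26 h2 h6
    rw [h2, h6] at m2
    refine C.fix_of_M_lt h ?_ hy hu hyu ⟨⟨x, hx, rfl⟩, hvD⟩
    rw [ringChar_eq_of_card (by norm_num) h2]
    by_contra hc
    have := Nat.mul_le_mul_right {w | C.Φ.B c w = 0 ∧ w ∉ F ∙ c ∧ C.Φ.Q w = 1}.ncard
      (show 2 ≤ (C.M c Ω v).ncard by omega)
    omega
  by_cases h3 : Fintype.card F = 3
  · exact C.inv_three hc h0 h hN h3 hx hvD hQ hy hyQ hu hyu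
  · exact C.inv_four hc h0 h hN (by omega) hx hvD hQ hy hyQ hu hyu

omit [Fintype F] [FiniteDimensional F V] in
theorem le_finrank_of_totSing_triple {a b d : V} (ha : a ≠ 0) (hb : b ∉ F ∙ a)
    (hd : d ∉ Submodule.span F {a, b}) (qa : C.Φ.Q a = 0) (qb : C.Φ.Q b = 0) (qd : C.Φ.Q d = 0)
    (hab : C.Φ.B a b = 0) (had : C.Φ.B a d = 0) (hbd : C.Φ.B b d = 0) [FiniteDimensional F V] :
    ∃ E, C.Φ.TotSing E ∧ finrank F E = 3 := by
  refine ⟨((F ∙ a) ⊔ F ∙ b) ⊔ F ∙ d, ?_, ?_⟩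
  · rw [← Submodule.span_union, ← Submodule.span_union]
    apply totSing_span
    · have h1 := C.comm b a
      have h2 := C.comm d a
      have h3 := C.comm d b
      rw [hab] at h1
      rw [had] at h2
      rw [hbd] at h3
      rintro u ((rfl | rfl) | rfl) w ((rfl | rfl) | rfl) <;> simp [C.self, *]
    · rintro u ((rfl | rfl) | rfl) <;> assumption
  · rw [finrank_sup_span_of_notMem (by rwa [← Submodule.span_insert]),
      finrank_sup_span_of_notMem hb, finrank_span_singleton ha]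

/-- the exceptional configuration in dimension six over the field of two elements -/
theorem exc_six {c v : V} (hc : C.Φ.Q c = 0) (h0 : c ≠ 0) {Ω : Set X} (h : C.PInv c Ω)
    (hN : C.Num Ω.ncard) (hq : Fintype.card F = 2) (h6 : finrank F V = 6) {x : X} (hx : x ∈ Ω)
    (hvD : v ∈ C.Dp c x) (hQ : C.Φ.Q v ≠ 0)
    (hU : ∀ w ∈ C.Dp c x, w ∈ C.Φ.perp (Submodule.span F {c, v}) → w ∈ Submodule.span F {c, v})
    {z : V} (hz : z ∈ C.Dp c x) (hz' : z ∉ Submodule.span F {c, v}) : False := by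
  classical
  have := finite_of_fd F V
  have h2 := two_eq_zero_card_two hq
  have hv := C.perp_of_mem_Dp hc hvD
  have hQ1 : C.Φ.Q v = 1 := (eq_zero_or_one_card_two hq _).resolve_left hQ
  set U := C.Φ.perp (Submodule.span F {c, v})
  have hvv : C.Φ.B v v = 0 := by rw [C.self, h2, zero_mul]
  have hvU : v ∈ U := mem_perp_pair.2 ⟨hv, hvv⟩
  have hcc : C.Φ.B c c = 0 := by rw [C.self, hc, mul_zero]
  -- every vector of `D` outside `⟨c, v⟩` is singular
  have key : ∀ z ∈ C.Dp c x, z ∉ Submodule.span F {c, v} → C.Φ.B v z = 1 ∧ C.Φ.Q z = 0 := by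
    intro z hz hz'
    have hcz := C.perp_of_mem_Dp hc hz
    have hvz : C.Φ.B v z = 1 := (eq_zero_or_one_card_two hq _).resolve_left fun h1 =>
      hz' (hU z hz (mem_perp_pair.2 ⟨hcz, h1⟩))
    refine ⟨hvz, ?_⟩
    have hy1 : ∀ y ∈ U, C.Φ.Q y = 0 → y ∉ F ∙ c → C.Φ.B y z = 1 := by
      intro y hy hyQ hn
      refine (eq_zero_or_one_card_two hq _).resolve_left fun h1 => ?_
      have hyv : C.Φ.B y v = 0 := by rw [C.comm, (mem_perp_pair.1 hy).2]
      have e := C.sub_mem_of_fix hyQ hyv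
        (C.inv_full hc h0 h hN (Or.inr h6) hx hvD hQ hy hyQ hvU hyv) hz
      simp only [h1, hvz, mul_zero, sub_zero, one_smul, zero_smul] at e
      exact C.notMem_pair_of_sing hc hv hQ hyQ hn (hU y e hy)
    obtain ⟨y1, y2, hh, k1, k2⟩ := C.exists_hyp_perp hc hv hQ
    have n1 : y1 ∉ F ∙ c := fun h1 => by
      obtain ⟨t, rfl⟩ := Submodule.mem_span_singleton.1 h1
      simpa [(mem_perp_pair.1 k2).1] using hh.one
    have n2 : y2 ∉ F ∙ c := fun h1 => by
      obtain ⟨t, rfl⟩ := Submodule.mem_span_singleton.1 h1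
      simpa [C.comm y1 c, (mem_perp_pair.1 k1).1] using hh.one
    have b1 := hy1 y1 k1 hh.left.2 n1
    have b2 := hy1 y2 k2 hh.right.2 n2
    refine (eq_zero_or_one_card_two hq _).resolve_right fun h1 => ?_
    obtain ⟨E, hE, hE'⟩ := C.le_finrank_of_totSing_triple (d := z + y1 + y2) h0 n1 (by
        rw [Submodule.mem_span_pair]
        rintro ⟨a, b, e⟩
        have := congrArg (C.Φ.B v) e
        simp [C.comm v c, hv, (mem_perp_pair.1 k1).2, (mem_perp_pair.1 k2).2, hvz] at this)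
      hc hh.left.2 (by
        simp only [C.Qadd, h1, hh.left.2, hh.right.2, map_add, LinearMap.add_apply, C.comm z y1,
          C.comm z y2, b1, b2, hh.one]
        linear_combination 2 * h2) (mem_perp_pair.1 k1).1
      (by simp [hcz, (mem_perp_pair.1 k1).1, (mem_perp_pair.1 k2).1])
      (by simp only [map_add, b1, hh.left.1, hh.one]; linear_combination h2)
    have := hN.w6 h6 E hE
    omega
  -- counting
  let K' := {w | C.Φ.B c w = 0 ∧ w ∉ F ∙ c ∧ C.Φ.Q w = C.Φ.Q v}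
  let T := (h.1.toFinset.image (C.Dp c)).filter
    (fun D : AddSubgroup V => {w ∈ K' | w ∈ D}.ncard ≤ 2 ∧ 8 ≤ Nat.card D)
  have c1 : {w ∈ K' | w ∈ C.Dp c x}.ncard ≤ 2 := by
    have := ncard_pair_le (F := F) c v
    rw [hq] at this
    refine (Set.ncard_le_ncard ?_ (Set.toFinite _)).trans this
    rintro w ⟨hw, hw'⟩
    refine ⟨?_, hw.2.1⟩
    by_contra hcon
    exact hQ (hw.2.2.symm.trans (key w hw' hcon).2)
  have c2 : 8 ≤ Nat.card (C.Dp c x) := by
    have hsm : ∀ w ∈ C.Dp c x, ∀ t : F, t • w ∈ C.Dp c x := by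
      intro w hw t
      rcases eq_zero_or_one_card_two hq t with rfl | rfl
      · simp
      · simpa using hw
    have e : finrank F (((F ∙ c) ⊔ F ∙ v) ⊔ F ∙ z : Submodule F V) = 3 := by
      rw [finrank_sup_span_of_notMem (by rwa [← Submodule.span_insert]),
        finrank_sup_span_of_notMem (C.notMem_span_of_Q hc hQ), finrank_span_singleton h0]
    have e2 : (((F ∙ c) ⊔ F ∙ v) ⊔ F ∙ z : Submodule F V) ≤ coreS F (C.Dp c x) := by
      simp only [sup_le_iff, Submodule.span_singleton_le_iff_mem]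
      exact ⟨⟨C.smul_self_mem_Dp c x, hsm v hvD⟩, hsm z hz⟩
    calc 8 = Nat.card (((F ∙ c) ⊔ F ∙ v) ⊔ F ∙ z : Submodule F V) := by
          rw [card_submodule, e, hq]; rfl
      _ ≤ _ := AddSubgroup.card_le_of_le
          (H := (((F ∙ c) ⊔ F ∙ v) ⊔ F ∙ z : Submodule F V).toAddSubgroup)
          fun w hw => mem_of_mem_coreS (e2 hw)
  have h1 := ncard_le_mul_of_cover (Set.toFinite K') T (fun D w => w ∈ D) 1 2 (by
      intro w hw
      obtain ⟨g, hg, t, ht, k2, k3⟩ := C.exists_of_mem_K hc h0 hv (C.notMem_span_of_Q hc hQ)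
        (C.subset_K c v hw)
      obtain rfl : t = 1 := (eq_zero_or_one_card_two hq t).resolve_left ht
      rw [one_smul] at k2 k3
      rw [Nat.one_le_iff_ne_zero]
      refine Set.ncard_ne_zero_of_mem (a := C.Dp c (g • x)) ⟨?_, ?_⟩
      · refine Finset.mem_filter.2 ⟨Finset.mem_image.2 ⟨g • x, by
          simpa using h.fix hg k2 hx, rfl⟩, ?_, ?_⟩
        · refine (Set.ncard_le_ncard_of_injOn (fun w => (g⁻¹).1 w) ?_ (g⁻¹).1.injective.injOn
            (Set.toFinite _)).trans c1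
          rintro w ⟨⟨a1, a2, a3⟩, a4⟩
          rw [C.Dp_smul k2, C.mem_smul_iff] at a4
          refine ⟨⟨by rw [← O_B_left, k2, a1], ?_, by rw [O_Q, a3]⟩, a4⟩
          exact C.notMem_span_of_Q hc (by rw [O_Q, a3]; exact hQ)
        · rw [C.Dp_smul k2]
          refine c2.trans (Nat.card_le_card_of_injective
            (fun w => ⟨g.1 w, by rw [C.mem_smul_iff, C.inv_apply]; exact w.2⟩) ?_)
          intro a b hab
          exact Subtype.ext (g.1.injective (congrArg Subtype.val hab))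
      · rw [C.Dp_smul k2, C.mem_smul_iff, ← k3, C.inv_apply]
        exact hvD) (fun D hD => (Finset.mem_filter.1 hD).2.1)
  have h3 := C.sum_card_le hc h0 h T (by
    intro D hD
    obtain ⟨x, hx, rfl⟩ := Finset.mem_image.1 (Finset.mem_filter.1 hD).1
    exact ⟨x, by simpa using hx, rfl⟩)
  have h4 : T.card * 8 ≤ ∑ D ∈ T, Nat.card D := by
    rw [← smul_eq_mul, ← Finset.sum_const]
    exact Finset.sum_le_sum fun D hD => (Finset.mem_filter.1 hD).2.2
  have m2 := C.ncard_K_add hc h0 hQ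
  have m3 := hN.h26 hq h6
  rw [hq, h6, hQ1] at m2
  rw [hq] at h3
  simp only [K', hQ1] at h1
  have m4 := C.le_ncard_Q_eq hc h0 1
  have m5 := hN.h1
  rw [hq, h6] at m4 m5
  omega

theorem nonsing_case {c v : V} (hc : C.Φ.Q c = 0) (h0 : c ≠ 0) {Ω : Set X} (h : C.PInv c Ω)
    (hN : C.Num Ω.ncard) {x : X} (hx : x ∈ Ω) (hvD : v ∈ C.Dp c x) (hQ : C.Φ.Q v ≠ 0) :
    (∀ w ∈ C.Dp c x, w ∈ Submodule.span F {c, v}) ∨ ∀ z, C.Φ.B c z = 0 → z ∈ C.Dp c x := by
  by_contra hcon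
  push Not at hcon
  obtain ⟨⟨w, hw, hw'⟩, z, hz, hz'⟩ := hcon
  have hv := C.perp_of_mem_Dp hc hvD
  have hV := C.hV
  have h1 : 1 < Fintype.card F := Fintype.one_lt_card
  have hU : ∀ u ∈ C.Φ.perp (Submodule.span F {c, v}), u ∈ C.Dp c x := by
    by_cases h7 : 7 ≤ finrank F V ∨ (2 : F) ≠ 0
    · refine C.star hc hv hQ h7 (fun x hx => C.perp_of_mem_Dp hc hx) ?_ hw hw'
      intro y hy hyQ u hu hyu
      by_cases h2 : Fintype.card F = 2
      · obtain ⟨γ, hγ⟩ := C.inv_two hc h0 h hN h2 hx hvD hQ hy hyQ hu hyu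
        refine ⟨γ, fun t => ?_, ?_, by rw [C.self, two_eq_zero_card_two h2]; ring⟩
        · rcases eq_zero_or_one_card_two h2 t with rfl | rfl
          · rw [zero_smul, ← zero_smul F y, s, sg_self, one_smul]
          · rwa [one_smul]
        · rcases eq_zero_or_one_card_two h2 γ with rfl | rfl
          · simp
          · simpa using hvD
      · exact ⟨0, fun t => C.inv_full hc h0 h hN (Or.inl h2) hx hvD hQ hy hyQ
          (by simpa using Submodule.smul_mem _ t hu) (by simp [hyu]), by simp, by simp⟩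
    push Not at h7
    have h6 : finrank F V = 6 := by omega
    have hvv : C.Φ.B v v = 0 := by rw [C.self, h7.2, zero_mul]
    have hvU : v ∈ C.Φ.perp (Submodule.span F {c, v}) := mem_perp_pair.2 ⟨hv, hvv⟩
    have hH : ∀ y ∈ C.Φ.perp (Submodule.span F {c, v}), C.Φ.Q y = 0 → ∀ t : F,
        C.s y (t • v) • C.Dp c x = C.Dp c x := fun y hy hyQ t =>
      C.inv_full hc h0 h hN (Or.inr h6) hx hvD hQ hy hyQ (Submodule.smul_mem _ t hvU)
        (by simp [C.comm y v, (mem_perp_pair.1 hy).2])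
    by_cases hex : ∃ w ∈ C.Dp c x, w ∈ C.Φ.perp (Submodule.span F {c, v}) ∧
        w ∉ Submodule.span F {c, v}
    · obtain ⟨w, k1, k2, k3⟩ := hex
      exact C.star_two hc hv hQ h7.2 (C.smul_self_mem_Dp c x) hvD hH k1 k2 k3
    push Not at hex
    exfalso
    by_cases h2 : Fintype.card F = 2
    · exact C.exc_six hc h0 h hN h2 h6 hx hvD hQ hex hw hw'
    obtain ⟨y, hy, hyQ, hB⟩ := C.exists_sing_U hc hv hQ hw'
    obtain ⟨t, ht0, ht⟩ : ∃ t : F, t ≠ 0 ∧ t ≠ C.Φ.B v w / (C.Φ.Q v * C.Φ.B y w) := by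
      obtain ⟨a, ha0, ha1⟩ := exists_ne_zero_ne_one h2
      by_cases h3 : C.Φ.B v w / (C.Φ.Q v * C.Φ.B y w) = 1
      · exact ⟨a, ha0, h3 ▸ ha1⟩
      · exact ⟨1, one_ne_zero, Ne.symm h3⟩
    have hyv : C.Φ.B y v = 0 := by rw [C.comm, (mem_perp_pair.1 hy).2]
    have e := C.sub_mem_of_fix hyQ (by simp [hyv]) (hH y hy hyQ t) hw
    have e2 := hex _ e (Submodule.sub_mem _ (Submodule.smul_mem _ _ hy)
      (Submodule.smul_mem _ _ (Submodule.smul_mem _ _ hvU)))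
    have e3 := Submodule.add_mem _ e2 (Submodule.smul_mem _ (C.Φ.B y w) (Submodule.smul_mem _ t
      (Submodule.subset_span (by simp) : v ∈ Submodule.span F {c, v})))
    rw [sub_add_cancel, Submodule.smul_mem_iff _ (by
      intro h4
      apply ht
      simp only [B_smul_left, C.Φ.Q_smul, RingHom.id_apply] at h4
      field_simp
      apply mul_left_cancel₀ ht0
      linear_combination -h4)] at e3
    refine C.notMem_pair_of_sing hc hv hQ hyQ (fun h4 => ?_) e3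
    obtain ⟨t, rfl⟩ := Submodule.mem_span_singleton.1 h4
    simp [C.perp_of_mem_Dp hc hw] at hB
  have k1 := C.le_of_U_le hc h0 h hx hv (C.notMem_span_of_Q hc hQ) hU hz hz'
  have k2 := hN.h1
  have k3 : 2 * Fintype.card F ^ (finrank F V - 2) ≤
      Fintype.card F ^ (finrank F V - 3) * Fintype.card F ^ (finrank F V - 4) := by
    rw [← pow_add]
    calc _ ≤ Fintype.card F * Fintype.card F ^ (finrank F V - 2) := Nat.mul_le_mul_right _ h1
      _ = Fintype.card F ^ (finrank F V - 2 + 1) := by rw [pow_succ']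
      _ ≤ _ := Nat.pow_le_pow_right (by omega) (by omega)
  omega

end OC

end H22
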