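import Cfsg.Agent.H22.MdF

/-!
Minimal degrees of orthogonal groups: totally singular annihilators.
-/

set_option autoImplicit false

namespace H22

open H23 H23.Form Module Pointwise

namespace OC

variable {F V : Type*} [Field F] [AddCommGroup V] [Module F V] [FiniteDimensional F V]
  (C : OC F V) [Fintype F] {X : Type*} [MulAction C.Φ.O X]

/-- orbit under the stabiliser of the point `F c` -/
def porb (c : V) (x : X) : Set X := {y | ∃ g ∈ C.G, ∃ t : F, t ≠ 0 ∧ g.1 c = t • c ∧ g • x = y}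

omit [FiniteDimensional F V] [Fintype F] in
theorem self_mem_porb (c : V) (x : X) : x ∈ C.porb c x :=
  ⟨1, one_mem _, 1, one_ne_zero, by simp, one_smul _ _⟩

omit [FiniteDimensional F V] [Fintype F] in
theorem porb_subset {c : V} {Ω : Set X} (h : C.PInv c Ω) {x : X} (hx : x ∈ Ω) : C.porb c x ⊆ Ω := by
  rintro _ ⟨g, hg, t, ht, h1, rfl⟩
  exact h.2 g hg t ht h1 x hx

omit [FiniteDimensional F V] [Fintype F] in
theorem porb_pInv {c : V} {Ω : Set X} (h : C.PInv c Ω) {x : X} (hx : x ∈ Ω) :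
    C.PInv c (C.porb c x) := by
  refine ⟨h.1.subset (C.porb_subset h hx), ?_⟩
  rintro g hg t ht h1 _ ⟨k, hk, s, hs, h2, rfl⟩
  refine ⟨g * k, mul_mem hg hk, s * t, mul_ne_zero hs ht, ?_, mul_smul _ _ _⟩
  change g.1 (k.1 c) = _
  rw [h2, map_smul, h1, smul_smul]

omit [FiniteDimensional F V] [Fintype F] in
theorem inv_apply_smul {g : C.Φ.O} {c : V} {t : F} (ht : t ≠ 0) (h : g.1 c = t • c) :
    (g⁻¹).1 c = t⁻¹ • c := by
  rw [eq_inv_smul_iff₀ ht, ← map_smul, ← h, C.inv_apply]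

omit [FiniteDimensional F V] [Fintype F] in
theorem sdiff_pInv {c : V} {Ω Ω' : Set X} (h : C.PInv c Ω) (h' : C.PInv c Ω') :
    C.PInv c (Ω \ Ω') := by
  refine ⟨h.1.subset Set.sdiff_subset, fun g hg t ht h1 x hx => ⟨h.2 g hg t ht h1 x hx.1, fun h2 => hx.2 ?_⟩⟩
  simpa using h'.2 g⁻¹ (inv_mem hg) t⁻¹ (inv_ne_zero ht) (C.inv_apply_smul ht h1) _ h2

/-- lower bound for the orbit of an annihilator under Siegel transformations -/
theorem orb_bound {c v w z : V} (h0 : c ≠ 0) (hv' : v ∉ F ∙ c) {D : AddSubgroup V} (hw : w ∈ D)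
    (hz : z ∈ C.Φ.perp (Submodule.span F {c, v})) (hh : Hyp C.Φ w z) :
    Fintype.card F ^ (finrank F V - 3) ≤
      ((sgA C.hΦ C.hκ z (C.Φ.perp (Submodule.span F {c, v}))).orb D).ncard *
        (Nat.card (D ⊓ (C.Φ.perp (F ∙ z)).toAddSubgroup : AddSubgroup V) * Fintype.card F) := by
  have := finite_of_fd F V
  set U := C.Φ.perp (Submodule.span F {c, v})
  have h1 := (sgA C.hΦ C.hκ z U).ncard_orb D
  have h2 : Nat.card ((sgA C.hΦ C.hκ z U).st D) ≤
      Nat.card (D ⊓ (C.Φ.perp (F ∙ z)).toAddSubgroup : AddSubgroup V) * Fintype.card F := by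
    rw [← Nat.card_eq_fintype_card, ← Nat.card_prod]
    have hzw : C.Φ.B z w = 1 := by rw [C.comm, hh.one]
    refine Nat.card_le_card_of_injective (fun u => (⟨(C.Φ.B u w - C.Φ.Q u) • z - u, ?_, ?_⟩,
      C.Φ.B u w - C.Φ.Q u)) ?_
    · have := C.sub_mem_of_fix hh.right.2 ((mem_sgA_U _ _).1 u.2.1).2 u.2.2 hw
      simpa [hzw] using this
    · exact (C.Φ.mem_perp_span_singleton).2 (by simp [hh.right.1, ((mem_sgA_U _ _).1 u.2.1).2])
    · intro a b hab
      have e1 := congrArg (fun p => (p.1 : V)) hab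
      have e2 := congrArg Prod.snd hab
      simp only at e1 e2
      rw [e2] at e1
      exact Subtype.ext (sub_right_injective e1)
  have h3 := C.hΦ.finrank_le_inf_perp U (F ∙ z)
  have h4 : finrank F U + _ = _ := C.hΦ.finrank_perp_add (Submodule.span F {c, v})
  have h5 := finrank_span_pair_le (F := F) c v
  have h6 : finrank F (F ∙ z) ≤ 1 := by simpa using finrank_span_le_card (R := F) ({z} : Set V)
  calc _ ≤ Fintype.card F ^ finrank F (U ⊓ C.Φ.perp (F ∙ z) : Submodule F V) :=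
        Nat.pow_le_pow_right Fintype.card_pos (by omega)
    _ = _ := by rw [← card_sgA_U C.hΦ C.hκ, ← h1]
    _ ≤ _ := Nat.mul_le_mul_left _ h2

omit [Fintype F] in
theorem exists_partner_ts {c v w : V} (hcw : C.Φ.B c w = 0) (hvw : C.Φ.B v w = 0)
    (hQ : C.Φ.Q w = 0) (hw' : w ∉ Submodule.span F {c, v}) :
    ∃ z ∈ C.Φ.perp (Submodule.span F {c, v}), Hyp C.Φ w z :=
  exists_hyp_mem C.hΦ (C.sing.2 hQ) (mem_perp_pair.2 ⟨hcw, hvw⟩) (by rwa [C.hΦ.perp_perp])

omit [FiniteDimensional F V] [Fintype F] in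
theorem B_eq_zero_of_sing {D : AddSubgroup V} (hs : ∀ w ∈ D, C.Φ.Q w = 0) {a b : V} (ha : a ∈ D)
    (hb : b ∈ D) : C.Φ.B a b = 0 := by
  have := C.Qadd a b
  rw [hs _ (D.add_mem ha hb), hs a ha, hs b hb] at this
  simpa using this.symm

omit [Fintype F] in
theorem finrank_inf_perp_one {E : Submodule F V} {w z : V} (hw : w ∈ E) (h : C.Φ.B z w ≠ 0) :
    finrank F (E ⊓ C.Φ.perp (F ∙ z) : Submodule F V) + 1 = finrank F E := by
  have h1 := C.hΦ.finrank_le_inf_perp E (F ∙ z)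
  have h6 : finrank F (F ∙ z) ≤ 1 := by simpa using finrank_span_le_card (R := F) ({z} : Set V)
  have h2 : (E ⊓ C.Φ.perp (F ∙ z) : Submodule F V) < E := lt_of_le_of_ne inf_le_left fun h3 =>
    h ((C.Φ.mem_perp_span_singleton).1 (h3.ge hw).2)
  have := Submodule.finrank_lt_finrank_of_lt h2
  omega

omit [Fintype F] in
theorem three_le_finrank {E : Submodule F V} {c v w : V} (h0 : c ≠ 0) (hv' : v ∉ F ∙ c)
    (hw' : w ∉ Submodule.span F {c, v}) (hc : c ∈ E) (hv : v ∈ E) (hw : w ∈ E) :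
    3 ≤ finrank F E := by
  have e : finrank F (((F ∙ c) ⊔ F ∙ v) ⊔ F ∙ w : Submodule F V) = 3 := by
    rw [finrank_sup_span_of_notMem (by rwa [← Submodule.span_insert]),
      finrank_sup_span_of_notMem hv', finrank_span_singleton h0]
  rw [← e]
  apply Submodule.finrank_mono
  simp only [sup_le_iff, Submodule.span_singleton_le_iff_mem]
  exact ⟨⟨hc, hv⟩, hw⟩

theorem card_le_of_two {V : Type*} [AddCommGroup V] [Finite V] {A B : AddSubgroup V} (h : A ≤ B)
    {x : V} (hx : x ∈ B) (hx' : x ∉ A) : 2 * Nat.card A ≤ Nat.card B := by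
  obtain ⟨k, hk⟩ := AddSubgroup.card_dvd_of_le h
  have h1 : k ≠ 0 := by rintro rfl; simp at hk; exact (Nat.card_pos (α := B)).ne' (by simpa using hk)
  have h2 : k ≠ 1 := by
    rintro rfl
    exact hx' ((AddSubgroup.eq_of_le_of_card_ge h (by simp [hk])).ge hx)
  rw [hk, mul_comm]
  exact Nat.mul_le_mul_left _ (by omega)

/-- a totally singular annihilator of dimension at least three is a subspace -/
theorem smul_mem_of_ts {c v w : V} (hc : C.Φ.Q c = 0) (h0 : c ≠ 0) {Ω : Set X} (h : C.PInv c Ω)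
    (hN : C.Num Ω.ncard) {x : X} (hx : x ∈ Ω) (hs : ∀ w ∈ C.Dp c x, C.Φ.Q w = 0)
    (hv : v ∈ C.Dp c x) (hv' : v ∉ F ∙ c) (hw : w ∈ C.Dp c x) (hw' : w ∉ Submodule.span F {c, v})
    (t : F) : t • v ∈ C.Dp c x := by
  have := finite_of_fd F V
  by_cases h2 : Fintype.card F = 2
  · rcases eq_zero_or_one_card_two h2 t with rfl | rfl
    · simp
    · simpa using hv
  by_cases h3 : Fintype.card F = 3
  · by_cases ht : t = 0
    · simp [ht]
    rcases mul_self_eq_one_iff.1 (sq_eq_one_card_three h3 ht) with rfl | rfl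
    · simpa using hv
    · simpa using hv
  have hq : 4 ≤ Fintype.card F := by have : 1 < Fintype.card F := Fintype.one_lt_card; omega
  by_contra hcon
  set D := C.Dp c x
  have hcD : c ∈ D := by simpa using C.smul_self_mem_Dp c x 1
  obtain ⟨z, hz, hh⟩ := C.exists_partner_ts (C.perp_of_mem_Dp hc hw) (C.B_eq_zero_of_sing hs hv hw)
    (hs w hw) hw'
  have h1 := C.orb_bound h0 hv' hw hz hh
  set E := Submodule.span F (D : Set V)
  have hE : C.Φ.TotSing E := totSing_span (fun a ha b hb => C.B_eq_zero_of_sing hs ha hb) hs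
  have hDE : ∀ a ∈ D, a ∈ E := fun a ha => Submodule.subset_span ha
  have e1 := C.finrank_inf_perp_one (hDE w hw) (z := z) (by rw [C.comm, hh.one]; exact one_ne_zero)
  have e2 := C.hΦ.two_mul_finrank_le hE
  have e3 := three_le_finrank h0 hv' hw' (hDE c hcD) (hDE v hv) (hDE w hw)
  have e4 : finrank F V ≠ 6 := fun h6 => by have := hN.w6 h6 E hE; omega
  have e5 := C.hV
  have h4 := card_le_of_two (A := D ⊓ (C.Φ.perp (F ∙ z)).toAddSubgroup)
    (B := (E ⊓ C.Φ.perp (F ∙ z)).toAddSubgroup) (fun a ha => ⟨hDE a ha.1, ha.2⟩) (x := t • v)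
    ⟨E.smul_mem _ (hDE v hv), (C.Φ.mem_perp_span_singleton).2 (by
      simp [C.comm z v, (mem_perp_pair.1 hz).2])⟩ (fun h => hcon h.1)
  have h5 : Nat.card (E ⊓ C.Φ.perp (F ∙ z)).toAddSubgroup =
      Fintype.card F ^ finrank F (E ⊓ C.Φ.perp (F ∙ z) : Submodule F V) :=
    card_submodule (E ⊓ C.Φ.perp (F ∙ z))
  have h6 := Set.ncard_le_ncard ((sgA C.hΦ C.hκ z _).orb_subset (C.sgA_inv h hz)
    (x := D) ⟨⟨x, hx, rfl⟩, hv⟩) (C.M_finite h.1 v)
  have h7 := C.mult_le' hc h0 h (C.perp_of_mem_Dp hc hv) hv' (C.subset_K c v)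
  have h8 := C.le_ncard_Q_eq hc h0 (C.Φ.Q v)
  have h9 := hN.h1' (by omega)
  set q := Fintype.card F
  set m := (C.M c Ω v).ncard
  have h10 : q ^ finrank F (E ⊓ C.Φ.perp (F ∙ z) : Submodule F V) * q * q ≤
      q ^ (finrank F V - 3) := by
    rw [← pow_succ, ← pow_succ]
    exact Nat.pow_le_pow_right (by omega) (by omega)
  have h11 : 2 * q ≤ m := by
    apply Nat.le_of_mul_le_mul_right _ (c := q ^ finrank F (E ⊓ C.Φ.perp (F ∙ z) : Submodule F V) * q)
      (by positivity)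
    calc _ = 2 * (q ^ finrank F (E ⊓ C.Φ.perp (F ∙ z) : Submodule F V) * q * q) := by ring
      _ ≤ 2 * (m * (Nat.card (D ⊓ (C.Φ.perp (F ∙ z)).toAddSubgroup : AddSubgroup V) * q)) :=
        Nat.mul_le_mul_left _ (h10.trans (h1.trans (Nat.mul_le_mul_right _ h6)))
      _ = m * ((2 * Nat.card (D ⊓ (C.Φ.perp (F ∙ z)).toAddSubgroup : AddSubgroup V)) * q) := by ring
      _ ≤ _ := Nat.mul_le_mul_left _ (Nat.mul_le_mul_right _ (h5 ▸ h4))
  rw [show finrank F V - 2 = finrank F V - 3 + 1 by omega, pow_succ] at h9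
  set y := q ^ (finrank F V - 3)
  have hy : 0 < y := by positivity
  have h12 : q * (2 * ((q - 1) * y)) ≤ q * Ω.ncard :=
    calc _ = (2 * q) * ((q - 1) * y) := by ring
      _ ≤ _ := Nat.mul_le_mul h11 h8
      _ ≤ _ := h7
  have h13 := Nat.le_of_mul_le_mul_left h12 (by omega)
  obtain ⟨r, hr⟩ : ∃ r, q = r + 1 := ⟨q - 1, by omega⟩
  rw [hr] at h13 h9 hq
  simp only [Nat.add_sub_cancel] at h13
  nlinarith

/-- multiplicity for totally singular subspaces -/
theorem le_M_of_ts {c v : V} (hc : C.Φ.Q c = 0) (h0 : c ≠ 0) {Ω : Set X} (h : C.PInv c Ω)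
    {x : X} (hx : x ∈ Ω) {E : Submodule F V} (hE : C.Φ.TotSing E) (h3 : 3 ≤ finrank F E)
    (hD : C.Dp c x = E.toAddSubgroup) (h7 : 7 ≤ finrank F V) (hv : v ∈ E) (hv' : v ∉ F ∙ c) :
    Fintype.card F ^ (finrank F V - 3 - finrank F E) + 1 ≤ (C.M c Ω v).ncard := by
  have := finite_of_fd F V
  have hcE : c ∈ E := by
    have := C.smul_self_mem_Dp c x 1
    rw [hD] at this
    simpa using this
  obtain ⟨w, hw, hw'⟩ : ∃ w ∈ E, w ∉ Submodule.span F {c, v} := by
    by_contra hcon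
    push Not at hcon
    have := Submodule.finrank_mono (show E ≤ Submodule.span F {c, v} from hcon)
    have := finrank_span_pair_le (F := F) c v
    omega
  obtain ⟨z, hz, hh⟩ := C.exists_partner_ts (hE.1 c hcE w hw) (hE.1 v hv w hw) (hE.2 w hw) hw'
  have h1 := C.orb_bound h0 hv' (D := E.toAddSubgroup) hw hz hh
  have hzw : C.Φ.B z w = 1 := by rw [C.comm, hh.one]
  have e1 := C.finrank_inf_perp_one hw (z := z) (by rw [hzw]; exact one_ne_zero)
  have e2 := C.hΦ.two_mul_finrank_le hE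
  have h5 : Nat.card (E.toAddSubgroup ⊓ (C.Φ.perp (F ∙ z)).toAddSubgroup : AddSubgroup V) =
      Fintype.card F ^ finrank F (E ⊓ C.Φ.perp (F ∙ z) : Submodule F V) :=
    card_submodule (E ⊓ C.Φ.perp (F ∙ z))
  rw [h5, ← pow_succ, e1, show finrank F V - 3 = finrank F V - 3 - finrank F E + finrank F E by omega,
    pow_add] at h1
  have h2 := Nat.le_of_mul_le_mul_right h1 (pow_pos Fintype.card_pos _)
  have hM : E.toAddSubgroup ∈ C.M c Ω v := ⟨⟨x, hx, hD⟩, hv⟩
  -- a conjugate containing `z`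
  obtain ⟨a, ha, hQ⟩ := exists_Q_ne_zero_of_finrank C.hκ C.hΦ (Z := Submodule.span F {c, v, w}) (by
    have h3 : finrank F (Submodule.span F {c, v, w}) ≤ 3 := finrank_span_triple_le (F := F) c v w
    have h4 : finrank F (Submodule.span F {c, v, w} ⊓ C.Φ.perp (Submodule.span F {c, v, w}) :
      Submodule F V) ≤ finrank F (Submodule.span F {c, v, w}) := Submodule.finrank_mono inf_le_left
    omega)
  rw [mem_perp_triple] at ha
  set b := w - (-C.Φ.Q a) • z with hb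
  have hQb : C.Φ.Q b = C.Φ.Q a := by
    simp [hb, C.Qadd, C.Φ.Q_smul, hh.left.2, hh.right.2, hh.one]
  let g := refl C.hκ b * refl C.hκ a
  have hg : g ∈ C.G := refl_mul_refl_mem_commutator C.hΦ C.hκ (t := 1) (by rwa [hQb])
    (by rw [hQb]; ring)
  have hgx : ∀ y, g.1 y = (refl C.hκ b).1 ((refl C.hκ a).1 y) := fun _ => rfl
  have hfix : ∀ y, C.Φ.B y a = 0 → C.Φ.B y w = 0 → C.Φ.B y z = 0 → g.1 y = y := by
    intro y k1 k2 k3
    rw [C.comm] at k1 k2 k3
    rw [hgx, refl_apply_of_perp C.hκ k1, refl_apply_of_perp C.hκ (by simp [hb, k2, k3])]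
  have hgw : g.1 w = (-C.Φ.Q a) • z := by
    rw [hgx, refl_apply_of_perp C.hκ (v := a) (by rw [C.comm, ha.2.2]), refl_apply, hQb]
    simp only [hb, map_sub, LinearMap.sub_apply, B_smul_left, hh.left.1, hzw, RingHom.id_apply]
    match_scalars <;> field_simp <;> ring
  have hM' := C.smul_mem_M h hg (hfix c ha.1 (hE.1 c hcE w hw) (mem_perp_pair.1 hz).1)
    (hfix v ha.2.1 (hE.1 v hv w hw) (mem_perp_pair.1 hz).2) _ hM
  have hzg : (-C.Φ.Q a) • z ∈ g • E.toAddSubgroup := by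
    rw [C.mem_smul_iff, ← hgw, C.inv_apply]; exact hw
  have hnot : g • E.toAddSubgroup ∉
      (sgA C.hΦ C.hκ z (C.Φ.perp (Submodule.span F {c, v}))).orb E.toAddSubgroup := by
    rintro ⟨u, hu, e⟩
    rw [← e, C.mem_smul_iff, map_smul] at hzg
    have e2 : ((sgA C.hΦ C.hκ z (C.Φ.perp (Submodule.span F {c, v}))).e u)⁻¹.1 z = z := by
      have := C.s_apply_self hh.right.2 ((mem_sgA_U _ _).1 hu).2
      exact (congrArg _ this.symm).trans (C.inv_apply _ _)
    rw [e2] at hzg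
    have := hE.1 w hw _ hzg
    simp [hh.one, hQ] at this
  calc _ ≤ _ + 1 := Nat.add_le_add_right h2 1
    _ = (insert (g • E.toAddSubgroup) ((sgA C.hΦ C.hκ z
          (C.Φ.perp (Submodule.span F {c, v}))).orb E.toAddSubgroup)).ncard :=
        (Set.ncard_insert_of_notMem hnot ((C.M_finite h.1 v).subset
          ((sgA C.hΦ C.hκ z _).orb_subset (C.sgA_inv h hz) hM))).symm
    _ ≤ _ := Set.ncard_le_ncard (Set.insert_subset hM'
          ((sgA C.hΦ C.hκ z _).orb_subset (C.sgA_inv h hz) hM)) (C.M_finite h.1 v)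

/-- annihilator of exceptional type -/
def Tt (c : V) (x : X) : Prop := ∃ E : Submodule F V, C.Φ.TotSing E ∧ 3 ≤ finrank F E ∧
  finrank F E + 4 = finrank F V ∧ C.Dp c x = E.toAddSubgroup

omit [Fintype F] in
theorem Dp_smul_eq {g : C.Φ.O} {c : V} {t : F} (ht : t ≠ 0) (hg : g.1 c = t • c) {x : X}
    {E : Submodule F V} (hD : C.Dp c x = E.toAddSubgroup) :
    C.Dp c (g • x) = (E.map g.1.toLinearMap).toAddSubgroup := by
  ext v
  rw [C.mem_Dp_smul ht hg, hD, Submodule.mem_toAddSubgroup, Submodule.smul_mem_iff _ ht,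
    Submodule.mem_toAddSubgroup, Submodule.mem_map_equiv]
  rfl

omit [Fintype F] in
theorem Tt.smul {C : OC F V} [MulAction C.Φ.O X] {g : C.Φ.O} {c : V} {t : F} (ht : t ≠ 0)
    (hg : g.1 c = t • c) {x : X} (h : C.Tt c x) : C.Tt c (g • x) := by
  obtain ⟨E, h1, h2, h3, h4⟩ := h
  have := LinearEquiv.finrank_map_eq g.1 E
  exact ⟨_, h1.map g.2, by omega, by omega, C.Dp_smul_eq ht hg h4⟩

theorem ts_case {c v w : V} (hc : C.Φ.Q c = 0) (h0 : c ≠ 0) {Ω : Set X} (h : C.PInv c Ω)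
    (hN : C.Num Ω.ncard) {x : X} (hx : x ∈ Ω) (hs : ∀ w ∈ C.Dp c x, C.Φ.Q w = 0)
    (hv : v ∈ C.Dp c x) (hv' : v ∉ F ∙ c) (hw : w ∈ C.Dp c x)
    (hw' : w ∉ Submodule.span F {c, v}) : C.Tt c x := by
  have := finite_of_fd F V
  set D := C.Dp c x with hD
  have hcD : c ∈ D := by simpa using C.smul_self_mem_Dp c x 1
  have hsm : ∀ a ∈ D, a ∈ coreS F D := by
    intro a ha t
    by_cases h1 : a ∈ F ∙ c
    · obtain ⟨s, rfl⟩ := Submodule.mem_span_singleton.1 h1
      rw [smul_smul]; exact C.smul_self_mem_Dp c x _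
    by_cases h2 : w ∈ Submodule.span F {c, a}
    · refine C.smul_mem_of_ts hc h0 h hN hx hs ha h1 hv (fun h3 => hw' ?_) t
      have h4 : Submodule.span F {c, v} = Submodule.span F {c, a} := by
        apply Submodule.eq_of_le_of_finrank_le
        · exact Submodule.span_le.2 (by
            rintro y (rfl | rfl)
            · exact Submodule.subset_span (by simp)
            · exact h3)
        · rw [Submodule.span_insert c {v}, finrank_sup_span_of_notMem hv', finrank_span_singleton h0]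
          exact finrank_span_pair_le c a
      rwa [h4]
    · exact C.smul_mem_of_ts hc h0 h hN hx hs ha h1 hw h2 t
  have hDE : D = (coreS F D).toAddSubgroup :=
    AddSubgroup.ext fun a => ⟨hsm a, mem_of_mem_coreS⟩
  have hE : C.Φ.TotSing (coreS F D) := totSing_of_Q C.hκ fun a ha => hs a (mem_of_mem_coreS ha)
  have e2 := C.hΦ.two_mul_finrank_le hE
  have e3 := three_le_finrank h0 hv' hw' (hsm c hcD) (hsm v hv) (hsm w hw)
  have e4 : finrank F V ≠ 6 := fun h6 => by have := hN.w6 h6 _ hE; omega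
  have e5 := C.hV
  refine ⟨_, hE, e3, ?_, hDE⟩
  by_contra hcon
  have h1 := C.le_M_of_ts hc h0 h hx hE e3 hDE (by omega) (hsm v hv) hv'
  have hq : 1 < Fintype.card F := Fintype.one_lt_card
  have h2 : Fintype.card F ^ 2 ≤ Fintype.card F ^ (finrank F V - 3 - finrank F (coreS F D)) :=
    Nat.pow_le_pow_right (by omega) (by omega)
  have h7 := C.mult_le' hc h0 h (C.perp_of_mem_Dp hc hv) hv' (C.subset_K c v)
  have h8 := C.le_ncard_Q_eq hc h0 (C.Φ.Q v)
  have h9 := C.ncard_K_zero_add hc h0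
  rw [hs v hv] at h7 h8
  have h10 := (Nat.mul_le_mul_right _ ((Nat.add_le_add_right h2 1).trans h1)).trans h7
  by_cases h3 : Fintype.card F = 2
  · have := hN.h20 h3 (by omega)
    rw [h3] at h9 h10
    omega
  have h4 := hN.h1' (by omega)
  rw [show finrank F V - 2 = finrank F V - 3 + 1 by omega, pow_succ] at h4
  set q := Fintype.card F
  set y := q ^ (finrank F V - 3)
  have hy : 0 < y := by positivity
  have h11 := (Nat.mul_le_mul_left (q ^ 2 + 1) h8).trans h10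
  obtain ⟨r, hr⟩ : ∃ r, q = r + 3 := ⟨q - 3, by omega⟩
  rw [hr] at h11 h4
  simp only [show r + 3 - 1 = r + 2 from rfl] at h11
  have h12 : (r + 3) * (2 * Ω.ncard) ≤ (r + 3) * (3 * (y * (r + 3))) := Nat.mul_le_mul_left _ h4.le
  have h13 : y * (2 * (((r + 3) ^ 2 + 1) * (r + 2))) ≤ y * (3 * (r + 3) ^ 2) := by nlinarith
  have h14 := Nat.le_of_mul_le_mul_left h13 hy
  nlinarith

/-- the four types of annihilators -/
theorem classify {c : V} (hc : C.Φ.Q c = 0) (h0 : c ≠ 0) {Ω : Set X} (h : C.PInv c Ω)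
    (hN : C.Num Ω.ncard) {x : X} (hx : x ∈ Ω) :
    (∀ w ∈ C.Dp c x, w ∈ F ∙ c) ∨
    (∃ v ∈ C.Dp c x, v ∉ F ∙ c ∧ ∀ w ∈ C.Dp c x, w ∈ Submodule.span F {c, v}) ∨
    (∀ z, C.Φ.B c z = 0 → z ∈ C.Dp c x) ∨ C.Tt c x := by
  by_cases h1 : ∃ v ∈ C.Dp c x, C.Φ.Q v ≠ 0
  · obtain ⟨v, hv, hQ⟩ := h1
    rcases C.nonsing_case hc h0 h hN hx hv hQ with h2 | h2
    · exact Or.inr (Or.inl ⟨v, hv, C.notMem_span_of_Q hc hQ, h2⟩)
    · exact Or.inr (Or.inr (Or.inl h2))
  push Not at h1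
  by_cases h2 : ∀ w ∈ C.Dp c x, w ∈ F ∙ c
  · exact Or.inl h2
  push Not at h2
  obtain ⟨v, hv, hv'⟩ := h2
  by_cases h3 : ∀ w ∈ C.Dp c x, w ∈ Submodule.span F {c, v}
  · exact Or.inr (Or.inl ⟨v, hv, hv', h3⟩)
  push Not at h3
  obtain ⟨w, hw, hw'⟩ := h3
  exact Or.inr (Or.inr (Or.inr (C.ts_case hc h0 h hN hx h1 hv hv' hw hw')))

/-- the number of annihilators of exceptional type -/
theorem kappa_le {c : V} (hc : C.Φ.Q c = 0) (h0 : c ≠ 0) {Ω : Set X} (h : C.PInv c Ω) {ω : ℕ}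
    (hN : C.Num ω) (hT : ∀ y ∈ Ω, C.Tt c y) {x : X} (hx : x ∈ Ω) [DecidableEq (AddSubgroup V)] :
    (Fintype.card F + 1) * (Fintype.card F ^ 2 + 1) ≤ (h.1.toFinset.image (C.Dp c)).card := by
  have := finite_of_fd F V
  obtain ⟨E, hE, e1, e2, hD⟩ := hT x hx
  have e3 := C.hΦ.two_mul_finrank_le hE
  have hcE : ∀ (y : X) E', C.Dp c y = Submodule.toAddSubgroup E' → (F ∙ c) ≤ E' := by
    intro y E' hD
    have := C.smul_self_mem_Dp c y 1
    rw [hD] at this
    simpa using this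
  obtain ⟨v, hv, hv'⟩ : ∃ v ∈ E, v ∉ F ∙ c := by
    by_contra hcon
    push Not at hcon
    have := Submodule.finrank_mono (show E ≤ F ∙ c from hcon)
    rw [finrank_span_singleton h0] at this
    omega
  have h1 := C.le_M_of_ts hc h0 h hx hE e1 hD (by omega) hv hv'
  rw [show finrank F V - 3 - finrank F E = 1 by omega, pow_one] at h1
  set T := h.1.toFinset.image (C.Dp c)
  have hT' : ∀ D, D ∈ T ↔ ∃ x ∈ Ω, C.Dp c x = D := by
    intro D; simp [T]
  have hcv : C.Φ.B c v = 0 := hE.1 c (hcE x E hD (Submodule.mem_span_singleton_self c)) v hv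
  have h2 := ncard_le_mul_of_cover
    (Set.toFinite {w | C.Φ.B c w = 0 ∧ w ∉ F ∙ c ∧ C.Φ.Q w = C.Φ.Q v}) T (fun D w => w ∈ D)
    (Fintype.card F + 1) (Fintype.card F ^ finrank F E - Fintype.card F) (by
      intro w hw
      obtain ⟨g, hg, t, ht, h2, h3⟩ := C.exists_of_mem_K hc h0 hcv hv' (C.subset_K c v hw)
      refine h1.trans ((C.ncard_M_le h hg ht h2 h3).trans (le_of_eq ?_))
      congr 1
      ext D
      simp only [M, hT', Set.mem_ofPred_eq]) (by
      intro D hD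
      obtain ⟨y, hy, rfl⟩ := (hT' D).1 hD
      obtain ⟨E', -, -, e4, hD'⟩ := hT y hy
      have k1 : ((E' : Set V) \ (F ∙ c : Submodule F V)).ncard + ((F ∙ c : Submodule F V) : Set V).ncard =
        (E' : Set V).ncard := Set.ncard_sdiff_add_ncard_of_subset (hcE y E' hD')
      have k2 : ((F ∙ c : Submodule F V) : Set V).ncard = Fintype.card F := by
        rw [← Nat.card_coe_set_eq]
        change Nat.card (F ∙ c : Submodule F V) = _
        rw [card_submodule, finrank_span_singleton h0, pow_one]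
      have k3 : (E' : Set V).ncard = Fintype.card F ^ finrank F E := by
        rw [← Nat.card_coe_set_eq]
        change Nat.card E' = _
        rw [card_submodule, show finrank F E' = finrank F E by omega]
      have k4 : {w ∈ {w | C.Φ.B c w = 0 ∧ w ∉ F ∙ c ∧ C.Φ.Q w = C.Φ.Q v} | w ∈ C.Dp c y}.ncard ≤
          ((E' : Set V) \ (F ∙ c : Submodule F V)).ncard :=
        Set.ncard_le_ncard (fun w hw => ⟨by have := hw.2; rwa [hD'] at this, hw.1.2.1⟩)
      omega)
  have h9 := C.ncard_K_zero_add hc h0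
  rw [hE.2 v hv] at h2
  have hq : 1 < Fintype.card F := Fintype.one_lt_card
  set q := Fintype.card F
  set k := {w | C.Φ.B c w = 0 ∧ w ∉ F ∙ c ∧ C.Φ.Q w = 0}.ncard
  have key : k = (q ^ 2 + 1) * (q ^ finrank F E - q) := by
    obtain ⟨r, hr⟩ : ∃ r, q = r + 1 := ⟨q - 1, by omega⟩
    have hr' : q - 1 = r := by omega
    rcases (by omega : finrank F V = 7 ∨ finrank F V = 8) with h7 | h8
    · rw [(hN.w7 h7).1, h7, hr'] at h9
      rw [show finrank F E = 3 by omega]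
      have : q ^ 3 - q = r * (r + 1) * (r + 2) := by rw [hr]; apply Nat.sub_eq_of_eq_add; ring
      rw [this]
      change k + q + r * q ^ 5 = q ^ 6 at h9
      rw [hr] at h9 ⊢
      nlinarith
    · have h10 := ((hN.w8 h8).resolve_left fun h => by have := h E hE; omega).1
      rw [← h9, h8, hr'] at h10
      rw [show finrank F E = 4 by omega]
      have : q ^ 4 - q = r * (r + 1) * (r ^ 2 + 3 * r + 3) := by
        rw [hr]; apply Nat.sub_eq_of_eq_add; ring
      rw [this]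
      change k + q + r * q ^ 6 + q ^ 3 = q ^ 7 + q ^ 4 at h10
      rw [hr] at h10 ⊢
      nlinarith
  have hpos : 0 < q ^ finrank F E - q := by
    have : q ^ 1 < q ^ finrank F E := Nat.pow_lt_pow_right hq (by omega)
    rw [pow_one] at this
    omega
  rw [key, ← mul_assoc] at h2
  exact Nat.le_of_mul_le_mul_right h2 hpos

theorem kappa_mul_le {c : V} (hc : C.Φ.Q c = 0) (h0 : c ≠ 0) {Ω : Set X} (h : C.PInv c Ω) {ω : ℕ}
    (hN : C.Num ω) (hT : ∀ y ∈ Ω, C.Tt c y) {x : X} (hx : x ∈ Ω) :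
    (Fintype.card F + 1) * (Fintype.card F ^ 2 + 1) * Fintype.card F ^ (finrank F V - 5) ≤
      Ω.ncard := by
  classical
  have h1 := C.kappa_le hc h0 h hN hT hx
  set T := h.1.toFinset.image (C.Dp c)
  have hT' : ∀ D, D ∈ T ↔ ∃ x ∈ Ω, C.Dp c x = D := by
    intro D; simp [T]
  have h2 := C.sum_card_le hc h0 h T fun D hD => (hT' D).1 hD
  have h3 : ∑ D ∈ T, Nat.card D = T.card * (Fintype.card F * Fintype.card F ^ (finrank F V - 5)) := by
    rw [← smul_eq_mul T.card, ← Finset.sum_const]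
    refine Finset.sum_congr rfl fun D hD => ?_
    obtain ⟨y, hy, rfl⟩ := (hT' D).1 hD
    obtain ⟨E, -, e1, e2, hD⟩ := hT y hy
    rw [hD, ← pow_succ', show finrank F V - 5 + 1 = finrank F E by omega]
    exact card_submodule E
  apply Nat.le_of_mul_le_mul_left _ (Fintype.card_pos (α := F))
  refine le_trans ?_ (h3 ▸ h2)
  calc _ = _ * (Fintype.card F * Fintype.card F ^ (finrank F V - 5)) := by ring
    _ ≤ _ := Nat.mul_le_mul_right _ h1

theorem two_kappa_mul_le {c : V} (hc : C.Φ.Q c = 0) (h0 : c ≠ 0) {Ω : Set X} (h : C.PInv c Ω)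
    {ω : ℕ} (hN : C.Num ω) (hT : ∀ y ∈ Ω, C.Tt c y) {x : X} (hx : x ∈ Ω)
    (h2 : ∀ y ∈ Ω, ∃ y' ∈ Ω, C.Dp c y' = C.Dp c y ∧ y' ∉ (sgA C.hΦ C.hκ c ⊤).orb y) :
    2 * ((Fintype.card F + 1) * (Fintype.card F ^ 2 + 1) * Fintype.card F ^ (finrank F V - 5)) ≤
      Ω.ncard := by
  classical
  have h1 := C.kappa_le hc h0 h hN hT hx
  set T := h.1.toFinset.image (C.Dp c)
  have hT' : ∀ D, D ∈ T ↔ ∃ x ∈ Ω, C.Dp c x = D := by
    intro D; simp [T]
  have h3 := sum_le_of_fiber h.1 (C.Dp c) T (fun _ => 2 * Fintype.card F ^ (finrank F V - 5)) 1 (by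
    intro D hD
    obtain ⟨y, hy, rfl⟩ := (hT' D).1 hD
    obtain ⟨y', hy', k1, k2⟩ := h2 y hy
    obtain ⟨E, -, e1, e2, hD⟩ := hT y hy
    have k3 : ∀ z : X, C.Dp c z = C.Dp c y →
        ((sgA C.hΦ C.hκ c ⊤).orb z).ncard = Fintype.card F ^ (finrank F V - 5) := by
      intro z hz
      apply Nat.eq_of_mul_eq_mul_left (Fintype.card_pos (α := F))
      rw [← C.card_Dp h0, hz, hD, ← pow_succ', show finrank F V - 5 + 1 = finrank F E by omega]
      exact card_submodule E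
    have k4 : ∀ z ∈ Ω, C.Dp c z = C.Dp c y →
        (sgA C.hΦ C.hκ c ⊤).orb z ⊆ {x ∈ Ω | C.Dp c x = C.Dp c y} := by
      rintro z hz e _ ⟨u, hu, rfl⟩
      exact ⟨C.pInv_s hc h u hu z hz, (C.Dp_s ((mem_sgA_U _ _).1 hu).2 z).trans e⟩
    have hf := h.1.subset (Set.sep_subset Ω fun x => C.Dp c x = C.Dp c y)
    rw [one_mul, two_mul]
    nth_rewrite 1 [← k3 y rfl]
    rw [← k3 y' k1, ← Set.ncard_union_eq (AH.disjoint_orb _ k2) (hf.subset (k4 y hy rfl))
      (hf.subset (k4 y' hy' k1))]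
    exact Set.ncard_le_ncard (Set.union_subset (k4 y hy rfl) (k4 y' hy' k1)) hf)
  rw [Finset.sum_const, smul_eq_mul, one_mul] at h3
  refine le_trans ?_ h3
  calc _ = _ * (2 * Fintype.card F ^ (finrank F V - 5)) := by ring
    _ ≤ _ := Nat.mul_le_mul_right _ h1

end OC

end H22
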