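import Cfsg.Agent.H22.MdG

/-!
Minimal degrees of orthogonal groups: invariant subspaces and fixed points.
-/

set_option autoImplicit false

namespace H22

open H23 H23.Form Module Pointwise

/-- orbit under a subgroup -/
def gorb {O X : Type*} [Group O] [MulAction O X] (G : Subgroup O) (x : X) : Set X :=
  {y | ∃ g ∈ G, g • x = y}

section Gorb

variable {O X Y : Type*} [Group O] [MulAction O X] [MulAction O Y] {G : Subgroup O}

theorem self_mem_gorb (x : X) : x ∈ gorb G x := ⟨1, one_mem _, one_smul _ _⟩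

theorem smul_mem_gorb {x y : X} (hy : y ∈ gorb G x) {g : O} (hg : g ∈ G) : g • y ∈ gorb G x := by
  obtain ⟨k, hk, rfl⟩ := hy
  exact ⟨g * k, mul_mem hg hk, mul_smul _ _ _⟩

theorem gorb_eq_of_mem {x y : X} (hy : y ∈ gorb G x) : gorb G y = gorb G x := by
  apply Set.Subset.antisymm
  · rintro _ ⟨g, hg, rfl⟩
    exact smul_mem_gorb hy hg
  · obtain ⟨k, hk, rfl⟩ := hy
    rintro _ ⟨g, hg, rfl⟩
    exact ⟨g * k⁻¹, mul_mem hg (inv_mem hk), by simp [mul_smul]⟩

theorem gorb_le {x : X} {y : Y} (hfin : (gorb G x).Finite) (h : ∀ g ∈ G, g • x = x → g • y = y) :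
    (gorb G y).Finite ∧ (gorb G y).ncard ≤ (gorb G x).ncard := by
  classical
  let f : X → Y := fun z => if hz : z ∈ gorb G x then hz.choose • y else y
  have h1 : gorb G y ⊆ f '' gorb G x := by
    rintro _ ⟨g, hg, rfl⟩
    have hz : g • x ∈ gorb G x := ⟨g, hg, rfl⟩
    refine ⟨_, hz, ?_⟩
    obtain ⟨h2, h3⟩ := hz.choose_spec
    simp only [f, dif_pos hz]
    have := h (g⁻¹ * hz.choose) (mul_mem (inv_mem hg) h2) (by rw [mul_smul, h3, inv_smul_smul])
    rwa [mul_smul, inv_smul_eq_iff] at this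
  exact ⟨(hfin.image f).subset h1,
    (Set.ncard_le_ncard h1 (hfin.image f)).trans (Set.ncard_image_le hfin)⟩

end Gorb

theorem ncard_submodule {F V : Type*} [Field F] [AddCommGroup V] [Module F V] [Fintype F]
    [FiniteDimensional F V] (U : Submodule F V) :
    (U : Set V).ncard = Fintype.card F ^ finrank F U := card_submodule U

namespace OC

variable {F V : Type*} [Field F] [AddCommGroup V] [Module F V] [FiniteDimensional F V]
  (C : OC F V) [Fintype F] {X : Type*} [MulAction C.Φ.O X]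

omit [FiniteDimensional F V] [Fintype F] in
theorem gorb_gInv {x : X} (h : (gorb C.G x).Finite) : C.GInv (gorb C.G x) :=
  ⟨h, fun _ hg _ hy => smul_mem_gorb hy hg⟩

omit [FiniteDimensional F V] [Fintype F] in
theorem smul_toAdd (g : C.Φ.O) (E : Submodule F V) :
    g • E.toAddSubgroup = (E.map g.1.toLinearMap).toAddSubgroup := by
  ext v
  rw [C.mem_smul_iff, Submodule.mem_toAddSubgroup, Submodule.mem_toAddSubgroup,
    Submodule.mem_map_equiv]
  rfl

omit [Fintype F] in
theorem smul_toAdd_eq {g : C.Φ.O} {E : Submodule F V} (h : ∀ e ∈ E, g.1 e ∈ E) :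
    g • E.toAddSubgroup = E.toAddSubgroup := by
  rw [C.smul_toAdd, mem_Stab.1 (mem_Stab_of_le.2 h)]

theorem point_bound {v : V} (h0 : v ≠ 0) {r : ℕ}
    (hr : {t : F | t ≠ 0 ∧ t ^ 2 * C.Φ.Q v = C.Φ.Q v}.ncard ≤ r) :
    {w | w ≠ 0 ∧ C.Φ.Q w = C.Φ.Q v}.ncard ≤ (gorb C.G (F ∙ v).toAddSubgroup).ncard * r := by
  classical
  have := finite_of_fd F V
  have hf := Set.toFinite (gorb C.G (F ∙ v).toAddSubgroup)
  have := ncard_le_mul_of_cover (Set.toFinite {w | w ≠ 0 ∧ C.Φ.Q w = C.Φ.Q v}) hf.toFinset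
    (fun D w => w ∈ D) 1 r (by
      intro w hw
      obtain ⟨g, hg, h1⟩ := exists_omega_one C.hΦ C.hκ (by have := C.hV; omega) h0 hw.1 hw.2.symm
      rw [Nat.one_le_iff_ne_zero]
      refine Set.ncard_ne_zero_of_mem (a := g • (F ∙ v).toAddSubgroup)
        ⟨hf.mem_toFinset.2 ⟨g, hg, rfl⟩, ?_⟩
      rw [C.mem_smul_iff, ← h1, C.inv_apply]
      exact Submodule.mem_span_singleton_self v) (by
      intro D hD
      obtain ⟨g, hg, rfl⟩ := hf.mem_toFinset.1 hD
      refine le_trans ?_ ((Set.ncard_image_le (f := fun t : F => t • g.1 v)).trans hr)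
      apply Set.ncard_le_ncard _ (Set.toFinite _)
      rintro w ⟨⟨h1, h2⟩, h3⟩
      rw [C.mem_smul_iff] at h3
      obtain ⟨t, ht⟩ := Submodule.mem_span_singleton.1 h3
      have e : t • g.1 v = w := by rw [← map_smul, ht, C.apply_inv]
      refine ⟨t, ⟨?_, ?_⟩, e⟩
      · rintro rfl; exact h1 (by simpa using e.symm)
      · rwa [← e, C.Φ.Q_smul, O_Q] at h2)
  rwa [one_mul, ← Set.ncard_eq_toFinset_card] at this

theorem no_fix_point {x : X} (hfin : (gorb C.G x).Finite) (hN : C.Num (gorb C.G x).ncard) {v : V}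
    (h0 : v ≠ 0) (h : ∀ g ∈ C.G, g • x = x → g.1 v ∈ F ∙ v) : False := by
  classical
  have := finite_of_fd F V
  have h1 := (gorb_le (y := (F ∙ v).toAddSubgroup) hfin fun g hg hx => C.smul_toAdd_eq fun e he => by
    obtain ⟨t, rfl⟩ := Submodule.mem_span_singleton.1 he
    rw [map_smul]
    exact Submodule.smul_mem _ _ (h g hg hx)).2
  by_cases hQ : C.Φ.Q v = 0
  · have h2 := C.point_bound h0 (r := Fintype.card F - 1) (by
      have : ({0}ᶜ : Set F).ncard = Fintype.card F - 1 := by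
        rw [Set.ncard_compl, Set.ncard_singleton, Nat.card_eq_fintype_card]
      rw [← this]
      exact Set.ncard_le_ncard fun t ht => ht.1)
    have h3 : {w | w ≠ 0 ∧ C.Φ.Q w = C.Φ.Q v}.ncard + 1 = C.N 0 := by
      rw [N, ← Set.ncard_insert_of_notMem (a := 0) (by simp)]
      congr 1
      ext w
      by_cases hw : w = 0 <;> simp [hw, hQ]
    have h4 := hN.hs
    have := Nat.mul_le_mul_right (Fintype.card F - 1) h1
    omega
  have h3 : {w | w ≠ 0 ∧ C.Φ.Q w = C.Φ.Q v}.ncard = C.N (C.Φ.Q v) := by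
    rw [N]
    congr 1
    ext w
    refine ⟨fun h => h.2, fun h => ⟨?_, h⟩⟩
    rintro rfl
    exact hQ (by simpa using h.symm)
  have h4 : {t : F | t ≠ 0 ∧ t ^ 2 * C.Φ.Q v = C.Φ.Q v} ⊆ {1, -1} := by
    rintro t ⟨-, ht⟩
    exact sq_eq_one_iff.1 (mul_right_cancel₀ hQ (by rw [ht, one_mul]))
  obtain ⟨h5, h6⟩ := hN.hn _ hQ
  by_cases h2 : (2 : F) = 0
  · have h7 := C.point_bound h0 (r := 1) (by
      refine (Set.ncard_le_ncard h4).trans ?_
      rw [show (-1 : F) = 1 by linear_combination -h2]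
      simp)
    omega
  · have h7 := C.point_bound h0 (r := 2) ((Set.ncard_le_ncard h4).trans
      ((Set.ncard_insert_le _ _).trans (by simp)))
    have := h6 h2
    omega

theorem mem_St_iff_of_eq {c u : V} {x : X} {E : Submodule F V} (h : C.Dp c x = E.toAddSubgroup) :
    u ∈ C.St c x ↔ u ∈ C.Φ.perp E := by
  constructor
  · intro hu e he
    refine eq_zero_of_addChar C.hψ fun t => ?_
    have : t • e ∈ C.Dp c x := by rw [h]; exact E.smul_mem t he
    simpa using this u hu
  · intro hu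
    exact C.mem_St_of_perp fun v hv => hu v (by rwa [h] at hv)

omit [Fintype F] in
theorem mem_span_of_reg {c u : V} {x : X} (h : ∀ z, C.Φ.B c z = 0 → z ∈ C.Dp c x)
    (hu : u ∈ C.St c x) : u ∈ F ∙ c := by
  rw [← C.hΦ.perp_perp (F ∙ c)]
  intro z hz
  refine eq_zero_of_addChar C.hψ fun t => ?_
  simpa using h (t • z) (by simp [(C.Φ.mem_perp_span_singleton).1 hz]) u hu

omit [Fintype F] in
theorem St_swap {c u : V} {x : X} (hc : C.Φ.Q c = 0) (hu : C.Φ.Q u = 0)
    (h : ∀ t : F, t • u ∈ C.St c x) (t : F) : t • c ∈ C.St u x := by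
  have h1 : C.Φ.B c u = 0 := by simpa using (C.mem_St.1 (h 1)).1
  refine C.mem_St.2 ⟨by simp [C.comm u c, h1], ?_⟩
  rw [s, sg_swap _ _ hc hu h1]
  exact (C.mem_St.1 (h _)).2

/-- an invariant totally singular subspace -/
theorem no_fix_ts {x : X} (hfin : (gorb C.G x).Finite) (hN : C.Num (gorb C.G x).ncard)
    {E : Submodule F V} (hE : C.Φ.TotSing E) (h0 : E ≠ ⊥)
    (h : ∀ g ∈ C.G, g • x = x → ∀ e ∈ E, g.1 e ∈ E) : False := by
  classical
  have := finite_of_fd F V
  obtain ⟨hf, h1⟩ := gorb_le (y := E.toAddSubgroup) hfin fun g hg hx => C.smul_toAdd_eq (h g hg hx)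
  have hN' := hN.mono h1
  obtain ⟨e, he, he0⟩ := (Submodule.ne_bot_iff E).1 h0
  obtain ⟨c, hh⟩ := exists_hyp C.hΦ (C.sing.2 (hE.2 e he)) he0
  have hc := hh.right.2
  have hc0 := hh.right_ne
  have hce : C.Φ.B c e = 1 := by rw [C.comm, hh.one]
  have hcE : c ∉ E := fun h2 => by simpa [hh.one] using hE.1 e he c h2
  set S := (E ⊓ C.Φ.perp (F ∙ c)) ⊔ F ∙ c
  have e1 := C.finrank_inf_perp_one he (z := c) (by rw [hce]; exact one_ne_zero)
  have e2 := C.hΦ.two_mul_finrank_le hE
  have e3 : finrank F S = finrank F E := by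
    rw [finrank_sup_span_of_notMem (U := E ⊓ C.Φ.perp (F ∙ c)) fun h => hcE h.1, e1]
  have e4 := C.hΦ.finrank_perp_add S
  have e5 := C.hV
  have hS : ∀ v ∈ C.Φ.perp S, v ∈ C.Dp c E.toAddSubgroup := by
    intro v hv
    refine mem_pp_of_perp fun u hu => C.Φ.B_eq_zero_symm (hv u ?_)
    obtain ⟨k1, k2⟩ := C.mem_St.1 hu
    have k3 := C.sub_mem_of_fix hc k1 k2 he
    rw [hce, one_smul] at k3
    have := S.sub_mem (Submodule.mem_sup_right (Submodule.smul_mem _ (C.Φ.B u e - C.Φ.Q u * 1)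
      (Submodule.mem_span_singleton_self c))) (Submodule.mem_sup_left ⟨k3,
      (C.Φ.mem_perp_span_singleton).2 (by simp [hh.right.1, k1])⟩)
    simpa using this
  have hle : ∀ U : Submodule F V, (∀ w ∈ C.Dp c E.toAddSubgroup, w ∈ U) →
      finrank F V ≤ finrank F U + finrank F E := fun U hU => by
    have := Submodule.finrank_mono (show C.Φ.perp S ≤ U from fun v hv => hU v (hS v hv))
    omega
  have hP := (C.gorb_gInv hf).pInv c
  rcases C.classify hc hc0 hP hN' (self_mem_gorb _) with h2 | ⟨v, -, -, h2⟩ | h2 | h2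
  · have := hle _ h2
    rw [finrank_span_singleton hc0] at this
    omega
  · have := hle _ h2
    have := finrank_span_pair_le (F := F) c v
    omega
  · refine C.no_fix_point hfin hN he0 fun g hg hx => ?_
    have k1 := h g hg hx e he
    set a := g.1 e - C.Φ.B c (g.1 e) • e
    have ha : a ∈ E := E.sub_mem k1 (E.smul_mem _ he)
    have hca : C.Φ.B c a = 0 := by simp [a, hce]
    obtain ⟨t, ht⟩ := Submodule.mem_span_singleton.1 (C.mem_span_of_reg h2 (u := a)
      (C.mem_St.2 ⟨hca, C.smul_toAdd_eq fun z hz => by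
        rw [sg_apply _ _ hc hca, hE.1 a ha z hz, hE.2 a ha, zero_mul, sub_zero, zero_smul, add_zero]
        exact E.sub_mem hz (E.smul_mem _ ha)⟩))
    have : t = 0 := by simpa [← ht, hh.one] using hE.1 e he a ha
    rw [this, zero_smul, eq_comm, sub_eq_zero] at ht
    rw [ht]
    exact Submodule.smul_mem _ _ (Submodule.mem_span_singleton_self e)
  · have h2' := h2
    obtain ⟨E2, hE2, k1, k2, hD⟩ := h2'
    have k3 := hle E2 fun w hw => by rwa [hD] at hw
    have k4 := C.hΦ.two_mul_finrank_le hE2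
    have h8 : finrank F V = 8 := by omega
    have h4 : finrank F E = 4 := by omega
    set Ω := gorb C.G E.toAddSubgroup
    have c1 := C.kappa_mul_le hc hc0 (C.porb_pInv hP (self_mem_gorb _)) hN' (by
      rintro _ ⟨g, -, t, ht, k, rfl⟩
      exact h2.smul ht k) (C.self_mem_porb c _)
    have c2 : (C.porb c E.toAddSubgroup).ncard + {D ∈ Ω | c ∈ D}.ncard ≤ Ω.ncard := by
      rw [← Set.ncard_union_eq]
      · exact Set.ncard_le_ncard (Set.union_subset (C.porb_subset hP (self_mem_gorb _))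
          (Set.sep_subset _ _))
      · rw [Set.disjoint_left]
        rintro _ ⟨g, -, t, ht, k, rfl⟩ ⟨-, k5⟩
        rw [C.mem_smul_iff, C.inv_apply_smul ht k, Submodule.mem_toAddSubgroup,
          Submodule.smul_mem_iff _ (inv_ne_zero ht)] at k5
        exact hcE k5
    have hT := Set.toFinite {w | w ≠ 0 ∧ C.Φ.Q w = 0}
    have c3 := ncard_le_mul_of_cover hf hT.toFinset (fun w D => w ∈ D) (Fintype.card F ^ 4 - 1)
      {D ∈ Ω | c ∈ D}.ncard (by
        rintro _ ⟨g, hg, rfl⟩
        rw [C.smul_toAdd, ← h4, ← LinearEquiv.finrank_map_eq g.1 E, ← ncard_submodule,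
          ← Set.ncard_sdiff_singleton_of_mem (Submodule.zero_mem _)]
        apply Set.ncard_le_ncard _ (Set.toFinite _)
        rintro w ⟨k5, k6⟩
        exact ⟨hT.mem_toFinset.2 ⟨k6, (hE.map g.2).2 w k5⟩, k5⟩) (by
        intro w hw
        obtain ⟨k5, k6⟩ := hT.mem_toFinset.1 hw
        obtain ⟨g, hg, k7⟩ := exists_omega_one C.hΦ C.hκ (by omega) k5 hc0 (by rw [k6, hc])
        refine Set.ncard_le_ncard_of_injOn (fun D => g • D) ?_ (MulAction.injective g).injOn
        rintro D ⟨k8, k9⟩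
        refine ⟨smul_mem_gorb k8 hg, ?_⟩
        rw [C.mem_smul_iff, ← k7, C.inv_apply]
        exact k9)
    have c4 : hT.toFinset.card + 1 = C.N 0 := by
      rw [← Set.ncard_eq_toFinset_card, N, ← Set.ncard_insert_of_notMem (a := 0) (by simp)]
      congr 1
      ext w
      by_cases hw : w = 0 <;> simp [hw]
    have c5 := ((hN.w8 h8).resolve_left fun h => by have := h E hE; omega).1
    have c6 := hN'.hs
    have hq : 1 < Fintype.card F := Fintype.one_lt_card
    rw [h8] at c1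
    set q := Fintype.card F
    set f := {D ∈ Ω | c ∈ D}.ncard
    set ω := Ω.ncard
    obtain ⟨r, hr⟩ : ∃ r, q = r + 1 := ⟨q - 1, by omega⟩
    have c7 : q ^ 4 - 1 = r * ((q + 1) * (q ^ 2 + 1)) := by
      rw [hr]; apply Nat.sub_eq_of_eq_add; ring
    have c8 : hT.toFinset.card = r * ((q + 1) * (q ^ 2 + 1)) * (q ^ 3 + 1) := by
      rw [← c4, hr] at c5
      rw [hr]
      nlinarith
    rw [c7, c8, mul_assoc _ _ f] at c3
    have c9 := Nat.le_of_mul_le_mul_left c3 (by have : 0 < r := by omega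
                                                positivity)
    rw [← c4, c8, show q - 1 = r by omega] at c6
    set κ := (q + 1) * (q ^ 2 + 1)
    have c10 : q ^ 3 * (κ * (q ^ 3 + 1)) ≤ q ^ 3 * ω := by
      change κ * q ^ 3 ≤ _ at c1
      nlinarith
    have c11 := Nat.le_of_mul_le_mul_left c10 (by positivity)
    nlinarith

end OC

end H22
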