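import Cfsg.Agent.H22.MdH

/-!
Minimal degrees of orthogonal groups: geometry of the non-regular points.
-/

set_option autoImplicit false

namespace H22

open H23 H23.Form Module Pointwise

namespace OC

variable {F V : Type*} [Field F] [AddCommGroup V] [Module F V] [FiniteDimensional F V]
  (C : OC F V) [Fintype F] {X : Type*} [MulAction C.Φ.O X]

/-- `A_c` fixes `x` -/
def Ft (c : V) (x : X) : Prop := ∀ u, C.Φ.B c u = 0 → C.s c u • x = x

theorem ft_of_Dp {c : V} {x : X} (h : ∀ w ∈ C.Dp c x, w ∈ F ∙ c) : C.Ft c x := fun u hu =>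
  (C.mem_St.1 (C.mem_St_of_perp fun v hv => by
    obtain ⟨t, rfl⟩ := Submodule.mem_span_singleton.1 (h v hv)
    simp [hu])).2

theorem fix_of_ft {c d : V} (hc : C.Φ.Q c = 0) (hd : C.Φ.Q d = 0) (hcd : C.Φ.B c d ≠ 0) {x : X}
    (h1 : C.Ft c x) (h2 : C.Ft d x) {g : C.Φ.O} (hg : g ∈ C.G) : g • x = x := by
  have key : ∀ c, C.Φ.Q c = 0 → C.Ft c x →
      C.Φ.QIn ((MulAction.stabilizer C.Φ.O x).map C.Φ.O.subtype) c := by
    intro c hc h e s hs
    refine ⟨_, ⟨C.s c e, h e hs.perp, rfl⟩, fun v => ?_⟩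
    obtain rfl : s = C.Φ.Q e := by simpa [C.hκ] using hs.trQ
    change (C.s c e).1 v = _
    rw [sg_apply _ _ hc hs.perp, eichler_apply, eps_quad C.hκ]
    simp [sub_eq_add_neg]
  have := E_le_of_qIn C.hΦ (C.sing.2 hc) (C.sing.2 hd) hcd (key c hc h1) (key d hd h2)
    ((mem_E_quad C.hΦ C.hκ (by have := C.hV; omega)).2 hg)
  obtain ⟨k, hk, e⟩ := this
  rwa [← show k = g from Subtype.ext e]

omit [Fintype F] in
theorem Ft.conj {C : OC F V} [MulAction C.Φ.O X] {c : V} {x : X} (h : C.Ft c x) (g : C.Φ.O) :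
    C.Ft (g.1 c) (g • x) := fun u hu => by
  have := (C.mem_St_conj g c x ((g⁻¹).1 u)).1 (C.mem_St.2 ⟨by rw [← O_B_left, hu],
    h _ (by rw [← O_B_left, hu])⟩)
  rw [C.apply_inv] at this
  exact (C.mem_St.1 this).2

omit [Fintype F] in
theorem inv_of_span {x : X} {P : V → Prop} (hP : ∀ g ∈ C.G, g • x = x → ∀ v, P v → P (g.1 v)) :
    ∀ g ∈ C.G, g • x = x → ∀ e ∈ Submodule.span F {v | P v}, g.1 e ∈ Submodule.span F {v | P v} := by
  intro g hg hx e he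
  have : Submodule.span F {v | P v} ≤ (Submodule.span F {v | P v}).comap g.1.toLinearMap :=
    Submodule.span_le.2 fun v hv => Submodule.subset_span (hP g hg hx v hv)
  exact this he

theorem fix_of_exists_ft {x : X} (hfin : (gorb C.G x).Finite) (hN : C.Num (gorb C.G x).ncard)
    {c : V} (hc : C.Φ.Q c = 0) (h0 : c ≠ 0) (h : C.Ft c x) {g : C.Φ.O} (hg : g ∈ C.G) :
    g • x = x := by
  by_contra hcon
  refine C.no_fix_ts hfin hN (E := Submodule.span F {v | C.Φ.Q v = 0 ∧ C.Ft v x})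
    (totSing_span (fun a ha b hb => ?_) fun a ha => ha.1) ?_ (C.inv_of_span ?_)
  · by_contra h1
    exact hcon (C.fix_of_ft ha.1 hb.1 h1 ha.2 hb.2 hg)
  · exact (Submodule.ne_bot_iff _).2 ⟨c, Submodule.subset_span ⟨hc, h⟩, h0⟩
  · intro k _ hk v hv
    exact ⟨by rw [O_Q, hv.1], by simpa [hk] using hv.2.conj k⟩

omit [Fintype F] in
theorem Tt.conj {C : OC F V} [MulAction C.Φ.O X] {c : V} {x : X} (h : C.Tt c x) (g : C.Φ.O) :
    C.Tt (g.1 c) (g • x) := by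
  obtain ⟨E, h1, h2, h3, h4⟩ := h
  have := LinearEquiv.finrank_map_eq g.1 E
  refine ⟨_, h1.map g.2, by omega, by omega, ?_⟩
  ext v
  rw [← C.smul_toAdd, C.mem_smul_iff, ← h4, C.mem_Dp_conj g c x, C.apply_inv]

theorem all_tt {Ω : Set X} (h : C.GInv Ω) (hN : C.Num Ω.ncard)
    (hF : ∀ y ∈ Ω, ∀ c, C.Φ.Q c = 0 → c ≠ 0 → ¬ C.Ft c y) {c : V} (hc : C.Φ.Q c = 0) (h0 : c ≠ 0)
    {x : X} (hx : x ∈ Ω) (hT : C.Tt c x) :
    ∀ y ∈ Ω, ∀ d, C.Φ.Q d = 0 → d ≠ 0 → C.Tt d y := by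
  have hP := h.pInv c
  have hO : ∀ y ∈ C.porb c x, C.Tt c y := by
    rintro _ ⟨g, -, t, ht, k, rfl⟩
    exact hT.smul ht k
  have key : ∀ y ∈ Ω, C.Tt c y := by
    intro y hy
    by_contra hcon
    have h1 : y ∈ Ω \ C.porb c x := ⟨hy, fun h => hcon (hO y h)⟩
    obtain ⟨v, hv, hv'⟩ : ∃ v ∈ C.Dp c y, v ∉ F ∙ c := by
      by_contra h2
      push Not at h2
      exact hF y hy c hc h0 (C.ft_of_Dp h2)
    have c1 := C.big hc h0 (C.sdiff_pInv hP (C.porb_pInv hP hx)) h1 hv hv'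
    have c2 := C.kappa_mul_le hc h0 (C.porb_pInv hP hx) hN hO (C.self_mem_porb c x)
    have c3 := Set.ncard_sdiff_add_ncard_of_subset (C.porb_subset hP hx) h.1
    have c4 := hN.hs
    obtain ⟨E, hE, e1, e2, -⟩ := hT
    have e3 := C.hΦ.two_mul_finrank_le hE
    have hq : 1 < Fintype.card F := Fintype.one_lt_card
    have c5 := Nat.mul_le_mul_right (Fintype.card F - 1) ((Nat.add_le_add c1 c2).trans c3.le)
    rcases (by omega : finrank F V = 7 ∨ finrank F V = 8) with h7 | h8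
    · rw [(hN.w7 h7).1] at c4
      rw [h7] at c5
      obtain ⟨r, hr⟩ : ∃ r, Fintype.card F = r + 2 := ⟨Fintype.card F - 2, by omega⟩
      rw [hr] at c4 c5
      simp only [show r + 2 - 1 = r + 1 from rfl] at c4 c5
      have := c5.trans_lt (Nat.lt_of_succ_lt c4)
      ring_nf at this
      omega
    · have c6 := ((hN.w8 h8).resolve_left fun h => by have := h E hE; omega).1
      rw [h8] at c5
      obtain ⟨r, hr⟩ : ∃ r, Fintype.card F = r + 2 := ⟨Fintype.card F - 2, by omega⟩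
      rw [hr] at c4 c5 c6
      simp only [show r + 2 - 1 = r + 1 from rfl] at c4 c5
      have := Nat.add_lt_add_right (c5.trans_lt (Nat.lt_of_succ_lt c4)) ((r + 2) ^ 3)
      rw [c6] at this
      ring_nf at this
      omega
  intro y hy d hd hd0
  obtain ⟨g, hg, e⟩ := exists_omega_one C.hΦ C.hκ (by have := C.hV; omega) h0 hd0 (by rw [hc, hd])
  simpa [e] using (key _ (h.2 _ (inv_mem hg) y hy)).conj g

omit [Fintype F] in
theorem mem_of_max {E : Submodule F V} (hE : C.Φ.TotSing E) (h : finrank F V < 2 * finrank F E + 2)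
    {v : V} (hv : v ∈ C.Φ.perp E) (hQ : C.Φ.Q v = 0) : v ∈ E := by
  by_contra hcon
  have h1 := C.hΦ.two_mul_finrank_le (hE.sup (totSing_span_singleton (C.sing.2 hQ).1 hQ)
    ((Submodule.span_singleton_le_iff_mem _ _).2 hv))
  rw [finrank_sup_span_of_notMem hcon] at h1
  omega

omit [Fintype F] in
theorem exists_perp_two {E : Submodule F V} (h : 3 ≤ finrank F E) (a b : V) :
    ∃ y ∈ E, y ≠ 0 ∧ C.Φ.B a y = 0 ∧ C.Φ.B b y = 0 := by
  have h1 := C.hΦ.finrank_le_inf_perp E (Submodule.span F {a, b})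
  have h2 := finrank_span_pair_le (F := F) a b
  obtain ⟨y, hy, hy0⟩ := (Submodule.ne_bot_iff (E ⊓ C.Φ.perp (Submodule.span F {a, b}))).1 (by
    intro h3
    rw [h3, finrank_bot] at h1
    omega)
  exact ⟨y, hy.1, hy0, mem_perp_pair.1 hy.2⟩

/-- symmetry of the relation `u ∈ E_c` -/
theorem tt_symm {c u : V} {x : X} {E E' : Submodule F V} (hc : C.Φ.Q c = 0) (hE : C.Φ.TotSing E)
    (hD : C.Dp c x = E.toAddSubgroup) (hu : u ∈ E) (hE' : C.Φ.TotSing E')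
    (h : finrank F V < 2 * finrank F E' + 2) (hD' : C.Dp u x = E'.toAddSubgroup) : c ∈ E' := by
  have := C.St_swap hc (hE.2 u hu)
    (fun t => (C.mem_St_iff_of_eq hD).2 (hE.le_perp (E.smul_mem t hu))) 1
  rw [one_smul] at this
  exact C.mem_of_max hE' h ((C.mem_St_iff_of_eq hD').1 this) hc

theorem exists_sing : ∃ c, C.Φ.Q c = 0 ∧ c ≠ 0 := by
  obtain ⟨c, -, h1, h2⟩ := iso3_quad C.hκ ⊤ (by rw [finrank_top]; have := C.hV; omega)
  exact ⟨c, C.sing.1 h2, h1⟩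

theorem tt_seven (h7 : finrank F V = 7) {x : X} (hT : ∀ d, C.Φ.Q d = 0 → d ≠ 0 → C.Tt d x) :
    False := by
  obtain ⟨c, hc, h0⟩ := C.exists_sing
  obtain ⟨c', hh⟩ := exists_hyp C.hΦ (C.sing.2 hc) h0
  obtain ⟨E, hE, e1, e2, hD⟩ := hT c hc h0
  obtain ⟨E', hE', e1', e2', hD'⟩ := hT c' hh.right.2 hh.right_ne
  obtain ⟨w, hw, hQ⟩ := exists_Q_ne_zero_of_finrank C.hκ C.hΦ (Z := E) (by
    have : finrank F (E ⊓ C.Φ.perp E : Submodule F V) ≤ finrank F E :=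
      Submodule.finrank_mono inf_le_left
    omega)
  obtain ⟨y, hy, hy0, h1, h2⟩ := C.exists_perp_two e1' c w
  obtain ⟨E2, hE2, f1, f2, hD2⟩ := hT y (hE'.2 y hy) hy0
  have h3 := C.tt_symm hh.right.2 hE' hD' hy hE2 (by omega) hD2
  obtain ⟨h4, h5⟩ := C.mem_St.1 ((C.mem_St_iff_of_eq hD).2 hw)
  have h6 := (C.mem_Dp_conj (C.s c w) y x c').1 (by rw [hD2]; exact h3)
  rw [sg_apply_of_perp _ _ h1 h2, h5, hD2] at h6
  have h8 := hE2.1 _ h3 _ h6
  rw [sg_apply _ _ hc h4] at h8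
  simp [hh.one, C.comm c' c, hh.right.1, C.comm c' w, hQ] at h8

omit [Fintype F] in
theorem tor_fix {c c' : V} (hh : Hyp C.Φ c c') {s : F} (hs : s ≠ 0) (hs1 : s ≠ 1) {x : X} {u : V}
    (hu : C.Φ.B c u = 0) (h : C.s c u • x = C.tor c c' s • x) :
    ∃ w, C.Φ.B c w = 0 ∧ C.tor c c' s • C.s c w • x = C.s c w • x := by
  have hw : C.Φ.B c ((1 - s)⁻¹ • u) = 0 := by simp [hu]
  refine ⟨_, hw, ?_⟩
  have e := C.conj_tor hh hs hw
  rw [mul_inv_eq_iff_eq_mul] at e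
  rw [← mul_smul, e, mul_smul, ← h, ← mul_smul, OC.s, OC.s, ← sg_add _ _ _ (by simp [hu]) hu]
  congr 2
  have := sub_ne_zero.2 hs1.symm
  match_scalars
  field_simp
  ring

omit [Fintype F] in
theorem tor_unique {c c' : V} (hh : Hyp C.Φ c c') {s : F} (hs : s ≠ 0) (hs1 : s ≠ 1) {y : X}
    (hS : ∀ u ∈ C.St c y, ∀ t : F, t • u ∈ C.St c y) (hy : C.tor c c' s • y = y) {g : C.Φ.O}
    (hg : C.tor c c' s * g * (C.tor c c' s)⁻¹ = g) {u : V} (hu : C.Φ.B c u = 0)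
    (h : C.s c u • y = g • y) : g • y = y := by
  have e := C.conj_tor hh hs hu
  rw [mul_inv_eq_iff_eq_mul] at e hg
  have h1 : C.s c (s • u) • y = C.s c u • y := by
    conv_lhs => rw [← hy, ← mul_smul, ← e, mul_smul, h, ← mul_smul, hg, mul_smul, hy, ← h]
  have h2 := ((sgA C.hΦ C.hκ c ⊤).smul_eq_smul_iff y ((mem_sgA_U _ _).2 ⟨trivial, by simp [hu]⟩)
    ((mem_sgA_U _ _).2 ⟨trivial, hu⟩)).1 h1
  have h3 := hS _ h2 (s - 1)⁻¹
  have e2 : (s - 1)⁻¹ • (s • u - u) = u := by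
    have := sub_ne_zero.2 hs1
    match_scalars
    field_simp
  rw [e2] at h3
  rw [← h, (C.mem_St.1 h3).2]

omit [Fintype F] in
theorem tor_comm {c c' y u : V} (hh : Hyp C.Φ c c') {s : F} (hs : s ≠ 0) (h1 : C.Φ.B c y = 0)
    (h2 : C.Φ.B c' y = 0) (h3 : C.Φ.B c u = 0) (h4 : C.Φ.B c' u = 0) :
    C.tor c c' s * C.s y u * (C.tor c c' s)⁻¹ = C.s y u := by
  rw [conj_sg, C.tor_of_perp hh hs h1 h2, C.tor_of_perp hh hs h3 h4]

theorem tt_eight (h8 : finrank F V = 8) {Ω : Set X} (h : C.GInv Ω) (hN : C.Num Ω.ncard)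
    (hT : ∀ y ∈ Ω, ∀ d, C.Φ.Q d = 0 → d ≠ 0 → C.Tt d y) {x : X} (hx : x ∈ Ω) : False := by
  obtain ⟨c, hc, h0⟩ := C.exists_sing
  obtain ⟨c', hh⟩ := exists_hyp C.hΦ (C.sing.2 hc) h0
  obtain ⟨E, hE, e1, e2, hD⟩ := hT x hx c hc h0
  obtain ⟨c1, c2⟩ := (hN.w8 h8).resolve_left fun h => by have := h E hE; omega
  have hP := h.pInv c
  have c3 := C.kappa_mul_le hc h0 hP hN (fun y hy => hT y hy c hc h0) hx
  rw [h8] at c3
  have hq : 4 ≤ Fintype.card F := by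
    by_contra h4
    have := c2 (by omega)
    rw [mul_assoc, mul_comm] at this
    exact absurd c3 (not_le.2 this)
  have horb : ∀ y ∈ Ω, ∀ y' ∈ Ω, C.Dp c y' = C.Dp c y → y' ∈ (sgA C.hΦ C.hκ c ⊤).orb y := by
    intro y hy y' hy' e
    by_contra hcon
    have hP' : C.PInv c {y ∈ Ω | ∃ y' ∈ Ω, C.Dp c y' = C.Dp c y ∧ y' ∉ (sgA C.hΦ C.hκ c ⊤).orb y} := by
      refine ⟨h.1.subset (Set.sep_subset _ _), ?_⟩
      rintro g hg t ht k z ⟨hz, z', hz', k1, k2⟩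
      refine ⟨h.2 g hg z hz, g • z', h.2 g hg z' hz', ?_, ?_⟩
      · ext v
        rw [C.mem_Dp_smul ht k, C.mem_Dp_smul ht k, k1]
      · rintro ⟨u, hu, k3⟩
        have hu' := ((mem_sgA_U _ _).1 hu).2
        refine k2 ⟨t⁻¹ • (g⁻¹).1 u, (mem_sgA_U _ _).2 ⟨trivial, ?_⟩, ?_⟩
        · simp only [map_smul, ← O_B_left, k, LinearMap.map_smulₛₗ, LinearMap.smul_apply, hu',
            smul_zero]
        · rw [sgA_e, ← sg_smul _ _ (inv_ne_zero ht), ← C.inv_apply_smul ht k, ← conj_sg, inv_inv,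
            mul_smul, mul_smul, inv_smul_eq_iff]
          exact k3
    have c4 := C.two_kappa_mul_le hc h0 hP' hN (fun y hy => hT y hy.1 c hc h0) ⟨hy, y', hy', e, hcon⟩
      (by
        rintro z ⟨hz, z', hz', k1, k2⟩
        refine ⟨z', ⟨hz', z, hz, k1.symm, fun k3 => k2 ?_⟩, k1, k2⟩
        rw [AH.orb_eq_of_mem _ k3]
        exact AH.self_mem_orb _ _)
    have c5 := c4.trans (Set.ncard_le_ncard (Set.sep_subset _ _) h.1)
    have c6 := hN.hs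
    rw [h8] at c5
    have c7 := Nat.mul_le_mul_right (Fintype.card F - 1) c5
    obtain ⟨r, hr⟩ : ∃ r, Fintype.card F = r + 2 := ⟨Fintype.card F - 2, by omega⟩
    rw [hr] at c1 c6 c7
    simp only [show r + 2 - 1 = r + 1 from rfl] at c6 c7
    have := Nat.add_lt_add_right (c7.trans_lt (Nat.lt_of_succ_lt c6)) ((r + 2) ^ 3)
    rw [c1] at this
    ring_nf at this
    omega
  obtain ⟨t, ht, ht2⟩ := exists_sq_ne_one hq
  have ht0 : t ^ 2 ≠ 0 := pow_ne_zero _ ht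
  have hcE : c ∈ E := by
    have := C.smul_self_mem_Dp c x 1
    rw [hD] at this
    simpa using this
  have hfixE : ∀ z ∈ Ω, C.Dp c z = E.toAddSubgroup → ∀ g ∈ C.G, ∀ s : F, s ≠ 0 → g.1 c = s • c →
      (∀ e ∈ E, g.1 e ∈ E) → ∃ u, C.Φ.B c u = 0 ∧ C.s c u • z = g • z := by
    intro z hz hD g hg s hs k1 k2
    obtain ⟨u, hu, e⟩ := horb z hz (g • z) (h.2 g hg z hz) (by
      rw [C.Dp_smul_eq hs k1 hD, hD, mem_Stab.1 (mem_Stab_of_le.2 k2)])
    exact ⟨u, ((mem_sgA_U _ _).1 hu).2, e⟩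
  obtain ⟨u, hu, e⟩ := hfixE x hx hD _ (C.tor_mem hh ht) _ ht0 (C.tor_left hh ht0) fun e he => by
    rw [C.tor_apply hh ht0, hE.1 c hcE e he]
    simpa using E.add_mem he (E.smul_mem _ hcE)
  obtain ⟨w, hw, hfix⟩ := C.tor_fix hh ht0 ht2 hu e
  set z := C.s c w • x
  have hz : z ∈ Ω := h.2 _ (C.s_mem c w) x hx
  have hDz : C.Dp c z = E.toAddSubgroup := (C.Dp_s hw x).trans hD
  have key : ∀ y ∈ E, C.Φ.B c' y = 0 → ∀ u ∈ E, C.Φ.B c' u = 0 → C.s y u • z = z := by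
    intro y hy k1 u hu k2
    have k3 : ∀ e ∈ E, (C.s y u).1 e = e := fun e he =>
      sg_apply_of_perp _ _ (hE.1 y hy e he) (hE.1 u hu e he)
    obtain ⟨a, ha, e⟩ := hfixE z hz hDz _ (C.s_mem y u) 1 one_ne_zero (by rw [k3 c hcE, one_smul])
      fun e he => by rwa [k3 e he]
    exact C.tor_unique hh ht0 ht2 (fun u hu t => (C.mem_St_iff_of_eq hDz).2
      (Submodule.smul_mem _ t ((C.mem_St_iff_of_eq hDz).1 hu))) hfix
      (C.tor_comm hh ht0 (hE.1 c hcE y hy) k1 (hE.1 c hcE u hu) k2) ha e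
  obtain ⟨E', hE', e1', e2', hD'⟩ := hT z hz c' hh.right.2 hh.right_ne
  obtain ⟨u0, k1, k2, k3⟩ : ∃ u0 ∈ E, u0 ∈ E' ∧ u0 ≠ 0 := by
    obtain ⟨y, hy, hy0, k1, -⟩ := C.exists_perp_two e1 c' c'
    by_cases hyE : y ∈ E'
    · exact ⟨y, hy, hyE, hy0⟩
    obtain ⟨a, ha, k2⟩ : ∃ a ∈ E', C.Φ.B y a ≠ 0 := by
      by_contra hcon
      push Not at hcon
      exact hyE (C.mem_of_max hE' (by omega) (fun a ha => C.Φ.B_eq_zero_symm (hcon a ha))
        (hE.2 y hy))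
    obtain ⟨u, hu, hu0, k3, k4⟩ := C.exists_perp_two e1 c' a
    refine ⟨u, hu, ?_, hu0⟩
    have k5 := (C.mem_Dp_conj (C.s y u) c' z a).1 (by rw [hD']; exact ha)
    rw [key y hy k1 u hu k3, sg_apply_of_perp _ _ (by rw [C.comm, k1]) (by rw [C.comm, k3]), hD',
      sg_apply _ _ (hE.2 y hy) (hE.1 y hy u hu), C.comm u a, k4, hE.2 u hu] at k5
    have k6 := E'.sub_mem ha k5
    simp only [zero_mul, sub_self, zero_smul, add_zero, sub_sub_cancel] at k6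
    exact (E'.smul_mem_iff k2).1 k6
  obtain ⟨E0, hE0, f1, f2, hD0⟩ := hT z hz u0 (hE.2 u0 k1) k3
  have k4 := C.tt_symm hc hE hDz k1 hE0 (by omega) hD0
  have k5 := C.tt_symm hh.right.2 hE' hD' k2 hE0 (by omega) hD0
  simpa [hh.one] using hE0.1 c k4 c' k5

theorem no_tt {Ω : Set X} (h : C.GInv Ω) (hN : C.Num Ω.ncard)
    (hF : ∀ y ∈ Ω, ∀ c, C.Φ.Q c = 0 → c ≠ 0 → ¬ C.Ft c y) {c : V} (hc : C.Φ.Q c = 0) (h0 : c ≠ 0)
    {x : X} (hx : x ∈ Ω) (hT : C.Tt c x) : False := by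
  have h1 := C.all_tt h hN hF hc h0 hx hT
  obtain ⟨E, hE, e1, e2, -⟩ := hT
  have e3 := C.hΦ.two_mul_finrank_le hE
  rcases (by omega : finrank F V = 7 ∨ finrank F V = 8) with h7 | h8
  · exact C.tt_seven h7 (h1 x hx)
  · exact C.tt_eight h8 h hN h1 hx

end OC

end H22
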