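import Cfsg.Agent.H22.MdI

/-!
Minimal degrees of orthogonal groups: points of line type.
-/

set_option autoImplicit false

namespace H22

open H23 H23.Form Module Pointwise

namespace OC

variable {F V : Type*} [Field F] [AddCommGroup V] [Module F V] [FiniteDimensional F V]
  (C : OC F V) [Fintype F] {X : Type*} [MulAction C.Φ.O X]

/-- line type -/
def Lt (c v : V) (x : X) : Prop :=
  v ∈ C.Dp c x ∧ v ∉ F ∙ c ∧ ∀ w ∈ C.Dp c x, w ∈ Submodule.span F {c, v}

/-- regular type -/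
def Rt (c : V) (x : X) : Prop := ∀ u ∈ C.St c x, u ∈ F ∙ c

/-- non-regular singular vectors -/
def NR (x : X) (c : V) : Prop := C.Φ.Q c = 0 ∧ c ≠ 0 ∧ ¬ C.Rt c x

theorem Lt.mem_St {C : OC F V} [MulAction C.Φ.O X] {c v u : V} {x : X} (h : C.Lt c v x)
    (h1 : C.Φ.B c u = 0) (h2 : C.Φ.B v u = 0) : u ∈ C.St c x :=
  C.mem_St_of_perp fun w hw => mem_perp_pair.2 ⟨h1, h2⟩ w (h.2.2 w hw)

omit [Fintype F] in
theorem NR.smul {C : OC F V} [MulAction C.Φ.O X] {c : V} {x : X} (h : C.NR x c) {t : F}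
    (ht : t ≠ 0) : C.NR x (t • c) := by
  refine ⟨by rw [C.Φ.Q_smul, h.1, mul_zero], smul_ne_zero ht h.2.1, fun h1 => h.2.2 fun u hu => ?_⟩
  have := h1 (t⁻¹ • u) ((C.St_smul_left ht c x _).2 (by rwa [smul_inv_smul₀ ht]))
  rwa [Submodule.span_singleton_smul_eq (IsUnit.mk0 t ht),
    Submodule.smul_mem_iff _ (inv_ne_zero ht)] at this

omit [Fintype F] in
theorem NR.conj {C : OC F V} [MulAction C.Φ.O X] {c : V} {x : X} (h : C.NR x c) {g : C.Φ.O}
    (hg : g • x = x) : C.NR x (g.1 c) := by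
  refine ⟨by rw [O_Q, h.1], by simpa using h.2.1, fun h1 => h.2.2 fun u hu => ?_⟩
  have := (C.mem_St_conj g c x u).1 hu
  rw [hg] at this
  obtain ⟨t, ht⟩ := Submodule.mem_span_singleton.1 (h1 _ this)
  rw [← map_smul] at ht
  exact Submodule.mem_span_singleton.2 ⟨t, g.1.injective ht⟩

theorem nr_of_perp {c v u : V} {x : X} (hc : C.NR x c) (h : C.Lt c v x) (hu : C.Φ.Q u = 0)
    (hu0 : u ≠ 0) (h1 : C.Φ.B c u = 0) (h2 : C.Φ.B v u = 0) : C.NR x u := by
  by_cases h3 : c ∈ F ∙ u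
  · obtain ⟨t, rfl⟩ := Submodule.mem_span_singleton.1 h3
    have ht : t ≠ 0 := by rintro rfl; exact hc.2.1 (zero_smul _ _)
    simpa [ht] using hc.smul (inv_ne_zero ht)
  · refine ⟨hu, hu0, fun h4 => h3 (h4 c ?_)⟩
    simpa using C.St_swap hc.1 hu (fun t => h.mem_St (by simp [h1]) (by simp [h2])) 1

theorem fact_one {c v y v' : V} {x : X} (h : C.Lt c v x) (hy : C.Φ.Q y = 0)
    (h' : C.Lt y v' x) (hcy : C.Φ.B c y = 0) : C.Φ.B v y = 0 := by
  by_contra hcon
  have h1 : C.Φ.perp (Submodule.span F {y, v', c}) ≤ Submodule.span F {c, y} := by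
    intro w hw
    rw [mem_perp_triple] at hw
    obtain ⟨k1, k2⟩ := C.mem_St.1 (h'.mem_St hw.1 hw.2.1)
    have k3 := (C.mem_Dp_conj (C.s y w) c x v).1 h.1
    rw [k2, sg_apply_of_perp _ _ (by rw [C.comm, hcy]) (by rw [C.comm, hw.2.2]),
      sg_apply _ _ hy k1] at k3
    obtain ⟨a, b, e⟩ := Submodule.mem_span_pair.1 (h.2.2 _ k3)
    have e2 := congrArg (C.Φ.B y) e
    simp only [map_add, map_sub, map_smul, C.comm y c, hcy, k1, C.self y, hy, smul_eq_mul,
      mul_zero, zero_add, add_zero, sub_zero] at e2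
    have hb : b = 1 := mul_right_cancel₀ (b := C.Φ.B y v) (by rwa [C.comm]) (by rw [e2, one_mul])
    rw [hb, one_smul] at e
    rw [← Submodule.smul_mem_iff _ (show C.Φ.B y v ≠ 0 by rwa [C.comm])]
    refine Submodule.mem_span_pair.2 ⟨-a, C.Φ.B w v - C.Φ.Q w * C.Φ.B y v, ?_⟩
    linear_combination (norm := module) -e
  have h2 := Submodule.finrank_mono h1
  have h3 := C.hΦ.finrank_perp_add (Submodule.span F {y, v', c})
  have h4 : finrank F (Submodule.span F {y, v', c}) ≤ 3 := finrank_span_triple_le (F := F) y v' c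
  have h5 := finrank_span_pair_le (F := F) c y
  have := C.hV
  omega

omit [Fintype F] in
theorem mem_span_of_sing {U : Submodule F V} {e f a : V} (hh : Hyp C.Φ e f) (he : e ∈ C.Φ.perp U)
    (hf : f ∈ C.Φ.perp U) (h : ∀ y ∈ C.Φ.perp U, C.Φ.Q y = 0 → y ≠ 0 → C.Φ.B a y = 0) : a ∈ U := by
  have := le_of_sing_mem (U := C.Φ.perp (F ∙ a)) hh he hf fun y hy hs =>
    (C.Φ.mem_perp_span_singleton).2 (by
      by_cases h0 : y = 0
      · simp [h0]
      · exact h y hy (C.sing.1 hs) h0)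
  rwa [C.hΦ.perp_le_perp_iff, Submodule.span_singleton_le_iff_mem] at this

theorem no_nr {x : X} (hfin : (gorb C.G x).Finite) (hN : C.Num (gorb C.G x).ncard)
    (hL : ∀ c, C.NR x c → ∃ v, C.Lt c v x) {c0 : V} (h0 : C.NR x c0) : False := by
  have fact : ∀ {c v y : V}, C.Lt c v x → C.NR x y → C.Φ.B c y = 0 → C.Φ.B v y = 0 := by
    intro c v y h hy hcy
    obtain ⟨v', h'⟩ := hL y hy
    exact C.fact_one h hy.1 h' hcy
  by_cases hts : ∀ c, C.NR x c → ∀ z, C.NR x z → C.Φ.B c z = 0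
  · exact C.no_fix_ts hfin hN (E := Submodule.span F {v | C.NR x v})
      (totSing_span hts fun a ha => ha.1)
      ((Submodule.ne_bot_iff _).2 ⟨c0, Submodule.subset_span h0, h0.2.1⟩)
      (C.inv_of_span fun g _ hg v hv => hv.conj hg)
  push Not at hts
  obtain ⟨c, hc, z0, hz0, hB⟩ := hts
  obtain ⟨z, hz, hcz⟩ : ∃ z, C.NR x z ∧ C.Φ.B c z = 1 :=
    ⟨_, hz0.smul (inv_ne_zero hB), by simp [hB]⟩
  have hh : Hyp C.Φ c z := ⟨C.sing.2 hc.1, C.sing.2 hz.1, hcz⟩
  obtain ⟨v, hv⟩ := hL c hc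
  have hcv := C.perp_of_mem_Dp hc.1 hv.1
  set a := v - C.Φ.B v z • c with ha
  have haz : C.Φ.B a z = 0 := by simp [ha, hcz]
  have hac : C.Φ.B a c = 0 := by simp [ha, hh.left.1, C.comm v c, hcv]
  have ha0 : a ≠ 0 := fun h => hv.2.1 (by
    rw [ha, sub_eq_zero] at h
    rw [h]
    exact Submodule.smul_mem _ _ (Submodule.mem_span_singleton_self c))
  have hva : ∀ y, C.Φ.B v y = C.Φ.B a y + C.Φ.B v z * C.Φ.B c y := by intro y; simp [ha]
  have trans : ∀ y, C.NR x y → C.Φ.B c y = 1 → ∀ y', C.Φ.Q y' = 0 → C.Φ.B c y' = 1 →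
      C.Φ.B a y' = C.Φ.B a y → C.NR x y' := by
    intro y hy k1 y' k2 k3 k4
    obtain ⟨k5, k6⟩ := exists_sg_map C.hΦ C.hκ hc.1 hy.1 k2 k1 k3
    rw [← k6]
    exact hy.conj (C.mem_St.1 (hv.mem_St k5 (by rw [hva, k5, map_sub, k4]; ring))).2
  have claimA : ∀ y, C.Φ.Q y = 0 → y ≠ 0 → C.Φ.B a y = 0 → C.NR x y := by
    intro y k1 k2 k3
    by_cases k4 : C.Φ.B c y = 0
    · exact C.nr_of_perp hc hv k1 k2 k4 (by rw [hva, k3, k4]; ring)
    · have := (trans z hz hcz ((C.Φ.B c y)⁻¹ • y) (by rw [C.Φ.Q_smul, k1, mul_zero]) (by simp [k4])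
        (by simp [k3, haz])).smul k4
      rwa [smul_inv_smul₀ k4] at this
  have hca' : c ∈ C.Φ.perp (F ∙ a) := (C.Φ.mem_perp_span_singleton).2 hac
  have hza' : z ∈ C.Φ.perp (F ∙ a) := (C.Φ.mem_perp_span_singleton).2 haz
  by_cases hQ : C.Φ.Q a = 0
  · obtain ⟨v', hv'⟩ := hL a (claimA a hQ ha0 (by rw [C.self, hQ, mul_zero]))
    refine hv'.2.1 (C.mem_span_of_sing hh hca' hza' fun y hy k1 k2 => ?_)
    have k3 := (C.Φ.mem_perp_span_singleton).1 hy
    exact fact hv' (claimA y k1 k2 k3) k3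
  have claimB : ∀ y, C.NR x y → C.Φ.B a y = 0 := by
    intro y hy
    by_cases k4 : C.Φ.B c y = 0
    · have := fact hv hy k4
      rwa [hva, k4, mul_zero, add_zero] at this
    by_contra hcon
    have k1 := hy.smul (inv_ne_zero k4)
    set y' := (C.Φ.B c y)⁻¹ • y
    have k2 : C.Φ.B c y' = 1 := by simp [y', k4]
    have k3 : C.Φ.B a y' ≠ 0 := by simp [y', k4, hcon]
    obtain ⟨e, he, he0, hs⟩ := iso3_quad C.hκ (C.Φ.perp (Submodule.span F {c, z})) (by
      have := hh.finrank_perp C.hΦ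
      have := C.hV
      omega)
    obtain ⟨f, hf, hef⟩ := exists_hyp_mem C.hΦ hs he (by
      rw [C.hΦ.perp_perp]
      exact fun h => he0 (Submodule.disjoint_def.1 hh.disjoint e h he))
    obtain ⟨w, hw, hws, hwa⟩ := exists_sing_B_ne hef he hf (x := a) (by
      rw [C.hΦ.perp_perp, Submodule.mem_span_pair]
      rintro ⟨α, β, e⟩
      have := congrArg (C.Φ.B c) e
      simp only [map_add, map_smul, hh.left.1, hcz, C.comm c a, hac, smul_eq_mul, mul_zero,
        mul_one, zero_add] at this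
      rw [← e, this, zero_smul, add_zero, C.Φ.Q_smul, hc.1, mul_zero] at hQ
      exact hQ rfl)
    rw [mem_perp_pair] at hw
    set z' := z + (C.Φ.B a y' / C.Φ.B w a) • w with hz'
    have k5 : C.Φ.B a z' = C.Φ.B a y' := by simp [hz', haz, C.comm a w, hwa]
    have k6 : C.NR x z' := trans y' k1 k2 z'
      (by simp [hz', C.Qadd, C.Φ.Q_smul, hz.1, hws.2, hw.2]) (by simp [hz', hcz, hw.1]) k5
    have k7 : C.Φ.B z z' = 0 := by simp [hz', hh.right.1, hw.2]
    obtain ⟨vz, hvz⟩ := hL z hz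
    obtain ⟨e1, e2, he12, k8, k9⟩ := C.exists_hyp_perp hz.1 (by rw [C.comm, haz]) hQ
    obtain ⟨α, β, e⟩ := Submodule.mem_span_pair.1 (C.mem_span_of_sing (a := vz) he12 k8 k9
      fun y hy k1 k2 => fact hvz (claimA y k1 k2 (mem_perp_pair.1 hy).2) (mem_perp_pair.1 hy).1)
    have k10 := fact hvz k6 k7
    rw [← e] at k10
    simp only [map_add, LinearMap.add_apply, B_smul_left, k7, k5, RingHom.id_apply, mul_zero,
      zero_add, mul_eq_zero, k3, or_false] at k10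
    exact hvz.2.1 (Submodule.mem_span_singleton.2 ⟨α, by rw [← e, k10, zero_smul, add_zero]⟩)
  refine C.no_fix_point hfin hN ha0 fun g _ hg => C.mem_span_of_sing hh hca' hza' fun y hy k1 k2 => ?_
  rw [O_B_left]
  exact claimB _ ((claimA y k1 k2 ((C.Φ.mem_perp_span_singleton).1 hy)).conj
    (by rw [inv_smul_eq_iff, hg]))

end OC

end H22
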