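import Cfsg.Agent.H22.MdJ

/-!
Minimal degrees of orthogonal groups: the regular case.
-/

set_option autoImplicit false

namespace H22

open H23 H23.Form Module Pointwise

theorem odd_fix {O X : Type*} [Group O] [MulAction O X] {Y : Set X} (hY : Y.Finite) {g : O}
    (hg : ∀ y ∈ Y, g • y ∈ Y) (h4 : g ^ 4 = 1) (hodd : Odd Y.ncard) :
    Odd {y ∈ Y | g • y = y}.ncard := by
  classical
  have := hY.fintype
  let σ : Equiv.Perm Y := presvPerm O Y hY ⟨g, hg⟩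
  have h1 : σ ^ 4 = 1 := by
    rw [← map_pow, show (⟨g, hg⟩ : presv O Y hY) ^ 4 = 1 from Subtype.ext h4, map_one]
  have h2 := Equiv.Perm.card_fixedPoints_modEq (f := (σ : Y → Y)) (p := 2) (n := 2) (by
    funext y
    have := congrArg (fun τ : Equiv.Perm Y => τ y) h1
    exact this)
  have h3 : Fintype.card (Function.fixedPoints (σ : Y → Y)) = {y ∈ Y | g • y = y}.ncard := by
    rw [← Nat.card_coe_set_eq, ← Nat.card_eq_fintype_card]
    exact Nat.card_congr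
      { toFun := fun y => ⟨y.1.1, y.1.2, congrArg Subtype.val y.2⟩
        invFun := fun y => ⟨⟨y.1, y.2.1⟩, Subtype.ext y.2.2⟩
        left_inv := fun _ => rfl
        right_inv := fun _ => rfl }
  rw [h3, ← Nat.card_eq_fintype_card, Nat.card_coe_set_eq] at h2
  rw [Nat.odd_iff] at hodd ⊢
  rw [← hodd]
  exact h2.symm

namespace OC

variable {F V : Type*} [Field F] [AddCommGroup V] [Module F V] [FiniteDimensional F V]
  (C : OC F V) [Fintype F] {X : Type*} [MulAction C.Φ.O X]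

theorem reg_card {c : V} (hc : C.Φ.Q c = 0) (h0 : c ≠ 0) {x : X} (h : C.Rt c x) :
    ((sgA C.hΦ C.hκ c ⊤).orb x).ncard = Fintype.card F ^ (finrank F V - 2) := by
  have h1 := (sgA C.hΦ C.hκ c ⊤).ncard_orb x
  have h2 : (sgA C.hΦ C.hκ c ⊤).st x = (F ∙ c).toAddSubgroup := by
    ext u
    refine ⟨h u, fun hu => ?_⟩
    obtain ⟨t, rfl⟩ := Submodule.mem_span_singleton.1 hu
    exact C.smul_self_mem_St hc x t
  have h3 : Nat.card (F ∙ c).toAddSubgroup = Fintype.card F := by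
    rw [← pow_one (Fintype.card F), ← finrank_span_singleton (K := F) h0]
    exact card_submodule (F ∙ c)
  have h4 := C.finrank_perp_one h0
  have h5 := C.hV
  rw [h2, h3, card_sgA_U, top_inf_eq, show finrank F (C.Φ.perp (F ∙ c)) = finrank F V - 2 + 1 by omega,
    pow_succ] at h1
  exact Nat.eq_of_mul_eq_mul_right Fintype.card_pos h1

theorem reg_eq {Ω : Set X} (h : C.GInv Ω) (hN : C.Num Ω.ncard) {c : V} (hc : C.Φ.Q c = 0)
    (h0 : c ≠ 0) (hR : ∀ x ∈ Ω, C.Rt c x) {x : X} (hx : x ∈ Ω) :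
    (sgA C.hΦ C.hκ c ⊤).orb x = Ω := by
  have hs : ∀ x ∈ Ω, (sgA C.hΦ C.hκ c ⊤).orb x ⊆ Ω := fun x hx =>
    AH.orb_subset _ (C.pInv_s hc (h.pInv c)) hx
  refine (hs x hx).antisymm fun y hy => ?_
  by_contra hcon
  have h1 := Set.ncard_le_ncard (Set.union_subset (hs x hx) (hs y hy)) h.1
  rw [Set.ncard_union_eq (AH.disjoint_orb _ hcon) (h.1.subset (hs x hx)) (h.1.subset (hs y hy)),
    C.reg_card hc h0 (hR x hx), C.reg_card hc h0 (hR y hy)] at h1
  have := hN.h1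
  omega

theorem reg_trans {Ω : Set X} (h : C.GInv Ω) (hN : C.Num Ω.ncard) {c : V} (hc : C.Φ.Q c = 0)
    (h0 : c ≠ 0) (hR : ∀ x ∈ Ω, C.Rt c x) {x y : X} (hx : x ∈ Ω) (hy : y ∈ Ω) :
    ∃ u, C.Φ.B c u = 0 ∧ C.s c u • x = y := by
  rw [← C.reg_eq h hN hc h0 hR hx] at hy
  obtain ⟨u, hu, e⟩ := hy
  exact ⟨u, ((mem_sgA_U _ _).1 hu).2, e⟩

omit [Fintype F] in
theorem exists_perp_notMem {Z S : Submodule F V} (h : finrank F Z + finrank F S < finrank F V) :
    ∃ u ∈ C.Φ.perp Z, u ∉ S := by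
  by_contra hcon
  push Not at hcon
  have := Submodule.finrank_mono (show C.Φ.perp Z ≤ S from hcon)
  have := C.hΦ.finrank_perp_add Z
  omega

theorem reg_four (hq : 4 ≤ Fintype.card F) {Ω : Set X} (h : C.GInv Ω) (hN : C.Num Ω.ncard)
    (hR : ∀ x ∈ Ω, ∀ c, C.Φ.Q c = 0 → c ≠ 0 → C.Rt c x) {x : X} (hx : x ∈ Ω) : False := by
  obtain ⟨c, hc, h0⟩ := C.exists_sing
  obtain ⟨c', hh⟩ := exists_hyp C.hΦ (C.sing.2 hc) h0
  obtain ⟨t, ht, ht2⟩ := exists_sq_ne_one hq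
  have ht0 : t ^ 2 ≠ 0 := pow_ne_zero _ ht
  have hR' := fun x hx => hR x hx c hc h0
  obtain ⟨u, hu, e⟩ := C.reg_trans h hN hc h0 hR' hx (h.2 _ (C.tor_mem hh ht) x hx)
  obtain ⟨w, hw, hfix⟩ := C.tor_fix hh ht0 ht2 hu e
  set z := C.s c w • x
  have hz : z ∈ Ω := h.2 _ (C.s_mem c w) x hx
  have hV := C.hV
  obtain ⟨y, hy, hy0, hs⟩ := iso3_quad C.hκ (C.Φ.perp (Submodule.span F {c, c'})) (by
    have := hh.finrank_perp C.hΦ
    omega)
  obtain ⟨v, hv, hv'⟩ := C.exists_perp_notMem (Z := Submodule.span F {c, c', y}) (S := F ∙ y) (by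
    have h4 : finrank F (Submodule.span F {c, c', y}) ≤ 3 := finrank_span_triple_le (F := F) c c' y
    rw [finrank_span_singleton hy0]
    omega)
  rw [mem_perp_pair] at hy
  rw [mem_perp_triple] at hv
  obtain ⟨a, ha, e⟩ := C.reg_trans h hN hc h0 hR' hz (h.2 _ (C.s_mem y v) z hz)
  refine hv' (hR z hz y (C.sing.1 hs) hy0 v (C.mem_St.2 ⟨hv.2.2, ?_⟩))
  refine C.tor_unique hh ht0 ht2 (fun u hu t => ?_) hfix (C.tor_comm hh ht0 hy.1 hy.2 hv.1 hv.2.1)
    ha e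
  obtain ⟨s, rfl⟩ := Submodule.mem_span_singleton.1 (hR' z hz u hu)
  rw [smul_smul]
  exact C.smul_self_mem_St hc z _

/-- two perpendicular hyperbolic pairs -/
structure H2 (c c' d d' : V) : Prop where
  h1 : Hyp C.Φ c c'
  h2 : Hyp C.Φ d d'
  cd : C.Φ.B c d = 0
  cd' : C.Φ.B c d' = 0
  c'd : C.Φ.B c' d = 0
  c'd' : C.Φ.B c' d' = 0

theorem exists_h2 : ∃ c c' d d', C.H2 c c' d d' := by
  obtain ⟨c, hc, h0⟩ := C.exists_sing
  obtain ⟨c', hh⟩ := exists_hyp C.hΦ (C.sing.2 hc) h0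
  obtain ⟨e, he, he0, hs⟩ := iso3_quad C.hκ (C.Φ.perp (Submodule.span F {c, c'})) (by
    have := hh.finrank_perp C.hΦ
    have := C.hV
    omega)
  obtain ⟨f, hf, hef⟩ := exists_hyp_mem C.hΦ hs he (by
    rw [C.hΦ.perp_perp]
    exact fun h => he0 (Submodule.disjoint_def.1 hh.disjoint e h he))
  rw [mem_perp_pair] at he hf
  exact ⟨c, c', e, f, hh, hef, he.1, hf.1, he.2, hf.2⟩

/-- elements of the unipotent radical of the stabiliser of a line -/
def QE (c d : V) (g : C.Φ.O) (a b : V) : Prop := ∃ t : F, g = C.s c (a + t • d) * C.s d b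

section QE

variable {C} {c d : V} (hc : C.Φ.Q c = 0) (hd : C.Φ.Q d = 0) (hcd : C.Φ.B c d = 0)

omit [Fintype F]

include hc hd hcd

theorem s_mul_s {u b u' b' : V} (hu : C.Φ.B c u = 0) (hu' : C.Φ.B c u' = 0) (h1 : C.Φ.B c b = 0)
    (h2 : C.Φ.B d b = 0) (h3 : C.Φ.B d b' = 0) :
    C.s c u * C.s d b * (C.s c u' * C.s d b') = C.s c (u + (C.s d b).1 u') * C.s d (b + b') := by
  have e1 : (C.s d b).1 c = c := sg_apply_of_perp _ _ (by rw [C.comm, hcd]) (by rw [C.comm, h1])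
  have e2 := conj_sg C.hΦ C.hκ (C.s d b) c u'
  rw [e1] at e2
  rw [s, s, s, s, s, s, sg_add _ _ _ hu (by rw [← e1, O_B, hu']), sg_add _ _ _ h2 h3, ← e2]
  group

theorem QE.mul {g g' : C.Φ.O} {a b a' b' : V} (h : C.QE c d g a b) (h' : C.QE c d g' a' b')
    (k1 : C.Φ.B c a = 0) (k2 : C.Φ.B c b = 0) (k3 : C.Φ.B d b = 0) (k4 : C.Φ.B c a' = 0)
    (k5 : C.Φ.B d a' = 0) (k6 : C.Φ.B d b' = 0) : C.QE c d (g * g') (a + a') (b + b') := by
  obtain ⟨t, rfl⟩ := h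
  obtain ⟨t', rfl⟩ := h'
  refine ⟨t + t' + C.Φ.B b a', ?_⟩
  rw [s_mul_s hc hd hcd (by simp [k1, hcd]) (by simp [k4, hcd]) k2 k3 k6, sg_apply _ _ hd k3]
  congr 2
  simp only [map_add, map_smul, k5, C.comm b d, k3, C.self d, hd, smul_eq_mul]
  module

theorem QE.shift {g : C.Φ.O} {a b e e' : V} (h : C.QE c d g (a + e) (b + e'))
    (k1 : C.Φ.B c a = 0) (k3 : C.Φ.B d b = 0) (he : e ∈ Submodule.span F {c, d})
    (he' : e' ∈ Submodule.span F {c, d}) : C.QE c d g a b := by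
  obtain ⟨t, rfl⟩ := h
  obtain ⟨α, β, rfl⟩ := Submodule.mem_span_pair.1 he
  obtain ⟨γ, δ, rfl⟩ := Submodule.mem_span_pair.1 he'
  have hdc : C.Φ.B d c = 0 := by rw [C.comm, hcd]
  refine ⟨β + t - γ, ?_⟩
  rw [show a + (α • c + β • d) + t • d = a + (β + t) • d + α • c by module,
    C.s_add_smul hc (by simp [k1, hcd]), show b + (γ • c + δ • d) = γ • c + b + δ • d by module,
    C.s_add_smul hd (by simp [k3, hdc]), s, s, sg_add _ _ d (by simp [hdc]) k3,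
    sg_swap _ _ hc hd hcd, ← mul_assoc, ← sg_add _ _ _ (by simp [k1, hcd]) (by simp [hcd])]
  congr 2
  module

theorem QE.pure (α β : F) {a : V} (k1 : C.Φ.B c a = 0) (k2 : C.Φ.B d a = 0) :
    C.QE c d (C.s (α • c + β • d) a) (α • a) (β • a) := by
  have hdc : C.Φ.B d c = 0 := by rw [C.comm, hcd]
  refine ⟨α * β * C.Φ.Q a, O_ext _ fun x => ?_⟩
  change _ = (C.s c _).1 ((C.s d _).1 x)
  rw [sg_apply _ _ (by simp [C.Qadd, C.Φ.Q_smul, hc, hd, hcd]) (by simp [k1, k2]),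
    sg_apply _ _ hc (by simp [k1, hcd]), sg_apply _ _ hd (by simp [k2])]
  simp only [map_add, map_sub, map_smul, LinearMap.add_apply, LinearMap.smul_apply, C.Qadd,
    C.Φ.Q_smul, LinearMap.map_smulₛₗ, RingHom.id_apply, smul_eq_mul, hcd, hdc, k1, k2, C.comm a d,
    C.self a, C.self d, hd]
  module

theorem QE.conj {g k : C.Φ.O} {a b : V} (h : C.QE c d g a b) {α β γ δ : F}
    (h1 : k.1 c = α • c + β • d) (h2 : k.1 d = γ • c + δ • d) (k1 : C.Φ.B c (k.1 a) = 0)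
    (k2 : C.Φ.B d (k.1 a) = 0) (k3 : C.Φ.B c (k.1 b) = 0) (k4 : C.Φ.B d (k.1 b) = 0) :
    C.QE c d (k * g * k⁻¹) (α • k.1 a + γ • k.1 b) (β • k.1 a + δ • k.1 b) := by
  obtain ⟨t, rfl⟩ := h
  have hdc : C.Φ.B d c = 0 := by rw [C.comm, hcd]
  have hcc : C.Φ.B c c = 0 := by rw [C.self, hc, mul_zero]
  have hdd : C.Φ.B d d = 0 := by rw [C.self, hd, mul_zero]
  rw [show k * (C.s c (a + t • d) * C.s d b) * k⁻¹ =
    (k * C.s c (a + t • d) * k⁻¹) * (k * C.s d b * k⁻¹) by group, conj_sg, conj_sg, map_add, map_smul,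
    h1, h2]
  have e1 := QE.pure hc hd hcd α β (a := k.1 a + t • (γ • c + δ • d)) (by simp [k1, hcc, hcd])
    (by simp [k2, hdc, hdd])
  rw [smul_add α (k.1 a), smul_add β (k.1 a)] at e1
  have m : γ • c + δ • d ∈ Submodule.span F {c, d} := Submodule.mem_span_pair.2 ⟨γ, δ, rfl⟩
  exact (e1.shift hc hd hcd (by simp [k1]) (by simp [k2])
    (Submodule.smul_mem _ _ (Submodule.smul_mem _ _ m))
    (Submodule.smul_mem _ _ (Submodule.smul_mem _ _ m))).mul hc hd hcd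
    (QE.pure hc hd hcd γ δ k3 k4) (by simp [k1]) (by simp [k1]) (by simp [k2]) (by simp [k3])
    (by simp [k4]) (by simp [k4])

theorem QE.mem_of_pure {g : C.Φ.O} {α β : F} {a : V} (h : C.QE c d g (α • a) (β • a))
    (k1 : C.Φ.B c a = 0) (k2 : C.Φ.B d a = 0) (hαβ : α ≠ 0 ∨ β ≠ 0) {x : X} (hx : g • x = x)
    (hR : C.Rt (α • c + β • d) x) : a ∈ Submodule.span F {c, d} := by
  obtain ⟨t, rfl⟩ := h
  have hdc : C.Φ.B d c = 0 := by rw [C.comm, hcd]
  have hcc : C.Φ.B c c = 0 := by rw [C.self, hc, mul_zero]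
  have hdd : C.Φ.B d d = 0 := by rw [C.self, hd, mul_zero]
  obtain ⟨t', e⟩ := QE.pure hc hd hcd α β k1 k2
  obtain ⟨f, hf, e2⟩ : ∃ f ∈ Submodule.span F {c, d},
      C.s (α • c + β • d) f = C.s c ((t - t') • d) := by
    have hQ : C.Φ.Q (α • c + β • d) = 0 := by simp [C.Qadd, C.Φ.Q_smul, hc, hd, hcd]
    rcases hαβ with h | h
    · refine ⟨((t - t') / α) • d, Submodule.smul_mem _ _ (Submodule.subset_span (by simp)),
        O_ext _ fun x => ?_⟩
      rw [sg_apply _ _ hQ (by simp [hcd, hdd]), sg_apply _ _ hc (by simp [hcd])]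
      simp only [map_add, LinearMap.add_apply, C.Φ.Q_smul, hd, B_smul_left, RingHom.id_apply]
      match_scalars <;> field_simp <;> ring
    · refine ⟨(-(t - t') / β) • c, Submodule.smul_mem _ _ (Submodule.subset_span (by simp)),
        O_ext _ fun x => ?_⟩
      rw [sg_apply _ _ hQ (by simp [hcc, hdc]), sg_apply _ _ hc (by simp [hcd])]
      simp only [map_add, LinearMap.add_apply, C.Φ.Q_smul, hd, hc, B_smul_left, RingHom.id_apply]
      match_scalars <;> field_simp <;> ring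
  have hf' : C.Φ.B (α • c + β • d) f = 0 := by
    obtain ⟨γ, δ, rfl⟩ := Submodule.mem_span_pair.1 hf
    simp [hcc, hcd, hdc, hdd]
  have ha' : C.Φ.B (α • c + β • d) a = 0 := by simp [k1, k2]
  have e3 : f + a ∈ C.St (α • c + β • d) x := by
    refine C.mem_St.2 ⟨by rw [map_add, hf', ha', add_zero], ?_⟩
    rw [s, sg_add _ _ _ hf' ha']
    change (C.s _ f * C.s _ a) • x = x
    rw [e2, e, ← mul_assoc, s, s, ← sg_add _ _ _ (by simp [hcd]) (by simp [k1, hcd]),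
      show (t - t') • d + (α • a + t' • d) = α • a + t • d by module]
    exact hx
  obtain ⟨s, hs⟩ := Submodule.mem_span_singleton.1 (hR _ e3)
  have : a = s • (α • c + β • d) - f := by rw [hs]; abel
  rw [this]
  exact Submodule.sub_mem _ (Submodule.smul_mem _ _ (Submodule.mem_span_pair.2 ⟨α, β, rfl⟩)) hf

theorem add_rel {x : X} {u b u' b' : V} (hu : C.Φ.B c u = 0) (hu' : C.Φ.B c u' = 0)
    (h1 : C.Φ.B c b = 0) (h2 : C.Φ.B d b = 0) (h3 : C.Φ.B d b' = 0)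
    (hx : (C.s c u * C.s d b) • x = x) (hx' : (C.s c u' * C.s d b') • x = x) :
    ∃ w, C.Φ.B c w = 0 ∧ C.Φ.B d w = C.Φ.B d u + C.Φ.B d u' ∧ (C.s c w * C.s d (b + b')) • x = x := by
  refine ⟨u + (C.s d b).1 u', ?_, ?_, ?_⟩
  · rw [sg_apply _ _ hd h2]; simp [hu, hu', hcd, h1]
  · rw [sg_apply _ _ hd h2]; simp [h2, C.self d, hd]
  · rw [← s_mul_s hc hd hcd hu hu' h1 h2 h3, mul_smul, hx', hx]

end QE

/-- the element of `SL(ℓ)` with a given matrix -/
def SLm (c c' d d' : V) (g : C.Φ.O) (α β γ δ : F) : Prop := ∀ x, g.1 x =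
  x + ((α - 1) * C.Φ.B c' x + γ * C.Φ.B d' x) • c + (β * C.Φ.B c' x + (δ - 1) * C.Φ.B d' x) • d +
    ((δ - 1) * C.Φ.B c x - β * C.Φ.B d x) • c' + (-γ * C.Φ.B c x + (α - 1) * C.Φ.B d x) • d'

section SL

variable {C} {c c' d d' : V} (H : C.H2 c c' d d')

omit [Fintype F] [FiniteDimensional F V]

include H in
theorem SLm.mul {g g' : C.Φ.O} {α β γ δ α' β' γ' δ' : F} (h : C.SLm c c' d d' g α β γ δ)
    (h' : C.SLm c c' d d' g' α' β' γ' δ') :
    C.SLm c c' d d' (g * g') (α' * α + β' * γ) (α' * β + β' * δ) (γ' * α + δ' * γ)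
      (γ' * β + δ' * δ) := by
  intro x
  change g.1 (g'.1 x) = _
  rw [h, h']
  simp only [map_add, map_smul, smul_eq_mul, H.h1.left.1, H.h1.right.1, H.h1.one, H.h2.left.1,
    H.h2.right.1, H.h2.one, H.cd, H.cd', H.c'd, H.c'd', C.comm c' c, C.comm d' d, C.comm d c,
    C.comm d' c, C.comm d c', C.comm d' c']
  module

theorem SLm.eq {g g' : C.Φ.O} {α β γ δ α' β' γ' δ' : F} (h : C.SLm c c' d d' g α β γ δ)
    (h' : C.SLm c c' d d' g' α' β' γ' δ') (e1 : α = α') (e2 : β = β') (e3 : γ = γ') (e4 : δ = δ') :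
    g = g' := by
  subst e1 e2 e3 e4
  exact O_ext _ fun x => (h x).trans (h' x).symm

theorem SLm.congr {g : C.Φ.O} {α β γ δ α' β' γ' δ' : F} (h : C.SLm c c' d d' g α β γ δ)
    (e1 : α = α') (e2 : β = β') (e3 : γ = γ') (e4 : δ = δ') : C.SLm c c' d d' g α' β' γ' δ' := by
  subst e1 e2 e3 e4
  exact h

theorem slm_one : C.SLm c c' d d' 1 1 0 0 1 := fun x => by simp

include H in
theorem SLm.left {g : C.Φ.O} {α β γ δ : F} (h : C.SLm c c' d d' g α β γ δ) :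
    g.1 c = α • c + β • d := by
  rw [h]
  simp only [H.h1.left.1, H.h1.one, H.cd, H.cd', C.comm c' c, C.comm d c, C.comm d' c]
  module

include H in
theorem SLm.right {g : C.Φ.O} {α β γ δ : F} (h : C.SLm c c' d d' g α β γ δ) :
    g.1 d = γ • c + δ • d := by
  rw [h]
  simp only [H.h2.left.1, H.h2.one, H.cd, H.c'd, C.comm d' d]
  module

theorem SLm.perp {g : C.Φ.O} {α β γ δ : F} (h : C.SLm c c' d d' g α β γ δ) {x : V}
    (h1 : C.Φ.B c x = 0) (h2 : C.Φ.B c' x = 0) (h3 : C.Φ.B d x = 0) (h4 : C.Φ.B d' x = 0) :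
    g.1 x = x := by
  rw [h]; simp [h1, h2, h3, h4]

variable [FiniteDimensional F V]

include H in
theorem slm_X (t : F) : C.SLm c c' d d' (C.s c (t • d')) 1 0 t 1 := fun x => by
  rw [sg_apply _ _ H.h1.left.2 (by simp [H.cd'])]
  simp only [B_smul_left, C.Φ.Q_smul, H.h2.right.2, RingHom.id_apply]
  module

include H in
theorem slm_Y (t : F) : C.SLm c c' d d' (C.s d (t • c')) 1 t 0 1 := fun x => by
  rw [sg_apply _ _ H.h2.left.2 (by simp [C.comm d c', H.c'd])]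
  simp only [B_smul_left, C.Φ.Q_smul, H.h1.right.2, RingHom.id_apply]
  module

include H in
theorem H2.notMem {α β : F} (h : α ≠ 0 ∨ β ≠ 0) : α • c + β • d ≠ 0 := by
  intro e
  have e1 := congrArg (C.Φ.B c') e
  have e2 := congrArg (C.Φ.B d') e
  simp [C.comm c' c, H.h1.one, H.c'd, C.comm d' c, H.cd', C.comm d' d, H.h2.one] at e1 e2
  exact h.elim (fun h => h e1) fun h => h e2

end SL

theorem exists_rel {Ω : Set X} (h : C.GInv Ω) (hN : C.Num Ω.ncard) {c : V} (hc : C.Φ.Q c = 0)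
    (h0 : c ≠ 0) (hR : ∀ x ∈ Ω, C.Rt c x) {x : X} (hx : x ∈ Ω) {g : C.Φ.O} (hg : g ∈ C.G) :
    ∃ u, C.Φ.B c u = 0 ∧ (C.s c u * g) • x = x := by
  obtain ⟨u, hu, e⟩ := C.reg_trans h hN hc h0 hR (h.2 g hg x hx) hx
  exact ⟨u, hu, by rw [mul_smul, e]⟩

theorem reg_three (hq : Fintype.card F = 3) {Ω : Set X} (h : C.GInv Ω) (hN : C.Num Ω.ncard)
    (hR : ∀ x ∈ Ω, ∀ c, C.Φ.Q c = 0 → c ≠ 0 → C.Rt c x) {x0 : X} (hx0 : x0 ∈ Ω) : False := by
  obtain ⟨c, c', d, d', H⟩ := C.exists_h2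
  have hc := H.h1.left.2
  have hd := H.h2.left.2
  have h0 := H.h1.left_ne
  have hcd := H.cd
  have hdc : C.Φ.B d c = 0 := by rw [C.comm, hcd]
  have hR' := fun x hx => hR x hx c hc h0
  have h3 := three_eq_zero_card_three hq
  have h2 := two_ne_zero_card_three hq
  set i := C.s c ((-1 : F) • d') * (C.s d ((1 : F) • c') * C.s c ((-1 : F) • d'))
  have hi : C.SLm c c' d d' i 0 1 (-1) 0 :=
    ((slm_X H (-1)).mul H ((slm_Y H 1).mul H (slm_X H (-1)))).congr (by ring) (by ring) (by ring)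
      (by ring)
  set j := C.s c ((1 : F) • d') * (i * C.s c ((-1 : F) • d'))
  have hj : C.SLm c c' d d' j 1 1 1 (-1) :=
    ((slm_X H 1).mul H (hi.mul H (slm_X H (-1)))).congr (by ring) (by ring)
      (by linear_combination -h3) (by ring)
  have hiG : i ∈ C.G := mul_mem (C.s_mem _ _) (mul_mem (C.s_mem _ _) (C.s_mem _ _))
  have hjG : j ∈ C.G := mul_mem (C.s_mem _ _) (mul_mem hiG (C.s_mem _ _))
  have i4 : i ^ 4 = 1 := by
    rw [show i ^ 4 = i * (i * (i * i)) by simp [pow_succ, mul_assoc]]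
    exact (hi.mul H (hi.mul H (hi.mul H hi))).eq slm_one (by ring) (by ring) (by ring) (by ring)
  have j4 : j ^ 4 = 1 := by
    rw [show j ^ 4 = j * (j * (j * j)) by simp [pow_succ, mul_assoc]]
    exact (hj.mul H (hj.mul H (hj.mul H hj))).eq slm_one (by linear_combination h3) (by ring)
      (by ring) (by linear_combination h3)
  have ij : i * (j * i) = j := (hi.mul H (hj.mul H hi)).eq hj (by ring) (by ring) (by ring) (by ring)
  have o1 : Odd Ω.ncard := by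
    rw [← C.reg_eq h hN hc h0 hR' hx0, C.reg_card hc h0 (hR' x0 hx0), hq]
    exact Odd.pow (by decide)
  have o2 := odd_fix h.1 (h.2 i hiG) i4 o1
  have o3 := odd_fix (h.1.subset (Set.sep_subset _ _)) (g := j) (by
    rintro y ⟨hy, e⟩
    refine ⟨h.2 j hjG y hy, ?_⟩
    conv_lhs => rw [← e]
    rw [← mul_smul, ← mul_smul, mul_assoc, ij]) j4 o2
  obtain ⟨x, ⟨hx, hix⟩, hjx⟩ := Set.nonempty_of_ncard_ne_zero o3.pos.ne'
  have hV := C.hV
  obtain ⟨a, b, k1, k2, k3, k4, k5, k6⟩ : ∃ a b, C.Φ.B c a = 0 ∧ C.Φ.B d a = 0 ∧ C.Φ.B c b = 0 ∧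
      C.Φ.B d b = 0 ∧ b ∉ Submodule.span F {c, d} ∧ (C.s c a * C.s d b) • x = x := by
    have l2 := finrank_span_pair_le (F := F) c d
    obtain ⟨b2, m1, m2⟩ := C.exists_perp_notMem (Z := Submodule.span F {c, d})
      (S := Submodule.span F {c, d}) (by omega)
    obtain ⟨b1, m3, m4⟩ := C.exists_perp_notMem (Z := Submodule.span F {c, d})
      (S := Submodule.span F {b2, c, d}) (by
        have : finrank F (Submodule.span F {b2, c, d}) ≤ 3 := finrank_span_triple_le (F := F) b2 c d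
        omega)
    rw [mem_perp_pair] at m1 m3
    have m5 : ∀ t : F, b1 + t • b2 ∉ Submodule.span F {c, d} := fun t ht =>
      m4 (Submodule.mem_span_insert.2 ⟨-t, _, ht, by module⟩)
    obtain ⟨u1, p1, p2⟩ := C.exists_rel h hN hc h0 hR' hx (C.s_mem d b1)
    obtain ⟨u2, p3, p4⟩ := C.exists_rel h hN hc h0 hR' hx (C.s_mem d b2)
    obtain ⟨u3, p5, p6, p7⟩ := add_rel hc hd hcd p1 p3 m3.1 m3.2 m1.2 p2 p4
    obtain ⟨u4, p8, p9, p10⟩ := add_rel hc hd hcd p5 p3 (by simp [m1.1, m3.1])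
      (by simp [m1.2, m3.2]) m1.2 p7 p4
    by_cases q1 : C.Φ.B d u1 = 0
    · exact ⟨u1, b1, p1, q1, m3.1, m3.2, by simpa using m5 0, p2⟩
    by_cases q2 : C.Φ.B d u2 = 0
    · exact ⟨u2, b2, p3, q2, m1.1, m1.2, m2, p4⟩
    by_cases q3 : C.Φ.B d u3 = 0
    · exact ⟨u3, _, p5, q3, by simp [m1.1, m3.1], by simp [m1.2, m3.2], by simpa using m5 1, p7⟩
    refine ⟨u4, _, p8, ?_, by simp [m1.1, m3.1], by simp [m1.2, m3.2], ?_, p10⟩
    · have s1 := sq_eq_one_card_three hq q1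
      have s2 := sq_eq_one_card_three hq q2
      rw [p6] at q3
      rw [p9, p6]
      apply mul_right_cancel₀ q3
      linear_combination s1 + 2 * s2 + (C.Φ.B d u1 * C.Φ.B d u2 + 1) * h3
    · have := m5 2
      rwa [two_smul, ← add_assoc] at this
  set a0 := a - (C.Φ.B c' a • c + C.Φ.B d' a • d) with ha0
  set b0 := b - (C.Φ.B c' b • c + C.Φ.B d' b • d) with hb0
  have hW : ∀ a, C.Φ.B c a = 0 → C.Φ.B d a = 0 →
      C.Φ.B c (a - (C.Φ.B c' a • c + C.Φ.B d' a • d)) = 0 ∧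
      C.Φ.B c' (a - (C.Φ.B c' a • c + C.Φ.B d' a • d)) = 0 ∧
      C.Φ.B d (a - (C.Φ.B c' a • c + C.Φ.B d' a • d)) = 0 ∧
      C.Φ.B d' (a - (C.Φ.B c' a • c + C.Φ.B d' a • d)) = 0 := by
    intro a e1 e2
    simp [e1, e2, H.h1.left.1, hcd, C.comm c' c, H.h1.one, H.c'd, hdc, H.h2.left.1, C.comm d' c,
      H.cd', C.comm d' d, H.h2.one]
  obtain ⟨a1, a2, a3, a4⟩ := hW a k1 k2
  obtain ⟨b1, b2, b3, b4⟩ := hW b k3 k4
  rw [← ha0] at a1 a2 a3 a4
  rw [← hb0] at b1 b2 b3 b4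
  set g := C.s c a * C.s d b
  have g0 : C.QE c d g a0 b0 := QE.shift hc hd hcd (e := C.Φ.B c' a • c + C.Φ.B d' a • d)
    (e' := C.Φ.B c' b • c + C.Φ.B d' b • d) ⟨0, by simp [g, ha0, hb0]⟩ a1 b3
    (Submodule.mem_span_pair.2 ⟨_, _, rfl⟩) (Submodule.mem_span_pair.2 ⟨_, _, rfl⟩)
  have g1 := g0.conj hc hd hcd (hi.left H) (hi.right H) (by rw [hi.perp a1 a2 a3 a4, a1])
    (by rw [hi.perp a1 a2 a3 a4, a3]) (by rw [hi.perp b1 b2 b3 b4, b1])
    (by rw [hi.perp b1 b2 b3 b4, b3])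
  have g2 := g0.conj hc hd hcd (hj.left H) (hj.right H) (by rw [hj.perp a1 a2 a3 a4, a1])
    (by rw [hj.perp a1 a2 a3 a4, a3]) (by rw [hj.perp b1 b2 b3 b4, b1])
    (by rw [hj.perp b1 b2 b3 b4, b3])
  rw [hi.perp a1 a2 a3 a4, hi.perp b1 b2 b3 b4] at g1
  rw [hj.perp a1 a2 a3 a4, hj.perp b1 b2 b3 b4] at g2
  have g3 := g0.mul hc hd hcd (g1.mul hc hd hcd g2 (by simp [b1]) (by simp [a1]) (by simp [a3])
    (by simp [a1, b1]) (by simp [a3, b3]) (by simp [a3, b3])) a1 b1 b3 (by simp [a1, b1])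
    (by simp [a3, b3]) (by simp [a3, b3])
  have fx : ∀ k : C.Φ.O, k • x = x → (k * g * k⁻¹) • x = x := fun k hk => by
    rw [mul_smul, mul_smul, inv_smul_eq_iff.2 hk.symm, k6, hk]
  rw [show a0 + ((0 : F) • a0 + (-1 : F) • b0 + ((1 : F) • a0 + (1 : F) • b0)) = (2 : F) • a0 by module,
    show b0 + ((1 : F) • a0 + (0 : F) • b0 + ((1 : F) • a0 + (-1 : F) • b0)) = (2 : F) • a0 by module]
    at g3
  have m1 := g3.mem_of_pure hc hd hcd a1 a3 (Or.inl h2)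
    (by rw [mul_smul g, mul_smul (i * g * i⁻¹), fx j hjx, fx i hix, k6])
    (hR x hx _ (by simp [C.Qadd, C.Φ.Q_smul, hc, hd, hcd]) (H.notMem (Or.inl h2)))
  have g4 : C.QE c d g ((0 : F) • b0) ((1 : F) • b0) := QE.shift hc hd hcd (e := a0) (e' := 0)
    (by simpa using g0) (by simp) (by simp [b3]) m1 (zero_mem _)
  have m2 := g4.mem_of_pure hc hd hcd b1 b3 (Or.inr one_ne_zero) k6
    (hR x hx _ (by simp [hd]) (H.notMem (Or.inr one_ne_zero)))
  apply k5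
  simpa [hb0] using Submodule.add_mem _ m2
    (Submodule.mem_span_pair.2 ⟨C.Φ.B c' b, C.Φ.B d' b, rfl⟩)

theorem exists_aniso (hq : Fintype.card F = 2) {ω : ℕ} (hN : C.Num ω) {c c' d d' : V}
    (H : C.H2 c c' d d') : ∃ b1 b2, C.Φ.B c b1 = 0 ∧ C.Φ.B d b1 = 0 ∧ C.Φ.B c b2 = 0 ∧
      C.Φ.B d b2 = 0 ∧ C.Φ.Q b1 = 1 ∧ C.Φ.Q b2 = 1 ∧ C.Φ.B b1 b2 = 1 := by
  have hV := C.hV
  have h2 := two_eq_zero_card_two hq
  have l2 := finrank_span_pair_le (F := F) c d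
  have hdc : C.Φ.B d c = 0 := by rw [C.comm, H.cd]
  obtain ⟨b1, m1, m2⟩ := exists_Q_ne_zero_of_finrank C.hκ C.hΦ (Z := Submodule.span F {c, d}) (by
    have : finrank F (Submodule.span F {c, d} ⊓ C.Φ.perp (Submodule.span F {c, d}) :
      Submodule F V) ≤ finrank F (Submodule.span F {c, d}) := Submodule.finrank_mono inf_le_left
    omega)
  rw [mem_perp_pair] at m1
  have m3 := (eq_zero_or_one_card_two hq _).resolve_left m2
  have hts : ∀ v ∈ Submodule.span F {c, d}, C.Φ.Q v = 0 := by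
    intro v hv
    obtain ⟨α, β, rfl⟩ := Submodule.mem_span_pair.1 hv
    simp [C.Qadd, C.Φ.Q_smul, H.h1.left.2, H.h2.left.2, H.cd]
  obtain ⟨e, k1, k2⟩ := C.hΦ.exists_perp_eq_one (W := Submodule.span F {c, d}) (x := b1)
    fun h => m2 (hts _ h)
  have k3 : C.Φ.B c e = 0 := C.Φ.B_eq_zero_symm (k1 c (Submodule.subset_span (by simp)))
  have k4 : C.Φ.B d e = 0 := C.Φ.B_eq_zero_symm (k1 d (Submodule.subset_span (by simp)))
  rw [C.comm] at k2
  rcases eq_zero_or_one_card_two hq (C.Φ.Q e) with k5 | k5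
  swap
  · exact ⟨b1, e, m1.1, m1.2, k3, k4, m3, k5, k2⟩
  have h6 : finrank F V ≠ 6 := by
    intro h6
    obtain ⟨E, hE, e3⟩ := C.le_finrank_of_totSing_triple (b := d) (d := e) H.h1.left_ne (by
        intro h
        obtain ⟨t, ht⟩ := Submodule.mem_span_singleton.1 h
        have := congrArg (C.Φ.B d') ht
        simp [C.comm d' c, H.cd', C.comm d' d, H.h2.one] at this) (by
        rw [Submodule.mem_span_pair]
        rintro ⟨α, β, rfl⟩
        simp [C.comm b1 c, C.comm b1 d, m1.1, m1.2] at k2)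
      H.h1.left.2 H.h2.left.2 k5 H.cd k3 k4
    have := hN.w6 h6 E hE
    omega
  have h7 : finrank F V ≠ 7 := fun h7 => (hN.w7 h7).2 hq
  obtain ⟨f, n1, n2⟩ := exists_Q_ne_zero_of_finrank C.hκ C.hΦ
    (Z := Submodule.span F {c, d, b1, e}) (by
      have l4 := finrank_span_four_le (F := F) c d b1 e
      have : (Submodule.span F {c, d, b1, e} ⊓ C.Φ.perp (Submodule.span F {c, d, b1, e}) :
        Submodule F V) < Submodule.span F {c, d, b1, e} := lt_of_le_of_ne inf_le_left fun h => by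
          have := (h.ge (Submodule.subset_span (by simp) : e ∈ Submodule.span F {c, d, b1, e})).2
          rw [SetLike.mem_coe, mem_perp_four, k2] at this
          exact one_ne_zero this.2.2.1
      have := Submodule.finrank_lt_finrank_of_lt this
      omega)
  rw [mem_perp_four] at n1
  refine ⟨b1, e + f, m1.1, m1.2, by simp [k3, n1.1], by simp [k4, n1.2.1], m3, ?_,
    by simp [k2, n1.2.2.1]⟩
  rw [C.Qadd, k5, n1.2.2.2, (eq_zero_or_one_card_two hq _).resolve_left n2]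
  ring

theorem reg_two (hq : Fintype.card F = 2) {Ω : Set X} (h : C.GInv Ω) (hN : C.Num Ω.ncard)
    (hR : ∀ x ∈ Ω, ∀ c, C.Φ.Q c = 0 → c ≠ 0 → C.Rt c x) {x : X} (hx : x ∈ Ω) : False := by
  obtain ⟨c, c', d, d', H⟩ := C.exists_h2
  have hc := H.h1.left.2
  have hd := H.h2.left.2
  have h0 := H.h1.left_ne
  have hcd := H.cd
  have hdc : C.Φ.B d c = 0 := by rw [C.comm, hcd]
  have hR' := fun x hx => hR x hx c hc h0
  have h2 := two_eq_zero_card_two hq
  have h2V : ∀ z : V, z + z = 0 := fun z => by rw [← two_smul F, h2, zero_smul]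
  have hself : ∀ z, C.Φ.B z z = 0 := fun z => by rw [C.self, h2, zero_mul]
  obtain ⟨a, b, k1, k2, k3, k4, k5, k6⟩ : ∃ a b, C.Φ.B c a = 0 ∧ C.Φ.B d a = 0 ∧ C.Φ.B c b = 0 ∧
      C.Φ.B d b = 0 ∧ C.Φ.Q b = 1 ∧ (C.s c a * C.s d b) • x = x := by
    obtain ⟨b1, b2, m1, m2, m3, m4, m5, m6, m7⟩ := C.exists_aniso hq hN H
    obtain ⟨u1, p1, p2⟩ := C.exists_rel h hN hc h0 hR' hx (C.s_mem d b1)
    obtain ⟨u2, p3, p4⟩ := C.exists_rel h hN hc h0 hR' hx (C.s_mem d b2)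
    obtain ⟨u3, p5, p6, p7⟩ := add_rel hc hd hcd p1 p3 m1 m2 m4 p2 p4
    rcases eq_zero_or_one_card_two hq (C.Φ.B d u1) with q1 | q1
    · exact ⟨u1, b1, p1, q1, m1, m2, m5, p2⟩
    rcases eq_zero_or_one_card_two hq (C.Φ.B d u2) with q2 | q2
    · exact ⟨u2, b2, p3, q2, m3, m4, m6, p4⟩
    exact ⟨u3, _, p5, by rw [p6, q1, q2]; linear_combination h2, by simp [m1, m3], by simp [m2, m4],
      by rw [C.Qadd, m5, m6, m7]; linear_combination h2, p7⟩
  set g := C.s c a * C.s d b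
  have g0 : C.QE c d g a b := ⟨0, by simp [g]⟩
  have hba : C.Φ.B b a = 0 := by
    have e : (g * g) • x = x := by rw [mul_smul, k6, k6]
    rw [s_mul_s hc hd hcd k1 k1 k3 k4 k4, h2V, show C.s d 0 = 1 by rw [← zero_smul F d]; exact sg_self _ _ _ _, mul_one,
      sg_apply _ _ hd k4, k2, mul_zero, sub_zero, zero_smul, sub_zero, ← add_assoc, h2V,
      zero_add] at e
    obtain ⟨t, ht⟩ := Submodule.mem_span_singleton.1 (hR' x hx _ (C.mem_St.2 ⟨by simp [hcd], e⟩))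
    have := congrArg (C.Φ.B d') ht
    simpa [C.comm d' c, H.cd', C.comm d' d, H.h2.one] using this.symm
  have hRt : ∀ α β : F, α ≠ 0 ∨ β ≠ 0 → C.Rt (α • c + β • d) x := fun α β hαβ =>
    hR x hx _ (by simp [C.Qadd, C.Φ.Q_smul, hc, hd, hcd]) (H.notMem hαβ)
  by_cases hab : a ∈ Submodule.span F {b, c, d}
  · obtain ⟨γ, e, he, rfl⟩ := Submodule.mem_span_insert.1 hab
    have g4 : C.QE c d g (γ • b) ((1 : F) • b) := QE.shift hc hd hcd (e := e) (e' := 0)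
      (by simpa using g0) (by simp [k3]) (by simp [k4]) he (zero_mem _)
    obtain ⟨α, β, rfl⟩ := Submodule.mem_span_pair.1 (g4.mem_of_pure hc hd hcd k3 k4
      (Or.inr one_ne_zero) k6 (hRt _ _ (Or.inr one_ne_zero)))
    simp [C.Qadd, C.Φ.Q_smul, hc, hd, hcd] at k5
  obtain ⟨e, m1, m2⟩ := C.hΦ.exists_perp_eq_one hab
  have m3 : e ∈ C.Φ.perp (Submodule.span F {b, c, d}) := fun z hz => C.Φ.B_eq_zero_symm (m1 z hz)
  rw [mem_perp_triple] at m3
  obtain ⟨u, n1, n2, n3, n4, n5⟩ : ∃ u, C.Φ.B u b = 0 ∧ C.Φ.B u c = 0 ∧ C.Φ.B u d = 0 ∧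
      C.Φ.B u a = 1 ∧ C.Φ.Q u = 1 := by
    rcases eq_zero_or_one_card_two hq (C.Φ.Q e) with q | q
    · exact ⟨e + b, by simp [C.comm e b, m3.1, hself], by simp [C.comm e c, m3.2.1, C.comm b c, k3],
        by simp [C.comm e d, m3.2.2, C.comm b d, k4], by simp [m2, hba],
        by rw [C.Qadd, q, k5, C.comm e b, m3.1]; ring⟩
    · exact ⟨e, by rw [C.comm, m3.1], by rw [C.comm, m3.2.1], by rw [C.comm, m3.2.2], m2, q⟩
  let r := refl C.hκ u * refl C.hκ b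
  have hr : r ∈ C.G := refl_mul_refl_mem_commutator C.hΦ C.hκ (t := 1) (by simp [n5])
    (by rw [n5, k5]; ring)
  have hrx : ∀ z, C.Φ.B b z = 0 → r.1 z = z - C.Φ.B u z • u := fun z hz => by
    change (refl C.hκ u).1 ((refl C.hκ b).1 z) = _
    rw [refl_apply_of_perp C.hκ hz, refl_apply, n5, inv_one, one_mul]
  obtain ⟨w, p1, p2⟩ := C.exists_rel h hN hc h0 hR' hx hr
  have hk : ∀ z, C.Φ.B c z = 0 → C.Φ.B b z = 0 →
      (C.s c w * r).1 z = z - C.Φ.B u z • u + C.Φ.B w (z - C.Φ.B u z • u) • c := fun z h1 h3 => by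
    change (C.s c w).1 (r.1 z) = _
    rw [hrx z h3, sg_apply _ _ hc p1]
    simp [h1, C.comm c u, n2]
  have e1 := hk c (hself c) (by rw [C.comm, k3])
  have e2 := hk d hcd (by rw [C.comm, k4])
  have e3 := hk a k1 hba
  have e4 := hk b k3 (hself b)
  rw [n2, zero_smul, sub_zero, C.comm w c, p1] at e1
  rw [n3, zero_smul, sub_zero] at e2
  rw [n4, one_smul] at e3
  rw [n1, zero_smul, sub_zero] at e4
  have g1 := g0.conj hc hd hcd (k := C.s c w * r) (α := 1) (β := 0) (γ := C.Φ.B w d) (δ := 1)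
    (by rw [e1]; module) (by rw [e2]; module) (by rw [e3]; simp [k1, C.comm c u, n2, hself])
    (by rw [e3]; simp [k2, C.comm d u, n3, hdc]) (by rw [e4]; simp [k3, hself])
    (by rw [e4]; simp [k4, hdc])
  rw [e3, e4] at g1
  have g2 := g0.mul hc hd hcd g1 k1 k3 k4 (by simp [k1, k3, C.comm c u, n2, hself])
    (by simp [k2, k4, C.comm d u, n3, hdc]) (by simp [k4, hdc])
  have g3 : C.QE c d (g * (C.s c w * r * g * (C.s c w * r)⁻¹)) ((1 : F) • (C.Φ.B w d • b - u))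
      ((0 : F) • (C.Φ.B w d • b - u)) := by
    refine QE.shift hc hd hcd (e := (C.Φ.B w (a - u) + C.Φ.B w d * C.Φ.B w b) • c)
      (e' := C.Φ.B w b • c) ?_ (by simp [k3, C.comm c u, n2]) (by simp)
      (Submodule.smul_mem _ _ (Submodule.subset_span (by simp)))
      (Submodule.smul_mem _ _ (Submodule.subset_span (by simp)))
    convert g2 using 1
    · linear_combination (norm := module) -h2V a
    · linear_combination (norm := module) -h2V b
  obtain ⟨α, β, e⟩ := Submodule.mem_span_pair.1 (g3.mem_of_pure hc hd hcd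
    (by simp [k3, C.comm c u, n2]) (by simp [k4, C.comm d u, n3]) (Or.inl one_ne_zero)
    (by rw [mul_smul g, mul_smul (_ * g), mul_smul _ g, inv_smul_eq_iff.2 p2.symm, k6, p2, k6])
    (hRt _ _ (Or.inl one_ne_zero)))
  have := congrArg (fun z => C.Φ.B z a) e
  simp [k1, k2, hba, n4] at this

/-- the main theorem -/
theorem fix_of_num {x : X} (hfin : (gorb C.G x).Finite) (hN : C.Num (gorb C.G x).ncard)
    {g : C.Φ.O} (hg : g ∈ C.G) : g • x = x := by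
  by_contra hcon
  have hG := C.gorb_gInv hfin
  have hF : ∀ y ∈ gorb C.G x, ∀ c, C.Φ.Q c = 0 → c ≠ 0 → ¬ C.Ft c y := by
    intro y hy c hc h0 h
    have e := gorb_eq_of_mem hy
    have key := fun k hk => C.fix_of_exists_ft (e ▸ hfin) (e ▸ hN) hc h0 h (g := k) hk
    obtain ⟨k, hk, rfl⟩ := hy
    have := key (k * g * k⁻¹) (mul_mem (mul_mem hk hg) (inv_mem hk))
    rw [mul_smul, inv_smul_smul, mul_smul, smul_left_cancel_iff] at this
    exact hcon this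
  have hR : ∀ y ∈ gorb C.G x, ∀ c, C.Φ.Q c = 0 → c ≠ 0 → C.Rt c y := by
    intro y hy c hc h0
    by_contra h1
    have e := gorb_eq_of_mem hy
    refine C.no_nr (e ▸ hfin) (e ▸ hN) (fun d hd => ?_) ⟨hc, h0, h1⟩
    rcases C.classify hd.1 hd.2.1 (hG.pInv d) hN hy with h2 | ⟨v, h2⟩ | h2 | h2
    · exact absurd (C.ft_of_Dp h2) (hF y hy d hd.1 hd.2.1)
    · exact ⟨v, h2⟩
    · exact absurd (fun u hu => C.mem_span_of_reg h2 hu) hd.2.2
    · exact (C.no_tt hG hN hF hd.1 hd.2.1 hy h2).elim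
  have hq : 1 < Fintype.card F := Fintype.one_lt_card
  by_cases h2 : Fintype.card F = 2
  · exact C.reg_two h2 hG hN hR (self_mem_gorb x)
  by_cases h3 : Fintype.card F = 3
  · exact C.reg_three h3 hG hN hR (self_mem_gorb x)
  exact C.reg_four (by omega) hG hN hR (self_mem_gorb x)

end OC

end H22
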