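import Cfsg.Agent.H22.MdK
import Cfsg.Agent.H22.AutH

/-!
Minimal degrees of orthogonal groups: the group theoretic statement and the numerical checks.
-/

set_option autoImplicit false

namespace H22

open H23 H23.Form Module Pointwise Cfsg

/-- `b` is the minimal index of a proper subgroup -/
def MinIdx (P : Type*) [Group P] (b : ℕ) : Prop :=
  (∀ H : Subgroup P, H ≠ ⊤ → b ≤ H.index) ∧ ∃ H : Subgroup P, H.index = b

theorem MinIdx.congr {P P' : Type*} [Group P] [Group P'] (e : P ≃* P') {b : ℕ} (h : MinIdx P' b) :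
    MinIdx P b := by
  refine ⟨fun H hH => ?_, ?_⟩
  · rw [← Subgroup.index_map_equiv H e]
    refine h.1 _ fun h1 => hH ?_
    rw [← Subgroup.comap_map_eq_self_of_injective (f := (e : P →* P')) e.injective H, h1,
      Subgroup.comap_top]
  · obtain ⟨H, hH⟩ := h.2
    exact ⟨H.comap (e : P →* P'), by rw [Subgroup.index_comap_of_surjective _ e.surjective, hH]⟩

theorem ncard_gorb {O X : Type*} [Group O] [MulAction O X] (G : Subgroup O) (x : X) :
    (gorb G x).ncard = (MulAction.stabilizer G x).index := by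
  rw [MulAction.index_stabilizer]
  congr 1
  ext y
  exact ⟨fun ⟨g, hg, e⟩ => ⟨⟨g, hg⟩, e⟩, fun ⟨g, e⟩ => ⟨g, g.2, e⟩⟩

/-- from the orbit version to the index version -/
theorem le_index_of_orbit {O P : Type*} [Group O] [Group P] [Finite O] {G : Subgroup O}
    (π : G →* P) (hπ : Function.Surjective π) {b : ℕ}
    (h : ∀ (K : Subgroup O) (x : O ⧸ K), (gorb G x).ncard < b → ∀ g ∈ G, g • x = x)
    (H : Subgroup P) (hH : H ≠ ⊤) : b ≤ H.index := by
  by_contra hcon
  set K := (H.comap π).map G.subtype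
  have h1 : MulAction.stabilizer G ((1 : O) : O ⧸ K) = H.comap π := by
    ext g
    rw [MulAction.mem_stabilizer_iff]
    change ((g.1 * 1 : O) : O ⧸ K) = _ ↔ _
    rw [mul_one, eq_comm, QuotientGroup.eq, inv_one, one_mul]
    exact Subgroup.mem_map_iff_mem G.subtype_injective
  have h2 := h K ((1 : O) : O ⧸ K) (by
    rw [ncard_gorb]
    erw [h1]
    rw [Subgroup.index_comap_of_surjective _ hπ]; omega)
  refine hH (eq_top_iff.2 fun p _ => ?_)
  obtain ⟨g, rfl⟩ := hπ p
  have : g ∈ MulAction.stabilizer G ((1 : O) : O ⧸ K) := h2 g g.2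
  rwa [h1] at this

theorem exists_index_of_orbit {O P X : Type*} [Group O] [Group P] [MulAction O X] {G : Subgroup O}
    (π : G →* P) (hπ : Function.Surjective π) (x : X) (h : ∀ g ∈ π.ker, g.1 • x = x) :
    ∃ H : Subgroup P, H.index = (gorb G x).ncard :=
  ⟨(MulAction.stabilizer G x).map π, by rw [Subgroup.index_map_eq _ hπ h, ncard_gorb]⟩

namespace OC

variable {F V : Type*} [Field F] [AddCommGroup V] [Module F V] [FiniteDimensional F V]
  (C : OC F V) [Fintype F]

theorem point_card {v : V} (h0 : v ≠ 0) :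
    {w | w ≠ 0 ∧ C.Φ.Q w = C.Φ.Q v}.ncard = (gorb C.G (F ∙ v).toAddSubgroup).ncard *
      {t : F | t ≠ 0 ∧ t ^ 2 * C.Φ.Q v = C.Φ.Q v}.ncard := by
  classical
  have := finite_of_fd F V
  refine le_antisymm (C.point_bound h0 le_rfl) ?_
  have hf := Set.toFinite (gorb C.G (F ∙ v).toAddSubgroup)
  have := sum_le_of_fiber (Set.toFinite {w | w ≠ 0 ∧ C.Φ.Q w = C.Φ.Q v})
    (fun w => (F ∙ w).toAddSubgroup) hf.toFinset
    (fun _ => {t : F | t ≠ 0 ∧ t ^ 2 * C.Φ.Q v = C.Φ.Q v}.ncard) 1 (by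
      intro D hD
      obtain ⟨g, hg, rfl⟩ := hf.mem_toFinset.1 hD
      have hg0 : g.1 v ≠ 0 := by simpa using h0
      rw [one_mul]
      refine Set.ncard_le_ncard_of_injOn (fun t => t • g.1 v) ?_ (smul_left_injective F hg0).injOn
      rintro t ⟨h1, h2⟩
      refine ⟨⟨smul_ne_zero h1 hg0, by rw [C.Φ.Q_smul, O_Q, h2]⟩, ?_⟩
      rw [C.smul_toAdd, Submodule.map_span, Set.image_singleton,
        Submodule.span_singleton_smul_eq (IsUnit.mk0 t h1)]
      rfl)
  rwa [Finset.sum_const, smul_eq_mul, one_mul, ← Set.ncard_eq_toFinset_card] at this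

theorem minIdx {b : ℕ} (hN : ∀ ω < b, C.Num ω) {v : V} (h0 : v ≠ 0)
    (hb : {w | w ≠ 0 ∧ C.Φ.Q w = C.Φ.Q v}.ncard =
      b * {t : F | t ≠ 0 ∧ t ^ 2 * C.Φ.Q v = C.Φ.Q v}.ncard) :
    MinIdx (C.G ⧸ Subgroup.center C.G) b := by
  have := finite_of_fd F V
  have : Finite (V ≃ₗ[F] V) := Finite.of_injective _ DFunLike.coe_injective
  have hV := C.hV
  refine ⟨le_index_of_orbit _ (QuotientGroup.mk'_surjective _) fun K x hx g hg =>
    C.fix_of_num (Set.toFinite _) (hN _ hx) hg, ?_⟩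
  rw [C.point_card h0] at hb
  rw [← Nat.eq_of_mul_eq_mul_right ((Set.ncard_pos (Set.toFinite _)).2 ⟨1, by simp⟩) hb]
  refine exists_index_of_orbit _ (QuotientGroup.mk'_surjective _) _ fun g hg => ?_
  rw [QuotientGroup.ker_mk'] at hg
  obtain ⟨c, hc, hc0⟩ := C.exists_sing
  obtain ⟨a, ha⟩ := scalar_of_mem_center_quad C.hΦ C.hκ ⟨c, C.sing.2 hc, hc0⟩ (by omega) C.G
    (by rw [show C.G = eichGrp C.hΦ from commutator_eq_eichGrp_of_five_le C.hΦ C.hκ (by omega)]
        exact Subgroup.subset_closure) g hg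
  exact C.smul_toAdd_eq fun e he => by rw [ha]; exact Submodule.smul_mem _ _ he

theorem minIdx_sing {b : ℕ} (hN : ∀ ω < b, C.Num ω) (hb : b * (Fintype.card F - 1) + 1 = C.N 0) :
    MinIdx (C.G ⧸ Subgroup.center C.G) b := by
  have := finite_of_fd F V
  obtain ⟨c, hc, hc0⟩ := C.exists_sing
  refine C.minIdx hN hc0 ?_
  have h3 : {w | w ≠ 0 ∧ C.Φ.Q w = C.Φ.Q c}.ncard + 1 = C.N 0 := by
    rw [N, ← Set.ncard_insert_of_notMem (a := 0) (by simp)]
    congr 1
    ext w
    by_cases hw : w = 0 <;> simp [hw, hc]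
  have h4 : {t : F | t ≠ 0 ∧ t ^ 2 * C.Φ.Q c = C.Φ.Q c} = {0}ᶜ := by ext t; simp [hc]
  rw [h4, Set.ncard_compl, Set.ncard_singleton, Nat.card_eq_fintype_card]
  omega

theorem minIdx_nonsing {b : ℕ} (hN : ∀ ω < b, C.Num ω) {a : F} (ha : a ≠ 0) (hb0 : b ≠ 0)
    (hb : b * ({1, -1} : Set F).ncard = C.N a) : MinIdx (C.G ⧸ Subgroup.center C.G) b := by
  have := finite_of_fd F V
  obtain ⟨v, hv⟩ := Set.nonempty_of_ncard_ne_zero (s := {v | C.Φ.Q v = a}) (by
    rw [← N, ← hb]
    exact mul_ne_zero hb0 (Set.ncard_ne_zero_of_mem (a := 1) (by simp)))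
  obtain rfl : C.Φ.Q v = a := hv
  refine C.minIdx hN (v := v) (by rintro rfl; simp at ha) ?_
  have h4 : {t : F | t ≠ 0 ∧ t ^ 2 * C.Φ.Q v = C.Φ.Q v} = {1, -1} := by
    ext t
    constructor
    · rintro ⟨-, ht⟩
      exact sq_eq_one_iff.1 (mul_right_cancel₀ ha (by rw [ht, one_mul]))
    · rintro (rfl | rfl) <;> simp
  rw [h4, hb, N]
  congr 1
  ext w
  refine ⟨fun h => h.2, fun h => ⟨?_, h⟩⟩
  rintro rfl
  exact ha (by simpa using h.symm)

end OC

section Forms

variable {F : Type*} [Field F] [Fintype F]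

/-- the context attached to a quadratic form -/
noncomputable def mkOC {V : Type*} [AddCommGroup V] [Module F V] (Q : QuadraticForm F V)
    (hQ : (ofQuad Q).Nondeg) (hV : 6 ≤ finrank F V) : OC F V :=
  ⟨ofQuad Q, hQ, rfl, hV, exists_addChar_ne.choose, exists_addChar_ne.choose_spec⟩

theorem card_qPlus_add (m : ℕ) {Z : Type*} [Fintype Z] (N : Z → F) (c : F) :
    Nat.card {p : (Fin m ⊕ Fin m → F) × Z // qPlus m F p.1 + N p.2 = c} =
      Fintype.card F ^ m * {z | N z = c}.ncard +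
        Fintype.card Z * ((Fintype.card F ^ m - 1) * Fintype.card F ^ (m - 1)) := by
  classical
  have e : {p : (Fin m ⊕ Fin m → F) × Z // qPlus m F p.1 + N p.2 = c} ≃
      Σ z : Z, {v : Fin m ⊕ Fin m → F // qPlus m F v = c - N z} :=
    { toFun := fun p => ⟨p.1.2, p.1.1, eq_sub_of_add_eq p.2⟩
      invFun := fun p => ⟨(p.2.1, p.1), by simp [p.2.2]⟩
      left_inv := fun _ => rfl
      right_inv := fun _ => rfl }
  rw [Nat.card_congr e, Nat.card_sigma]
  simp only [card_qPlus_eq]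
  rw [Finset.sum_add_distrib, ← Finset.sum_filter, Finset.sum_const, Finset.sum_const,
    ← Set.ncard_coe_finset, smul_eq_mul, smul_eq_mul, mul_comm, Finset.card_univ]
  congr 3
  ext z
  simp [sub_eq_zero, eq_comm]

theorem N_plus (m : ℕ) (hV : 6 ≤ finrank F (Fin m ⊕ Fin m → F)) (c : F) [Decidable (c = 0)] :
    (mkOC (qPlus m F) (qPlus_nondeg m) hV).N c = (if c = 0 then Fintype.card F ^ m else 0) +
        (Fintype.card F ^ m - 1) * Fintype.card F ^ (m - 1) := by
  classical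
  have := card_qPlus_eq (F := F) m c
  refine Eq.trans ?_ (this.trans ?_)
  · rfl
  · congr

theorem N_odd (m : ℕ) (h2 : (2 : F) ≠ 0) (hV : 6 ≤ finrank F (Unit ⊕ (Fin m ⊕ Fin m) → F)) (c : F) :
    (mkOC (qOdd m F) (qOdd_nondeg h2 m) hV).N c = Fintype.card F ^ m * {z : F | z ^ 2 = c}.ncard +
        Fintype.card F * ((Fintype.card F ^ m - 1) * Fintype.card F ^ (m - 1)) := by
  rw [← card_qPlus_add m (fun z : F => z ^ 2) c]
  exact Nat.card_congr
    { toFun := fun v => ⟨(fun i => v.1 (.inr i), v.1 (.inl ())), (add_comm _ _).trans v.2⟩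
      invFun := fun p => ⟨Sum.elim (fun _ => p.1.2) p.1.1, (add_comm _ _).trans p.2⟩
      left_inv := fun v => by ext i; cases i <;> rfl
      right_inv := fun _ => rfl }

theorem N_minus (m : ℕ) {a b : F}
    (hab : ∀ z₁ z₂ : F, z₁ ^ 2 + a * z₁ * z₂ + b * z₂ ^ 2 = 0 → z₁ = 0 ∧ z₂ = 0)
    (hV : 6 ≤ finrank F ((Fin m ⊕ Fin m) ⊕ Fin 2 → F)) (c : F) :
    (mkOC (qMinus m F a b) (qMinus_nondeg m hab) hV).N c =
      Fintype.card F ^ m * {z : Fin 2 → F | z 0 ^ 2 + a * z 0 * z 1 + b * z 1 ^ 2 = c}.ncard +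
        Fintype.card F ^ 2 * ((Fintype.card F ^ m - 1) * Fintype.card F ^ (m - 1)) := by
  classical
  have := card_qPlus_add m (fun z : Fin 2 → F => z 0 ^ 2 + a * z 0 * z 1 + b * z 1 ^ 2) c
  rw [Fintype.card_fun, Fintype.card_fin] at this
  rw [← this]
  exact Nat.card_congr ((Equiv.sumArrowEquivProdArrow _ _ _).subtypeEquiv fun v => Iff.rfl)

theorem aniso_fiber {a b : F}
    (hab : ∀ z₁ z₂ : F, z₁ ^ 2 + a * z₁ * z₂ + b * z₂ ^ 2 = 0 → z₁ = 0 ∧ z₂ = 0) {c : F}
    (hc : c ≠ 0) :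
    Fintype.card F + 1 ≤ {z : Fin 2 → F | z 0 ^ 2 + a * z 0 * z 1 + b * z 1 ^ 2 = c}.ncard := by
  classical
  let N : (Fin 2 → F) → F := fun z => z 0 ^ 2 + a * z 0 * z 1 + b * z 1 ^ 2
  have hsurj : ∀ d, ∃ w, N w = d := by
    intro d
    obtain ⟨w, -, hw⟩ := exists_Q_eq_of_finrank (qMinus_nondeg 0 hab) rfl (U := ⊤) (by
      rw [perp_top _ (qMinus_nondeg 0 hab)]; simp) d
    exact ⟨fun i => w (.inr i), by simpa [qMinus_apply] using hw⟩
  have h1 := ncard_le_mul_of_cover (Set.toFinite ({0}ᶜ : Set (Fin 2 → F))) (Finset.univ.erase 0)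
    (fun d z => N z = d) 1 {z | N z = c}.ncard (by
      intro z hz
      rw [Nat.one_le_iff_ne_zero]
      refine Set.ncard_ne_zero_of_mem (a := N z) ⟨Finset.mem_erase.2 ⟨fun h => hz ?_, by simp⟩, rfl⟩
      ext i; fin_cases i; exacts [(hab _ _ h).1, (hab _ _ h).2]) (by
      intro d hd
      have hd0 := (Finset.mem_erase.1 hd).1
      obtain ⟨w, hw⟩ := hsurj (c / d)
      have key : ∀ z : Fin 2 → F, N ![z 0 * w 0 - b * z 1 * w 1, z 0 * w 1 + z 1 * w 0 + a * z 1 * w 1] =
          N z * N w := by intro z; simp only [N]; simp; ring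
      refine Set.ncard_le_ncard_of_injOn
        (fun z => ![z 0 * w 0 - b * z 1 * w 1, z 0 * w 1 + z 1 * w 0 + a * z 1 * w 1]) ?_ ?_
      · intro z hz
        change N _ = c
        rw [key, hz.2, hw]; field_simp
      · intro z _ z' _ h
        have e0 := congrFun h 0
        have e1 := congrFun h 1
        simp only [Matrix.cons_val_zero, Matrix.cons_val_one] at e0 e1
        have := key (z - z')
        rw [show ![(z - z') 0 * w 0 - b * (z - z') 1 * w 1,
          (z - z') 0 * w 1 + (z - z') 1 * w 0 + a * (z - z') 1 * w 1] = 0 by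
            ext i; fin_cases i
            · simp; linear_combination e0
            · simp; linear_combination e1, hw] at this
        have h3 : N (z - z') = 0 := by
          have h4 : N 0 = 0 := by simp [N]
          rw [h4] at this
          exact (mul_eq_zero.1 this.symm).resolve_right (div_ne_zero hc hd0)
        rw [← sub_eq_zero]
        ext i; fin_cases i; exacts [(hab _ _ h3).1, (hab _ _ h3).2])
  rw [Set.ncard_compl, Set.ncard_singleton, Nat.card_eq_fintype_card, Fintype.card_fun,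
    Fintype.card_fin, Finset.card_erase_of_mem (by simp), Finset.card_univ, one_mul] at h1
  have hq : 1 < Fintype.card F := Fintype.one_lt_card
  obtain ⟨r, hr⟩ : ∃ r, Fintype.card F = r + 1 := ⟨Fintype.card F - 1, by omega⟩
  rw [hr, show (r + 1) ^ 2 - 1 = r * (r + 2) from Nat.sub_eq_of_eq_add (by ring)] at h1
  rw [hr]
  exact Nat.le_of_mul_le_mul_left h1 (by omega)

theorem exists_aniso_pair (F : Type*) [Field F] [Finite F] : ∃ a b : F,
    ∀ z₁ z₂ : F, z₁ ^ 2 + a * z₁ * z₂ + b * z₂ ^ 2 = 0 → z₁ = 0 ∧ z₂ = 0 := by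
  have h : ¬ Function.Surjective (fun p : F × F => (-(p.1 + p.2), p.1 * p.2)) := by
    rw [← Finite.injective_iff_surjective]
    intro h
    have := h (a₁ := (0, 1)) (a₂ := (1, 0)) (by simp)
    simp at this
  simp only [Function.Surjective, not_forall, not_exists] at h
  obtain ⟨⟨a, b⟩, h⟩ := h
  refine ⟨a, b, fun z₁ z₂ e => ?_⟩
  have h2 : z₂ = 0 := by
    by_contra h2
    refine h (z₁ / z₂, -a - z₁ / z₂) (Prod.ext (by ring) ?_)
    field_simp
    linear_combination -e
  subst h2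
  simpa using e

theorem exists_field_sqrt {K : Type*} [Field K] [Fintype K] {q : ℕ} (hK : Fintype.card K = q ^ 2) :
    ∃ (F : Type) (_ : Field F) (_ : Fintype F), Fintype.card F = q := by
  obtain ⟨n, hp, hn⟩ := FiniteField.card K (ringChar K)
  obtain ⟨k, -, hk⟩ := (Nat.dvd_prime_pow hp).1 (show q ∣ ringChar K ^ (n : ℕ) from
    ⟨q, by rw [← hn, hK, sq]⟩)
  have := Fact.mk hp
  have hk0 : k ≠ 0 := by
    rintro rfl
    have : 1 < Fintype.card K := Fintype.one_lt_card
    rw [hK, hk] at this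
    simp at this
  exact ⟨GaloisField (ringChar K) k, inferInstance, Fintype.ofFinite _, by
    rw [← @Nat.card_eq_fintype_card _ (Fintype.ofFinite _), GaloisField.card _ _ hk0, hk]⟩

theorem pow_eq_mul_pred {q m : ℕ} (hm : 1 ≤ m) : q ^ m = q * q ^ (m - 1) := by
  rw [← pow_succ', Nat.sub_add_cancel hm]

theorem lt_div_iff_aux {ω a r : ℕ} (h : ω < a / r) : (ω + 1) * r ≤ a :=
  (Nat.mul_le_mul_right _ h).trans (Nat.div_mul_le_self _ _)

theorem minIdx_odd (hodd : Odd (Fintype.card F)) (h5 : 5 ≤ Fintype.card F) (m : ℕ) (hm : 3 ≤ m) :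
    MinIdx (POmega F (quadFormOdd m F)) ((Fintype.card F ^ (2 * m) - 1) / (Fintype.card F - 1)) := by
  have h2 := two_ne_zero_of_odd_card hodd
  have hn : finrank F (Unit ⊕ (Fin m ⊕ Fin m) → F) = 2 * m + 1 := by simp; omega
  set C := mkOC (qOdd m F) (qOdd_nondeg h2 m) (by omega)
  have hN0 : C.N 0 = Fintype.card F ^ (2 * m) :=
    (nsing_ofQuad _).symm.trans (nsing_card_O_quad_odd m _ (qOdd_nondeg h2 m) hn).1
  have hN := fun c => (Nat.le_add_left _ _).trans (N_odd m h2 (by omega) c).ge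
  refine MinIdx.congr (pOmegaEquiv (qOdd m F)) (C.minIdx_sing (fun ω hω => ?_) ?_)
  · have h1 := lt_div_iff_aux hω
    change ∀ c, _ ≤ C.N c at hN
    rw [← mul_left_comm, ← pow_eq_mul_pred (by omega)] at hN
    have e1 : Fintype.card F ^ (2 * m) = Fintype.card F * Fintype.card F ^ (2 * m - 1) :=
      pow_eq_mul_pred (by omega)
    have e2 : Fintype.card F ^ (2 * m) = Fintype.card F ^ m * Fintype.card F ^ m := by ring
    have e3 : Fintype.card F ≤ Fintype.card F ^ m := Nat.le_self_pow (by omega) _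
    obtain ⟨r, hr⟩ : ∃ r, Fintype.card F = r + 5 := ⟨Fintype.card F - 5, by omega⟩
    obtain ⟨y, hy⟩ : ∃ y, Fintype.card F ^ m = y + 1 := ⟨Fintype.card F ^ m - 1, by omega⟩
    have h3 : ω * (r + 4) + r + 5 ≤ Fintype.card F ^ (2 * m) := by
      rw [show Fintype.card F - 1 = r + 4 by omega, add_mul] at h1
      have : 0 < Fintype.card F ^ (2 * m) := by positivity
      omega
    have h4 : 2 * ω < 3 * Fintype.card F ^ (2 * m - 1) := by
      rw [e1] at h3
      nth_rewrite 1 [hr] at h3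
      nlinarith
    constructor <;> try (intro h; omega)
    · rw [hn, show 2 * m + 1 - 2 = 2 * m - 1 by omega]; omega
    · intro _; rwa [hn, show 2 * m + 1 - 2 = 2 * m - 1 by omega]
    · rw [hN0, show Fintype.card F - 1 = r + 4 by omega]; omega
    · intro a _
      have := hN a
      rw [hy] at this e3
      rw [e2, hy] at h3
      simp only [Nat.add_sub_cancel] at this
      have : 2 * ω < C.N a := by nlinarith
      exact ⟨by omega, fun _ => this⟩
    · intro h7
      exact ⟨by rw [hN0, show m = 3 by omega], by omega⟩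
  · rw [hN0, Nat.div_mul_cancel (by simpa using Nat.sub_dvd_pow_sub_pow (Fintype.card F) 1 (2 * m))]
    have : 0 < Fintype.card F ^ (2 * m) := by positivity
    omega

theorem minIdx_odd_three (hq : Fintype.card F = 3) (m : ℕ) (hm : 3 ≤ m) :
    MinIdx (POmega F (quadFormOdd m F)) (3 ^ m * (3 ^ m - 1) / 2) := by
  have h2 := two_ne_zero_card_three hq
  have hn : finrank F (Unit ⊕ (Fin m ⊕ Fin m) → F) = 2 * m + 1 := by simp; omega
  set C := mkOC (qOdd m F) (qOdd_nondeg h2 m) (by omega)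
  have hN0 : C.N 0 = Fintype.card F ^ (2 * m) :=
    (nsing_ofQuad _).symm.trans (nsing_card_O_quad_odd m _ (qOdd_nondeg h2 m) hn).1
  have hN : ∀ c, C.N c = _ := N_odd m h2 (by omega)
  rw [hq] at hN0
  simp only [hq] at hN
  rw [← mul_left_comm, ← pow_eq_mul_pred (by omega)] at hN
  have e0 : 2 ∣ 3 ^ m * (3 ^ m - 1) :=
    Dvd.dvd.mul_left (by simpa using Nat.sub_dvd_pow_sub_pow 3 1 m) _
  have e1 : 3 ^ (2 * m) = 3 * 3 ^ (2 * m - 1) := pow_eq_mul_pred (by omega)
  have e2 : 3 ^ (2 * m) = 3 ^ m * 3 ^ m := by ring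
  have e3 : 3 ≤ 3 ^ m := Nat.le_self_pow (by omega) _
  obtain ⟨y, hy⟩ : ∃ y, 3 ^ m = y + 1 := ⟨3 ^ m - 1, by omega⟩
  refine MinIdx.congr (pOmegaEquiv (qOdd m F)) (C.minIdx_nonsing (a := -1) (fun ω hω => ?_)
    (by simp) ?_ ?_)
  · have h1 := lt_div_iff_aux hω
    have h3 : 2 * ω + 2 < 3 ^ (2 * m) := by
      rw [e2]; rw [hy] at h1 ⊢; simp only [Nat.add_sub_cancel] at h1; nlinarith
    constructor <;> try (intro h; omega)
    · rw [hn, hq, show 2 * m + 1 - 2 = 2 * m - 1 by omega]; omega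
    · intro _; rw [hn, hq, show 2 * m + 1 - 2 = 2 * m - 1 by omega]; omega
    · rw [hN0, hq]; omega
    · intro a _
      have := hN a
      rw [mul_comm (3 ^ m - 1)] at this
      exact ⟨by omega, fun _ => by omega⟩
    · intro _ h7
      rw [show m = 3 by omega] at h1
      omega
    · intro h7
      exact ⟨by rw [hN0, hq, show m = 3 by omega], by omega⟩
  · rw [hy]
    simp only [Nat.add_sub_cancel]
    have : 2 ≤ (y + 1) * y := by nlinarith
    omega
  · rw [hN, Set.ncard_pair (fun h => h2 (by linear_combination h)), Nat.div_mul_cancel e0,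
      show {z : F | z ^ 2 = -1} = ∅ by
        ext z
        simp only [Set.mem_ofPred_eq, Set.mem_empty_iff_false, iff_false]
        intro h
        have hz : z ≠ 0 := by rintro rfl; simp at h
        exact h2 (by linear_combination h - sq_eq_one_card_three hq hz)]
    simp [mul_comm]

theorem minIdx_plus (hq : 4 ≤ Fintype.card F) (m : ℕ) (hm : 4 ≤ m) :
    MinIdx (POmega F (quadFormPlus m F))
      ((Fintype.card F ^ m - 1) * (Fintype.card F ^ (m - 1) + 1) / (Fintype.card F - 1)) := by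
  classical
  have hn : finrank F (Fin m ⊕ Fin m → F) = 2 * m := by simp; omega
  set C := mkOC (qPlus m F) (qPlus_nondeg m) (by omega)
  have hN : ∀ c, C.N c = _ := fun c => N_plus (F := F) m (by omega) c
  have hN0 := hN 0
  rw [if_pos rfl] at hN0
  have e1 : Fintype.card F ^ m = Fintype.card F * Fintype.card F ^ (m - 1) :=
    pow_eq_mul_pred (by omega)
  have e2 : Fintype.card F ^ (2 * m - 2) = Fintype.card F ^ (m - 1) * Fintype.card F ^ (m - 1) := by
    rw [← pow_add]; congr 1; omega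
  have e3 : Fintype.card F ^ 2 ≤ Fintype.card F ^ (m - 1) := Nat.pow_le_pow_right (by omega) (by omega)
  obtain ⟨z, hz⟩ : ∃ z, Fintype.card F ^ m = z + 1 :=
    ⟨Fintype.card F ^ m - 1, (Nat.sub_add_cancel (Nat.one_le_pow _ _ (by omega))).symm⟩
  refine MinIdx.congr (pOmegaEquiv (qPlus m F)) (C.minIdx_sing (fun ω hω => ?_) ?_)
  · have h1 := lt_div_iff_aux hω
    obtain ⟨r, hr⟩ : ∃ r, Fintype.card F = r + 4 := ⟨Fintype.card F - 4, by omega⟩
    rw [show Fintype.card F - 1 = r + 3 by omega, hz, Nat.add_sub_cancel] at h1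
    rw [hz] at e1
    set y := Fintype.card F ^ (m - 1)
    rw [hr] at e1 e3
    have hy : 4 * (r + 4) ≤ y := by nlinarith
    have h4 : 2 * ω < 3 * (y * y) := by
      have : (r + 3) * (2 * ω) < (r + 3) * (3 * (y * y)) := by nlinarith
      exact Nat.lt_of_mul_lt_mul_left this
    constructor <;> try (intro h; omega)
    · rw [hn, e2]; omega
    · intro _; rwa [hn, e2]
    · rw [hN0, show Fintype.card F - 1 = r + 3 by omega, hz, Nat.add_sub_cancel]; nlinarith
    · intro a ha
      have := hN a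
      rw [if_neg ha, zero_add, hz, Nat.add_sub_cancel] at this
      have : 2 * ω < C.N a := by rw [this]; nlinarith
      exact ⟨by omega, fun _ => this⟩
    · intro h8
      refine Or.inr ⟨?_, fun h => by omega⟩
      obtain rfl : m = 4 := by omega
      rw [hN0, hz, Nat.add_sub_cancel, show Fintype.card F ^ 7 = Fintype.card F ^ 4 * y by
        simp only [y]; ring, hz]
      simp only [y]
      ring
  · rw [hN0, Nat.div_mul_cancel (Dvd.dvd.mul_right
      (by simpa using Nat.sub_dvd_pow_sub_pow (Fintype.card F) 1 m) _), hz, Nat.add_sub_cancel]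
    ring

theorem minIdx_plus_two_aux (hq : Fintype.card F = 2) (m : ℕ) (hm : 4 ≤ m)
    (hV : 6 ≤ finrank F (Fin m ⊕ Fin m → F)) {ω : ℕ} (hω : ω < 2 ^ (m - 1) * (2 ^ m - 1)) :
    (mkOC (qPlus m F) (qPlus_nondeg m) hV).Num ω := by
  classical
  have hn : finrank F (Fin m ⊕ Fin m → F) = 2 * m := by simp; omega
  set C := mkOC (qPlus m F) (qPlus_nondeg m) hV
  have hN : ∀ c, C.N c = _ := fun c => N_plus (F := F) m (by omega) c
  have hN0 := hN 0
  have hN1 := hN 1
  rw [if_pos rfl, hq] at hN0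
  rw [if_neg one_ne_zero, hq, zero_add] at hN1
  have e1 : 2 ^ m = 2 * 2 ^ (m - 1) := pow_eq_mul_pred (by omega)
  have e2 : 2 ^ (2 * m - 2) = 2 ^ (m - 1) * 2 ^ (m - 1) := by
    rw [← pow_add]; congr 1; omega
  have e3 : 2 ^ 3 ≤ 2 ^ (m - 1) := Nat.pow_le_pow_right (by omega) (by omega)
  obtain ⟨y, hy⟩ : ∃ y, 2 ^ (m - 1) = y + 1 := ⟨2 ^ (m - 1) - 1, by omega⟩
  rw [e1, hy, show 2 * (y + 1) - 1 = 2 * y + 1 by omega] at hω hN0 hN1
  rw [hy] at e2 e3
  constructor <;> try (intro h; omega)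
  · rw [hn, hq, e2]; nlinarith
  · rw [hN0, hq]; nlinarith
  · intro a ha
    obtain rfl := (eq_zero_or_one_card_two hq a).resolve_left ha
    exact ⟨by rw [hN1]; nlinarith, fun h => absurd (two_eq_zero_card_two hq) h⟩
  · intro _; rw [hn, e2, hN1]; nlinarith
  · intro _ _; rw [hn, e2, hN0]; nlinarith
  · intro h8
    obtain rfl : m = 4 := by omega
    obtain rfl : y = 7 := by omega
    exact Or.inr ⟨by rw [hN0, hq]; norm_num, fun _ => by rw [hq]; omega⟩

theorem minIdx_plus_two (hq : Fintype.card F = 2) (m : ℕ) (hm : 4 ≤ m) :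
    MinIdx (POmega F (quadFormPlus m F)) (2 ^ (m - 1) * (2 ^ m - 1)) := by
  classical
  have hn : finrank F (Fin m ⊕ Fin m → F) = 2 * m := by simp; omega
  refine MinIdx.congr (pOmegaEquiv (qPlus m F))
    ((mkOC (qPlus m F) (qPlus_nondeg m) (by omega)).minIdx_nonsing (a := 1)
      (fun ω hω => minIdx_plus_two_aux hq m hm _ hω) one_ne_zero ?_ ?_)
  · have : 2 ^ 1 ≤ 2 ^ m := Nat.pow_le_pow_right (by omega) (by omega)
    exact mul_ne_zero (by positivity) (by omega)
  · rw [N_plus, if_neg one_ne_zero, hq,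
      show (-1 : F) = 1 by linear_combination -two_eq_zero_card_two hq]
    simp [mul_comm]

theorem minIdx_minus (k : ℕ) (hk : 2 ≤ k) {a b : F}
    (hab : ∀ z₁ z₂ : F, z₁ ^ 2 + a * z₁ * z₂ + b * z₂ ^ 2 = 0 → z₁ = 0 ∧ z₂ = 0) :
    MinIdx (POmega F (quadFormMinus k F a b))
      ((Fintype.card F ^ (k + 1) + 1) * (Fintype.card F ^ k - 1) / (Fintype.card F - 1)) := by
  have hn : finrank F ((Fin k ⊕ Fin k) ⊕ Fin 2 → F) = 2 * k + 2 := by simp; omega
  set C := mkOC (qMinus k F a b) (qMinus_nondeg k hab) (by omega)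
  have hN0 : C.N 0 = _ := (nsing_ofQuad _).symm.trans (nsing_qMinus k hab)
  have hN : ∀ c, C.N c = _ := N_minus k hab (by omega)
  have hq : 1 < Fintype.card F := Fintype.one_lt_card
  have e0 : Fintype.card F ^ 2 * ((Fintype.card F ^ k - 1) * Fintype.card F ^ (k - 1)) =
      Fintype.card F * Fintype.card F ^ k * (Fintype.card F ^ k - 1) := by
    nth_rewrite 2 [pow_eq_mul_pred (m := k) (by omega)]
    ring
  have e2 : Fintype.card F ^ (2 * k + 2 - 2) = Fintype.card F ^ k * Fintype.card F ^ k := by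
    rw [← pow_add]; congr 1; omega
  have e3 : Fintype.card F ^ 2 ≤ Fintype.card F ^ k := Nat.pow_le_pow_right (by omega) (by omega)
  simp only [e0] at hN hN0
  obtain ⟨y, hy⟩ : ∃ y, Fintype.card F ^ k = y + 1 :=
    ⟨Fintype.card F ^ k - 1, (Nat.sub_add_cancel (Nat.one_le_pow _ _ (by omega))).symm⟩
  refine MinIdx.congr (pOmegaEquiv (qMinus k F a b)) (C.minIdx_sing (fun ω hω => ?_) ?_)
  · have h1 := lt_div_iff_aux hω
    have hN' : ∀ c ≠ 0, Fintype.card F * ((y + 1) * (y + 1)) + (y + 1) ≤ C.N c := fun c hc => by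
      have := Nat.mul_le_mul_left (y + 1) (aniso_fiber hab hc)
      rw [hN c, hy, Nat.add_sub_cancel]
      nlinarith
    obtain ⟨r, hr⟩ : ∃ r, Fintype.card F = r + 2 := ⟨Fintype.card F - 2, by omega⟩
    rw [show Fintype.card F - 1 = r + 1 by omega, pow_succ, hy, Nat.add_sub_cancel, hr] at h1
    rw [hy, Nat.add_sub_cancel] at hN0
    rw [hy] at e2
    have h2 : (r + 1) * ω < (r + 2) * ((y + 1) * (y + 1)) := by nlinarith
    have hw : ∀ E, C.Φ.TotSing E → finrank F E ≤ k := fun E hE =>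
      finrank_le_of_sing_qMinus k hab E hE.2
    constructor <;> try (intro h; omega)
    · rw [hn, e2]
      exact Nat.lt_of_mul_lt_mul_left (a := r + 1) (by nlinarith)
    · intro h3
      rw [hn, e2]
      obtain ⟨s, rfl⟩ : ∃ s, r = s + 1 := ⟨r - 1, by omega⟩
      exact Nat.lt_of_mul_lt_mul_left (a := s + 1 + 1) (by nlinarith)
    · rw [hN0, hr, show r + 2 - 1 = r + 1 from rfl]; nlinarith
    · intro c hc
      have := hN' c hc
      rw [hr] at this
      refine ⟨by nlinarith, fun h2 => ?_⟩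
      have h3 := odd_card_of_two_ne_zero h2
      obtain ⟨s, rfl⟩ : ∃ s, r = s + 1 := ⟨r - 1, by obtain ⟨t, ht⟩ := h3; omega⟩
      nlinarith
    · intro h3 h6 c hc
      have := hN' c hc
      obtain rfl : k = 2 := by omega
      rw [h3] at hy this
      obtain rfl : y = 8 := by omega
      obtain rfl : r = 1 := by omega
      omega
    · intro h3
      have := hN' 1 one_ne_zero
      obtain rfl : r = 0 := by omega
      rw [h3] at e2 this
      rw [hn, e2]
      nlinarith
    · intro h3 h6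
      have := hN' 1 one_ne_zero
      obtain rfl : k = 2 := by omega
      rw [h3] at hy this
      obtain rfl : y = 3 := by omega
      obtain rfl : r = 0 := by omega
      omega
    · intro h3 h8
      obtain rfl : r = 0 := by omega
      have : 2 ^ 3 ≤ 2 ^ k := Nat.pow_le_pow_right (by omega) (by omega)
      rw [h3] at e2 hy hN0
      rw [hn, e2, hN0]
      nlinarith
    · intro h6 E hE
      have := hw E hE
      omega
    · intro h6
      exact Or.inl fun E hE => by have := hw E hE; omega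
  · rw [hN0, Nat.div_mul_cancel (Dvd.dvd.mul_left
      (by simpa using Nat.sub_dvd_pow_sub_pow (Fintype.card F) 1 k) _), pow_succ, hy,
      Nat.add_sub_cancel]
    ring

end Forms

end H22
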