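import Cfsg.Agent.H22.MdL

/-!
Minimal degree of the symplectic groups over the field with two elements.
-/

set_option autoImplicit false

namespace H22

open H23 H23.Form Module Pointwise Cfsg

theorem ncard_orbit_le {G X P : Type*} [Group G] [MulAction G X] [MulAction G P] [Finite X]
    (x : X) {K S : Set P} (hS : S.Finite) (p : P) (hK : ∀ k ∈ K, ∃ g : G, g • p = k)
    (h : ∀ g : G, g • x = x → g • p ∈ S) (hx : ∀ y : X, ∃ g : G, g • x = y) :
    K.ncard ≤ Nat.card X * S.ncard := by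
  choose r hr using hx
  choose! g hg using hK
  rw [← Set.ncard_univ, ← Set.ncard_prod]
  refine Set.ncard_le_ncard_of_injOn (fun k => (g k • x, (r (g k • x))⁻¹ • k)) ?_ ?_
    (Set.finite_univ.prod hS)
  · intro k hk
    refine ⟨trivial, ?_⟩
    have := h ((r (g k • x))⁻¹ * g k) (by rw [mul_smul, inv_smul_eq_iff, hr])
    rwa [mul_smul, hg k hk] at this
  · intro k _ k' _ e
    simp only [Prod.mk.injEq] at e
    rw [← e.1] at e
    exact smul_left_cancel _ e.2

theorem exists_smul_one_coe {G : Type*} [Group G] (H : Subgroup G) (y : G ⧸ H) :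
    ∃ g : G, g • ((1 : G) : G ⧸ H) = y := by
  obtain ⟨g, rfl⟩ := QuotientGroup.mk_surjective y
  exact ⟨g, by simp⟩

theorem smul_one_coe_iff {G : Type*} [Group G] (H : Subgroup G) (g : G) :
    g • ((1 : G) : G ⧸ H) = (1 : G) ↔ g ∈ H := by
  change ((g * 1 : G) : G ⧸ H) = _ ↔ _
  rw [mul_one, eq_comm, QuotientGroup.eq, inv_one, one_mul]

section Six

variable {F V : Type*} [Field F] [AddCommGroup V] [Module F V] [FiniteDimensional F V]
  {Φ : Form (RingHom.id F) V} (hΦ : Φ.Nondeg) (hε : Φ.ε = -1) (hκ : Φ.κ = 0)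

omit [FiniteDimensional F V] in
theorem eichler_sq (h2 : (2 : F) = 0) (hε : Φ.ε = -1) (hκ : Φ.κ = 0) {c e : V} {s : F}
    (h : EichData Φ c e s) (v : V) : Φ.eichler c e s (Φ.eichler c e s v) = v := by
  rw [eichler_mul h.sing.1 h.perp h.perp, ← two_smul F e, ← two_mul, h2, zero_smul, zero_mul,
    (sing_alt hε hκ e).1, add_zero, eichler_zero]

/-- the Eichler group of a point in characteristic two -/
def eichP (h2 : (2 : F) = 0) (hε : Φ.ε = -1) (hκ : Φ.κ = 0) (c : V) : Subgroup Φ.O where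
  carrier := {g | ∃ e s, EichData Φ c e s ∧ ∀ v, g.1 v = Φ.eichler c e s v}
  mul_mem' := by
    rintro a b ⟨e, s, h, ha⟩ ⟨e', s', h', hb⟩
    exact ⟨_, _, h.add h', fun v => by
      rw [O_mul_apply, hb, ha, eichler_mul h.sing.1 h.perp h'.perp]⟩
  one_mem' := ⟨0, 0, ⟨sing_alt hε hκ c, by simp, by simp, by simp⟩, fun v => by
    rw [eichler_zero]; rfl⟩
  inv_mem' := by
    rintro a ⟨e, s, h, ha⟩
    refine ⟨e, s, h, fun v => ?_⟩
    rw [← eichler_sq h2 hε hκ h v, ← ha, O_inv_apply_apply, ha, eichler_sq h2 hε hκ h]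

include hΦ hε hκ in
theorem sp_six_index [Fintype F] (hq : Fintype.card F = 2) (hV : finrank F V = 6)
    (H : Subgroup Φ.O) (hH : H ≠ ⊤) : H.index ≠ 27 := by
  classical
  intro h27
  have h2 := two_eq_zero_card_two hq
  have := finite_of_fd F V
  have : Finite (V ≃ₗ[F] V) := Finite.of_injective _ DFunLike.coe_injective
  have : Nontrivial V := Module.nontrivial_of_finrank_pos (R := F) (by omega)
  set H' := H.map Φ.O.subtype
  have hmem : ∀ g : Φ.O, g.1 ∈ H' ↔ g ∈ H := fun g =>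
    Subgroup.mem_map_iff_mem Φ.O.subtype_injective
  obtain ⟨c0, hc0, hQ0⟩ : ∃ c0 ≠ 0, Φ.QIn H' c0 := by
    obtain ⟨c, hc⟩ := exists_ne (0 : V)
    have hP : IsPGroup 2 (eichP h2 hε hκ c) := by
      rintro ⟨g, e, s, h, hg⟩
      exact ⟨1, Subtype.ext (O_ext Φ fun v => by
        simp [sq, hg, eichler_sq h2 hε hκ h])⟩
    obtain ⟨y, hy⟩ := hP.nonempty_fixed_point_of_prime_not_dvd_card (Φ.O ⧸ H) (by
      rw [← Subgroup.index_eq_card, h27]; norm_num)
    obtain ⟨k, rfl⟩ := exists_smul_one_coe H y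
    refine ⟨(k⁻¹).1 c, O_apply_ne_zero _ hc, fun e s h => ⟨(eich hΦ h).1, ?_, fun v => rfl⟩⟩
    have h' := h.map k
    rw [O_apply_inv_apply] at h'
    have h3 : eich hΦ h' • k • ((1 : Φ.O) : Φ.O ⧸ H) = k • ((1 : Φ.O) : Φ.O ⧸ H) :=
      hy ⟨eich hΦ h', _, _, h', fun v => rfl⟩
    have h4 : k * eich hΦ h * k⁻¹ = eich hΦ h' := by
      rw [conj_eich]; congr 1; simp
    rw [hmem, ← smul_one_coe_iff]
    rwa [← h4, mul_smul, mul_smul, inv_smul_smul, smul_left_cancel_iff] at h3
  set E := Submodule.span F {c | Φ.QIn H' c}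
  have hperp : ∀ c d, Φ.QIn H' c → Φ.QIn H' d → Φ.B c d = 0 := fun c d hc hd => by
    by_contra h
    have := E_le_of_qIn hΦ (sing_alt hε hκ c) (sing_alt hε hκ d) h hc hd
    rw [E_alt hΦ hε hκ] at this
    exact hH (eq_top_iff.2 fun g _ => (hmem g).1 (this g.2))
  have hE : E ≤ Φ.perp E := by
    refine Submodule.span_le.2 fun c hc => Φ.mem_perp.2 fun d hd => ?_
    induction hd using Submodule.span_induction with
    | mem d hd => exact hperp d c hd hc
    | zero => simp
    | add a b _ _ ha hb => simp [ha, hb]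
    | smul a b _ hb => simp [hb]
  have hE3 : (E : Set V).ncard ≤ 8 := by
    have h3 := Submodule.finrank_mono hE
    have h4 := hΦ.finrank_perp_add E
    rw [ncard_submodule, hq]
    exact Nat.pow_le_pow_right (by norm_num) (by omega : finrank F E ≤ 3)
  have hinv : ∀ g ∈ H, ∀ v ∈ E, g.1 v ∈ E := fun g hg v hv => by
    induction hv using Submodule.span_induction with
    | mem d hd => exact Submodule.subset_span (QIn.conj hd ((hmem g).2 hg) g.2)
    | zero => simp
    | add a b _ _ ha hb => rw [map_add]; exact E.add_mem ha hb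
    | smul a b _ hb => rw [map_smul]; exact E.smul_mem a hb
  have hcE : c0 ∈ E := Submodule.subset_span hQ0
  have hcV : Nat.card V = 64 := by
    rw [← Set.ncard_univ, ← Submodule.top_coe (R := F), ncard_submodule, hq, finrank_top, hV]; rfl
  have h63 : ({0}ᶜ : Set V).ncard = 63 := by rw [Set.ncard_compl, hcV]; simp
  have hsp : ∀ v : V, v ≠ 0 → ((F ∙ v : Submodule F V) : Set V).ncard = 2 := fun v hv => by
    rw [ncard_submodule, hq, finrank_span_singleton hv]; rfl
  by_cases hd : ∃ d ∈ E, d ∉ F ∙ c0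
  · obtain ⟨d, hdE, hd⟩ := hd
    have h1 := ncard_orbit_le (G := Φ.O) ((1 : Φ.O) : Φ.O ⧸ H)
      (K := {p : V × V | p.1 ≠ 0 ∧ p.2 ∉ F ∙ p.1 ∧ Φ.B p.1 p.2 = 0}) (S := (E : Set V) ×ˢ E)
      (Set.toFinite _) (c0, d) (by
        rintro ⟨v, w⟩ ⟨hv, hw, hvw⟩
        have hB : Φ.B c0 d = 0 := Φ.mem_perp.1 (hE hdE) _ hcE
        obtain ⟨g, hg, h⟩ := hΦ.witt_fin (linearIndependent_pair_of_notMem hc0 hd)
          (linearIndependent_pair_of_notMem hv hw) (by
            have := Φ.B_eq_zero_symm hB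
            have := Φ.B_eq_zero_symm hvw
            intro i j
            fin_cases i <;> fin_cases j <;> simp_all [(sing_alt hε hκ _).1])
          (fun i => by rw [Q_of_κ hκ, Q_of_κ hκ])
        exact ⟨⟨g, hg⟩, Prod.ext (h 0) (h 1)⟩)
      (fun g hg => by
        rw [smul_one_coe_iff] at hg
        exact ⟨hinv g hg _ hcE, hinv g hg _ hdE⟩) (exists_smul_one_coe H)
    have h3 := sum_le_of_fiber (Set.toFinite
      {p : V × V | p.1 ≠ 0 ∧ p.2 ∉ F ∙ p.1 ∧ Φ.B p.1 p.2 = 0}) Prod.fst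
      (Set.toFinite ({0}ᶜ : Set V)).toFinset (fun _ => 30) 1 (by
        intro v hv
        have hv : v ≠ 0 := by simpa using hv
        have h5 := finrank_perp_single hΦ hv
        have h6 : ((Φ.perp (F ∙ v) : Set V) \ (F ∙ v : Submodule F V)).ncard = 30 := by
          rw [Set.ncard_sdiff (by
            intro w hw
            obtain ⟨t, rfl⟩ := Submodule.mem_span_singleton.1 hw
            simp [Φ.mem_perp_span_singleton, (sing_alt hε hκ v).1]), hsp v hv, ncard_submodule,
            hq, show finrank F (Φ.perp (F ∙ v)) = 5 by omega]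
          rfl
        rw [one_mul, ← h6]
        refine Set.ncard_le_ncard_of_injOn (fun w => (v, w)) ?_ fun a _ b _ e => (Prod.ext_iff.1 e).2
        intro w hw
        exact ⟨⟨hv, hw.2, Φ.mem_perp_span_singleton.1 hw.1⟩, rfl⟩)
    rw [Finset.sum_const, smul_eq_mul, ← Set.ncard_eq_toFinset_card, h63] at h3
    rw [← Subgroup.index_eq_card, h27, Set.ncard_prod] at h1
    nlinarith
  · push Not at hd
    have h1 := ncard_orbit_le (G := Φ.O) ((1 : Φ.O) : Φ.O ⧸ H)
      (K := ({0}ᶜ : Set V)) (S := (F ∙ c0 : Submodule F V))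
      (Set.toFinite _) c0 (by
        intro v hv
        obtain ⟨g, hg, h⟩ := hΦ.witt_one hc0 hv
          (by rw [(sing_alt hε hκ _).1, (sing_alt hε hκ _).1]) (by rw [Q_of_κ hκ, Q_of_κ hκ])
        exact ⟨⟨g, hg⟩, h⟩)
      (fun g hg => by
        rw [smul_one_coe_iff] at hg
        exact hd _ (hinv g hg _ hcE)) (exists_smul_one_coe H)
    rw [← Subgroup.index_eq_card, h27, h63, hsp c0 hc0] at h1
    omega

end Six

namespace OC

variable {F V : Type*} [Field F] [AddCommGroup V] [Module F V] [FiniteDimensional F V]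
  (C : OC F V) (h2 : (2 : F) = 0)

/-- the polar form in characteristic two -/
def alt : Form (RingHom.id F) V := ofAlt C.Φ.B fun x => by rw [C.self, h2, zero_mul]

/-- the inclusion into the symplectic group -/
def toAlt : C.Φ.O →* (C.alt h2).O := Subgroup.inclusion fun _ hg => ⟨hg.1, fun _ => rfl⟩

theorem exists_alt_equiv {m : ℕ} (hV : finrank F V = 2 * m) :
    Nonempty ((H22.spForm m F).O ≃* (C.alt h2).O) := by
  obtain ⟨e, h1, h3⟩ := exists_equiv_spForm (Φ := C.alt h2) C.hΦ rfl rfl hV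
  exact ⟨oCongr _ _ e h1 h3⟩

theorem not_num_alt [Fintype F] (hq : Fintype.card F = 2)
    (hperf : commutator (C.alt h2).O = ⊤) (H : Subgroup (C.alt h2).O) (hH : H ≠ ⊤) :
    ¬ C.Num H.index := by
  intro hN
  have hV := C.hV
  have := finite_of_fd F V
  have : Finite (V ≃ₗ[F] V) := Finite.of_injective _ DFunLike.coe_injective
  have : Nontrivial V := Module.nontrivial_of_finrank_pos (R := F) (by omega)
  letI : MulAction C.Φ.O ((C.alt h2).O ⧸ H) := MulAction.compHom _ (C.toAlt h2)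
  have h1 : ∀ g ∈ C.G, C.toAlt h2 g ∈ H.normalCore := fun g hg => by
    rw [Subgroup.normalCore_eq_ker]
    ext x
    exact C.fix_of_num (x := x) (Set.toFinite _) (hN.mono (by
      rw [Subgroup.index_eq_card, ← Set.ncard_univ]
      exact Set.ncard_le_ncard (Set.subset_univ _))) hg
  rcases normal_le_center_or_eq_top_alt (Φ := C.alt h2) C.hΦ rfl rfl hperf H.normalCore
    inferInstance with h | h
  · have h3 := card_center_alt (Φ := C.alt h2) C.hΦ rfl rfl
    rw [hq, show Nat.gcd 2 (2 - 1) = 1 from rfl, Subgroup.card_eq_one] at h3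
    obtain ⟨c, hc, hc0⟩ := C.exists_sing
    obtain ⟨u, hu, hQ⟩ := C.exists_nonsing_perp c
    obtain ⟨c', hh⟩ := exists_hyp C.hΦ (C.sing.2 hc) hc0
    have h4 := h (h1 _ (C.s_mem c u))
    rw [h3, Subgroup.mem_bot] at h4
    have h5 : (C.s c u).1 c' = c' := congrArg (fun g : (C.alt h2).O => g.1 c') h4
    rw [sg_apply _ _ hc hu, hh.one, one_smul] at h5
    have h6 : u = (C.Φ.B u c' - C.Φ.Q u * 1) • c := by linear_combination (norm := module) -h5
    exact hQ (by rw [h6, C.Φ.Q_smul, hc, mul_zero])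
  · exact hH (eq_top_iff.2 (h ▸ H.normalCore_le))

end OC

section Final

variable {F : Type*} [Field F] [Fintype F]

theorem num_minus_six (hq : Fintype.card F = 2) {a b : F}
    (hab : ∀ z₁ z₂ : F, z₁ ^ 2 + a * z₁ * z₂ + b * z₂ ^ 2 = 0 → z₁ = 0 ∧ z₂ = 0)
    (hV : 6 ≤ finrank F ((Fin 2 ⊕ Fin 2) ⊕ Fin 2 → F)) {ω : ℕ} (hω : ω < 27) :
    (mkOC (qMinus 2 F a b) (qMinus_nondeg 2 hab) hV).Num ω := by
  have hn : finrank F ((Fin 2 ⊕ Fin 2) ⊕ Fin 2 → F) = 6 := by simp
  set C := mkOC (qMinus 2 F a b) (qMinus_nondeg 2 hab) hV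
  have hN0 : C.N 0 = _ := (nsing_ofQuad _).symm.trans (nsing_qMinus 2 hab)
  have hN1 : C.N 1 = _ := N_minus 2 hab hV 1
  have h3 := aniso_fiber hab one_ne_zero
  rw [hq] at hN0 hN1 h3
  norm_num at hN0 hN1 h3
  constructor <;> try (intro h; omega)
  · rw [hn, hq]; omega
  · rw [hN0, hq]; omega
  · intro a ha
    obtain rfl := (eq_zero_or_one_card_two hq a).resolve_left ha
    exact ⟨by omega, fun h => absurd (two_eq_zero_card_two hq) h⟩
  · intro _; rw [hn]; omega
  · exact fun _ E hE => finrank_le_of_sing_qMinus 2 hab E hE.2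

theorem minIdx_sp_two (hq : Fintype.card F = 2) (m : ℕ) (hm : 3 ≤ m) :
    MinIdx (PSp m F) (2 ^ (m - 1) * (2 ^ m - 1)) := by
  have h2 := two_eq_zero_card_two hq
  have hc := card_center_Sp (F := F) m (by omega)
  rw [hq, show Nat.gcd 2 (2 - 1) = 1 from rfl, Subgroup.card_eq_one] at hc
  refine MinIdx.congr (((QuotientGroup.quotientMulEquivOfEq hc).trans
    QuotientGroup.quotientBot).trans (spEquiv m F)) ?_
  have hperf := commutator_eq_top_congr (spEquiv m F) (commutator_Sp_eq_top m (Or.inl hm))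
  obtain ⟨a, b, hab⟩ := exists_aniso_pair F
  obtain ⟨k, rfl⟩ : ∃ k, m = k + 1 := ⟨m - 1, by omega⟩
  have hn : finrank F ((Fin k ⊕ Fin k) ⊕ Fin 2 → F) = 2 * (k + 1) := by simp; omega
  set C := mkOC (qMinus k F a b) (qMinus_nondeg k hab) (by omega)
  obtain ⟨e⟩ := C.exists_alt_equiv h2 hn
  have hex : ∃ H : Subgroup (C.alt h2).O, H.index = 2 ^ (k + 1 - 1) * (2 ^ (k + 1) - 1) := by
    refine ⟨(C.toAlt h2).range, ?_⟩
    have h1 := (C.toAlt h2).range.index_mul_card
    have h3 : Nat.card (C.toAlt h2).range = _ :=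
      (Nat.card_congr (MonoidHom.ofInjective (Subgroup.inclusion_injective _)).toEquiv.symm).trans
        (card_O_qMinus k hab)
    rw [h3, card_O_alt (k + 1) (C.alt h2) C.hΦ rfl rfl hn, Finset.prod_range_succ, hq] at h1
    have h4 : 0 < ∏ i ∈ Finset.range k, (2 ^ (2 * (i + 1)) - 1) := Finset.prod_pos fun i _ => by
      have : 2 ^ 1 ≤ 2 ^ (2 * (i + 1)) := Nat.pow_le_pow_right (by omega) (by omega)
      omega
    refine Nat.eq_of_mul_eq_mul_right (by positivity) (h1.trans ?_)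
    obtain ⟨y, hy⟩ : ∃ y, 2 ^ (k + 1) = y + 1 := ⟨2 ^ (k + 1) - 1, by
      have : 0 < 2 ^ (k + 1) := by positivity
      omega⟩
    rw [show 2 ^ (2 * (k + 1)) - 1 = y * (y + 2) by
      rw [mul_comm, pow_mul, hy]; apply Nat.sub_eq_of_eq_add; ring, hy]
    simp only [Nat.add_sub_cancel]
    ring
  by_cases h3 : k = 2
  · subst h3
    refine MinIdx.congr e ⟨fun H hH => ?_, hex⟩
    have h1 := C.not_num_alt h2 hq (commutator_eq_top_congr e hperf) H hH
    have h4 := sp_six_index (Φ := C.alt h2) C.hΦ rfl rfl hq hn H hH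
    by_contra h5
    exact h1 (num_minus_six hq hab _ (by norm_num at h5; omega))
  · have hn' : finrank F (Fin (k + 1) ⊕ Fin (k + 1) → F) = 2 * (k + 1) := by simp; omega
    set C' := mkOC (qPlus (k + 1) F) (qPlus_nondeg (k + 1)) (by omega)
    obtain ⟨e'⟩ := C'.exists_alt_equiv h2 hn'
    obtain ⟨H, hH⟩ := hex
    refine MinIdx.congr e' ⟨fun H hH => ?_, H.comap ((e'.symm.trans e : _ ≃* _) : _ →* _), by
      rw [Subgroup.index_comap_of_surjective _ (e'.symm.trans e).surjective, hH]⟩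
    by_contra h5
    exact C'.not_num_alt h2 hq (commutator_eq_top_congr e' hperf) H hH
      (minIdx_plus_two_aux hq (k + 1) (by omega) _ (by omega))

end Final

end H22
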