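import Cfsg.Agent.H22.MdM

/-!
Minimal degree of the linear groups, part one: the transvection groups with a common centre.
-/

set_option autoImplicit false

namespace H22

open H23 Module Pointwise Cfsg

namespace LC

variable {F V : Type*} [Field F] [AddCommGroup V] [Module F V]

open Classical in
/-- transvections, as a total function -/
noncomputable def t (c : V) (φ : Dual F V) : V ≃ₗ[F] V := if h : φ c = 0 then tv φ c h else 1

theorem t_eq {c : V} {φ : Dual F V} (h : φ c = 0) : t c φ = tv φ c h := dif_pos h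

theorem t_apply {c : V} {φ : Dual F V} (h : φ c = 0) (x : V) : t c φ x = x + φ x • c := by
  rw [t_eq h, tv_apply]

theorem t_apply_of {c : V} {φ : Dual F V} {x : V} (h : φ x = 0) : t c φ x = x := by
  by_cases h1 : φ c = 0
  · rw [t_apply h1, h, zero_smul, add_zero]
  · rw [t, dif_neg h1]; rfl

theorem t_mem [FiniteDimensional F V] (c : V) (φ : Dual F V) : t c φ ∈ SLv F V := by
  by_cases h1 : φ c = 0
  · rw [t_eq h1]; exact tv_mem_SLv h1
  · rw [t, dif_neg h1]; exact one_mem _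

theorem conj_t (g : V ≃ₗ[F] V) (c : V) (φ : Dual F V) :
    g * t c φ * g⁻¹ = t (g c) (φ ∘ₗ (g⁻¹).toLinearMap) := by
  by_cases h1 : φ c = 0
  · ext x
    rw [t_apply (by simpa using h1)]
    simp [t_apply h1]
  · rw [t, dif_neg h1, t, dif_neg (by simpa using h1), mul_one, mul_inv_cancel]

/-- the transvection group with centre `c` -/
noncomputable def A (c : V) : AH (Dual F V) (V ≃ₗ[F] V) where
  e := t c
  U := (LinearMap.ker (Dual.eval F V c)).toAddSubgroup
  add φ hφ χ hχ := by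
    have h1 : φ c = 0 := hφ
    have h2 : χ c = 0 := hχ
    ext x
    rw [t_apply (by simp [h1, h2])]
    simp only [LinearEquiv.mul_apply, t_apply h1, t_apply h2, map_add, map_smul, h1,
      LinearMap.add_apply, smul_eq_mul, mul_zero, add_zero]
    module

theorem mem_A_U {c : V} {φ : Dual F V} : φ ∈ (A c).U ↔ φ c = 0 := Iff.rfl

/-- evaluation -/
def bD : V →+ Dual F V →+ F :=
  AddMonoidHom.mk' (fun x => (Dual.eval F V x).toAddMonoidHom) (fun x y => by ext; simp)

@[simp] theorem bD_apply (x : V) (φ : Dual F V) : bD x φ = φ x := rfl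

variable [Fintype F]

variable (F) in
/-- a non-trivial additive character -/
noncomputable def ψ0 : AddChar F ℂ := exists_addChar_ne.choose

theorem hψ0 : ∃ a, ψ0 F a ≠ 1 := exists_addChar_ne.choose_spec

theorem bD_nd (φ : Dual F V) (h : ∀ v, ψ0 F (bD v φ) = 1) : φ = 0 :=
  LinearMap.ext fun y => eq_zero_of_addChar hψ0 fun s => by simpa using h (s • y)

theorem bD_nd' (v : V) (h : ∀ φ : Dual F V, ψ0 F (bD v φ) = 1) : v = 0 :=
  (Module.forall_dual_apply_eq_zero_iff F v).1 fun φ =>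
    eq_zero_of_addChar hψ0 fun s => by simpa using h (s • φ)

variable {X : Type*} [MulAction (V ≃ₗ[F] V) X]

variable (F) in
/-- the annihilator of the stabiliser -/
noncomputable def Dp (c : V) (x : X) : AddSubgroup V := pp (ψ0 F) bD ((A (F := F) c).st x)

omit [Fintype F] in
theorem mem_st {c : V} {φ : Dual F V} {x : X} : φ ∈ (A c).st x ↔ φ c = 0 ∧ t c φ • x = x :=
  Iff.rfl

theorem mem_Dp_self {c v : V} (x : X) (hv : v ∈ F ∙ c) : v ∈ Dp F c x := fun φ hφ => by
  obtain ⟨s, rfl⟩ := Submodule.mem_span_singleton.1 hv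
  simp [(mem_st.1 hφ).1]

theorem apply_eq_zero {c v : V} {x : X} {φ : Dual F V} (hv : v ∈ Dp F c x)
    (h : ∀ s : F, s • φ ∈ (A c).st x) : φ v = 0 :=
  eq_zero_of_addChar hψ0 fun s => by simpa using hv _ (h s)

omit [Fintype F] in
theorem mem_st_conj (g : V ≃ₗ[F] V) (c : V) (x : X) (φ : Dual F V) :
    φ ∈ (A c).st x ↔ φ ∘ₗ (g⁻¹).toLinearMap ∈ (A (g c)).st (g • x) := by
  rw [mem_st, mem_st, ← conj_t, mul_smul, mul_smul, inv_smul_smul, smul_left_cancel_iff]
  simp

theorem mem_Dp_conj (g : V ≃ₗ[F] V) (c : V) (x : X) (v : V) :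
    v ∈ Dp F c x ↔ g v ∈ Dp F (g c) (g • x) := by
  constructor
  · intro h φ hφ
    refine h (φ ∘ₗ g.toLinearMap) ((mem_st_conj g c x _).2 ?_)
    convert hφ using 1
    ext; simp
  · intro h φ hφ
    simpa using h _ ((mem_st_conj g c x φ).1 hφ)

variable [FiniteDimensional F V]

theorem fix_of_Dp {c : V} {x : X} {φ : Dual F V} (h : ∀ v ∈ Dp F c x, φ v = 0) :
    t c φ • x = x := by
  have := finite_of_fd F V
  have := finite_of_fd F (Dual F V)
  refine (mem_st.1 ?_).2
  rw [← pp_pp (ψ0 F) bD bD_nd bD_nd' ((A c).st x)]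
  intro v hv
  simp [h v hv]

theorem card_V : Nat.card V = Fintype.card F ^ finrank F V := by
  rw [Module.natCard_eq_pow_finrank (K := F) (V := V), Nat.card_eq_fintype_card]

theorem card_A {c : V} (h0 : c ≠ 0) :
    Nat.card (A (F := F) c).U = Fintype.card F ^ (finrank F V - 1) := by
  refine (card_submodule (LinearMap.ker (Dual.eval F V c))).trans ?_
  have := Module.Dual.finrank_ker_add_one_of_ne_zero (f := Dual.eval F V c) fun h =>
    h0 ((Module.forall_dual_apply_eq_zero_iff F c).1 fun φ => LinearMap.congr_fun h φ)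
  rw [Subspace.dual_finrank_eq] at this
  rw [← this, Nat.add_sub_cancel]

theorem q_mul_card {c : V} (h0 : c ≠ 0) :
    Fintype.card F * Nat.card (A (F := F) c).U = Nat.card V := by
  have : Nontrivial V := ⟨c, 0, h0⟩
  rw [card_A h0, card_V (F := F), ← pow_eq_mul_pred finrank_pos]

theorem card_Dp {c : V} (h0 : c ≠ 0) (x : X) :
    Nat.card (Dp F c x) = Fintype.card F * ((A (F := F) c).orb x).ncard := by
  have := finite_of_fd F V
  have := finite_of_fd F (Dual F V)
  exact AH.card_pp_st _ _ _ bD_nd (q_mul_card h0) x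

variable (F V) in
/-- a small invariant set -/
structure Sm (Ω : Set X) : Prop where
  fin : Ω.Finite
  inv : ∀ g ∈ SLv F V, ∀ x ∈ Ω, g • x ∈ Ω
  num : Ω.ncard * (Fintype.card F - 1) + Fintype.card F ≤ Fintype.card F ^ finrank F V
  dim : 3 ≤ finrank F V

variable {Ω : Set X} (h : Sm F V Ω)
include h

theorem count {c : V} (h0 : c ≠ 0) {k : ℕ} [DecidableEq (AddSubgroup V)]
    (hk : ∀ v ∉ F ∙ c, k ≤ {D | D ∈ h.fin.toFinset.image (Dp F c) ∧ v ∈ D}.ncard) :
    k * (Fintype.card F ^ finrank F V - Fintype.card F) ≤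
        ∑ D ∈ h.fin.toFinset.image (Dp F c), (Nat.card D - Fintype.card F) ∧
      (Fintype.card F - 1) * (∑ D ∈ h.fin.toFinset.image (Dp F c), (Nat.card D - Fintype.card F) +
        (h.fin.toFinset.image (Dp F c)).card * Fintype.card F) ≤
        Fintype.card F * (Fintype.card F ^ finrank F V - Fintype.card F) := by
  have := finite_of_fd F V
  have := finite_of_fd F (Dual F V)
  set T := h.fin.toFinset.image (Dp F c)
  have hT : ∀ D, D ∈ T ↔ ∃ x ∈ Ω, Dp F c x = D := fun D => by simp [T]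
  have hc : ((F ∙ c : Submodule F V) : Set V).ncard = Fintype.card F := by
    rw [ncard_submodule, finrank_span_singleton h0, pow_one]
  have h3 : ∀ D ∈ T, ((F ∙ c : Submodule F V) : Set V) ⊆ D := fun D hD v hv => by
    obtain ⟨x, -, rfl⟩ := (hT D).1 hD
    exact mem_Dp_self x hv
  constructor
  · have h1 := mul_ncard_le_sum (Set.toFinite ((F ∙ c : Submodule F V) : Set V)ᶜ) T
      (fun D v => v ∈ D) k hk
    rw [Set.ncard_compl, hc, card_V (F := F)] at h1
    refine h1.trans (le_of_eq (Finset.sum_congr rfl fun D hD => ?_))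
    rw [← hc, ← SetLike.coe_sort_coe, Nat.card_coe_set_eq, ← Set.ncard_sdiff (h3 D hD)]
    congr 1
    ext v
    exact and_comm
  · have h1 := AH.sum_card_pp_le (A c) (ψ0 F) bD bD_nd (q_mul_card h0) h.fin
      (fun φ _ x hx => h.inv _ (t_mem c φ) x hx) T fun D hD => (hT D).1 hD
    have h2 : ∑ D ∈ T, (Nat.card D - Fintype.card F) + T.card * Fintype.card F =
        ∑ D ∈ T, Nat.card D := by
      rw [← smul_eq_mul, ← Finset.sum_const, ← Finset.sum_add_distrib]
      refine Finset.sum_congr rfl fun D hD => Nat.sub_add_cancel ?_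
      rw [← hc]
      exact Set.ncard_le_ncard (h3 D hD)
    rw [h2]
    have h4 := h.num
    calc _ ≤ (Fintype.card F - 1) * (Fintype.card F * Ω.ncard) := Nat.mul_le_mul_left _ h1
      _ = Fintype.card F * (Ω.ncard * (Fintype.card F - 1)) := by ring
      _ ≤ _ := Nat.mul_le_mul_left _ (by omega)

theorem ncard_le {c v w : V} (h0 : c ≠ 0) (hv : v ∉ F ∙ c) (hw : w ∉ F ∙ c)
    [DecidableEq (AddSubgroup V)] :
    {D | D ∈ h.fin.toFinset.image (Dp F c) ∧ v ∈ D}.ncard ≤
      {D | D ∈ h.fin.toFinset.image (Dp F c) ∧ w ∈ D}.ncard := by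
  obtain ⟨g, hg, h1⟩ := exists_SLv_map_family (linearIndependent_pair_of_notMem h0 hv)
    (linearIndependent_pair_of_notMem h0 hw) (by have := h.dim; simp; omega)
  have h2 : g c = c := h1 0
  have h3 : g v = w := h1 1
  refine Set.ncard_le_ncard_of_injOn (fun D => g • D) ?_ (MulAction.injective g).injOn
    ((Finset.finite_toSet _).subset fun _ hD => hD.1)
  rintro D ⟨hD, hvD⟩
  obtain ⟨x, hx, rfl⟩ := Finset.mem_image.1 hD
  refine ⟨Finset.mem_image.2 ⟨g • x, by simpa using h.inv g hg x (by simpa using hx), ?_⟩,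
    h3 ▸ AddSubgroup.smul_mem_pointwise_smul _ _ _ hvD⟩
  ext u
  obtain ⟨u, rfl⟩ := g.surjective u
  rw [← h2, ← mem_Dp_conj, h2]
  exact (AddSubgroup.smul_mem_pointwise_smul_iff (a := g)).symm

omit h in
theorem lt_pow (h : 2 ≤ finrank F V) : Fintype.card F < Fintype.card F ^ finrank F V := by
  simpa using Nat.pow_lt_pow_right (Fintype.one_lt_card (α := F)) (by omega : 1 < finrank F V)

theorem Dp_unique {c v : V} (h0 : c ≠ 0) (hv : v ∉ F ∙ c) {x y : X} (hx : x ∈ Ω) (hy : y ∈ Ω)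
    (h1 : v ∈ Dp F c x) (h2 : v ∈ Dp F c y) : Dp F c x = Dp F c y := by
  classical
  by_contra hne
  have hxT : Dp F c x ∈ h.fin.toFinset.image (Dp F c) := Finset.mem_image_of_mem _ (by simpa)
  have hyT : Dp F c y ∈ h.fin.toFinset.image (Dp F c) := Finset.mem_image_of_mem _ (by simpa)
  obtain ⟨h3, h4⟩ := count h h0 (k := 2) fun w hw => le_trans (by
    rw [← Set.ncard_pair hne]
    refine Set.ncard_le_ncard ?_ ((Finset.finite_toSet _).subset fun _ hD => hD.1)
    rintro D (rfl | rfl)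
    exacts [⟨hxT, h1⟩, ⟨hyT, h2⟩]) (ncard_le h h0 hv hw)
  have h5 := Finset.card_pos.2 ⟨_, hxT⟩
  obtain ⟨r, hr⟩ : ∃ r, Fintype.card F = r + 2 :=
    ⟨Fintype.card F - 2, by have := Fintype.one_lt_card (α := F); omega⟩
  generalize Fintype.card F ^ finrank F V - Fintype.card F = a at h3 h4
  rw [hr, show r + 2 - 1 = r + 1 from rfl] at h4
  rw [hr] at h3
  generalize ∑ D ∈ h.fin.toFinset.image (Dp F c), (Nat.card D - (r + 2)) = S at h3 h4
  have := Nat.mul_le_mul_left (r + 1) h3
  have := Nat.mul_le_mul_right (r + 2) h5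
  nlinarith

theorem ker_le {c v w u : V} (h0 : c ≠ 0) (hv : v ∉ F ∙ c) {x : X} (hx : x ∈ Ω)
    (h1 : v ∈ Dp F c x) (h2 : w ∈ Dp F c x) {φ : Dual F V} (hc : φ c = 0) (hφv : φ v = 0)
    (hw : φ w = 1) (hu : φ u = 0) : u ∈ Dp F c x := by
  have h3 := (mem_Dp_conj (t u φ) c x v).1 h1
  have h4 := (mem_Dp_conj (t u φ) c x w).1 h2
  rw [t_apply_of hc, t_apply_of hφv] at h3
  rw [t_apply_of hc, ← Dp_unique h h0 hv hx (h.inv _ (t_mem u φ) x hx) h1 h3, t_apply hu, hw,
    one_smul] at h4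
  simpa using sub_mem h4 h2

omit h [Fintype F] [FiniteDimensional F V] in
theorem exists_dual_two {c v w : V} (hw : w ∉ Submodule.span F {c, v}) :
    ∃ φ : Dual F V, φ c = 0 ∧ φ v = 0 ∧ φ w = 1 := by
  obtain ⟨φ, h1, h2⟩ := exists_dual_eq_one hw
  exact ⟨φ, h1 c (Submodule.subset_span (by simp)), h1 v (Submodule.subset_span (by simp)), h2⟩

theorem eq_top {c v w : V} (h0 : c ≠ 0) (hv : v ∉ F ∙ c) {x : X} (hx : x ∈ Ω)
    (h1 : v ∈ Dp F c x) (h2 : w ∈ Dp F c x) (hw : w ∉ Submodule.span F {c, v}) :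
    Dp F c x = ⊤ := by
  obtain ⟨φ, k1, k2, k3⟩ := exists_dual_two hw
  have hw' : w ∉ F ∙ c := fun e => hw (Submodule.span_mono (by simp) e)
  obtain ⟨χ, l1, l2, l3⟩ := exists_dual_two (F := F) (c := c) (v := w) (w := v) (by
    intro e
    obtain ⟨a, b, e⟩ := Submodule.mem_span_pair.1 e
    have := congrArg φ e
    simp only [map_add, map_smul, k1, k2, k3, smul_eq_mul, mul_zero, mul_one, zero_add] at this
    exact hv (Submodule.mem_span_singleton.2 ⟨a, by rw [← e, this, zero_smul, add_zero]⟩))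
  refine eq_top_iff.2 fun z _ => ?_
  have := add_mem (ker_le h h0 hv hx h1 h2 k1 k2 k3 (u := z - φ z • w) (by simp [k3]))
    (ker_le h h0 hw' hx h2 h1 l1 l2 l3 (u := φ z • w) (by simp [l2]))
  simpa using this

omit h [Fintype F] [FiniteDimensional F V] in
theorem finrank_span_two {c v : V} (h0 : c ≠ 0) (hv : v ∉ F ∙ c) :
    finrank F (Submodule.span F {c, v}) = 2 := by
  have := finrank_span_eq_card (linearIndependent_pair_of_notMem h0 hv)
  rwa [Matrix.range_cons, Matrix.range_cons, Matrix.range_empty, Set.union_empty,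
    Set.singleton_union] at this

theorem all_line {c v : V} (h0 : c ≠ 0) (hv : v ∉ F ∙ c) {x : X} (hx : x ∈ Ω)
    (h1 : v ∈ Dp F c x) (hne : Dp F c x ≠ ⊤) {y : X} (hy : y ∈ Ω) :
    ∃ w ∉ F ∙ c, Dp F c y = (Submodule.span F {c, w}).toAddSubgroup := by
  classical
  have := finite_of_fd F V
  have hq := Fintype.one_lt_card (α := F)
  have hxT : Dp F c x ∈ h.fin.toFinset.image (Dp F c) := Finset.mem_image_of_mem _ (by simpa)
  have hsp : ∀ w ∉ F ∙ c, Nat.card (Submodule.span F {c, w}).toAddSubgroup =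
      Fintype.card F ^ 2 := fun w hw =>
    (card_submodule (Submodule.span F {c, w})).trans (by rw [finrank_span_two h0 hw])
  have hle : ∀ z ∈ Ω, ∃ w ∉ F ∙ c, Dp F c z ≤ (Submodule.span F {c, w}).toAddSubgroup := by
    intro z hz
    by_cases h2 : ∃ w ∉ F ∙ c, w ∈ Dp F c z
    · obtain ⟨w, hw, h2⟩ := h2
      refine ⟨w, hw, fun u hu => by_contra fun h3 => hne ?_⟩
      have h4 := eq_top h h0 hw hz h2 hu h3
      rw [Dp_unique h h0 hv hx hz h1 (by rw [h4]; trivial), h4]
    · push Not at h2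
      exact ⟨v, hv, fun u hu => Submodule.span_mono (by simp) (by_contra fun h3 => h2 u h3 hu)⟩
  obtain ⟨h3, h4⟩ := count h h0 (k := 1) fun w hw => le_trans
    ((Set.ncard_pos ((Finset.finite_toSet _).subset fun _ hD => hD.1)).2
      ⟨Dp F c x, by exact ⟨hxT, h1⟩⟩) (ncard_le h h0 hv hw)
  obtain ⟨w, hw, h5⟩ := hle y hy
  refine ⟨w, hw, AddSubgroup.eq_of_le_of_card_ge h5 (not_lt.1 fun h6 => ?_)⟩
  have h7 := Finset.sum_lt_sum (s := h.fin.toFinset.image (Dp F c))
    (f := fun D : AddSubgroup V => Nat.card D - Fintype.card F)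
    (g := fun _ => Fintype.card F ^ 2 - Fintype.card F) (by
      intro D hD
      obtain ⟨z, hz, rfl⟩ := Finset.mem_image.1 hD
      obtain ⟨u, hu, h8⟩ := hle z (by simpa using hz)
      have := AddSubgroup.card_le_of_le h8
      rw [hsp u hu] at this
      omega) ⟨Dp F c y, Finset.mem_image_of_mem _ (by simpa), by
      rw [hsp w hw] at h6
      have : Fintype.card F < Fintype.card F ^ 2 := by nlinarith
      omega⟩
  rw [Finset.sum_const, smul_eq_mul] at h7
  obtain ⟨r, hr⟩ : ∃ r, Fintype.card F = r + 1 := ⟨Fintype.card F - 1, by omega⟩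
  generalize Fintype.card F ^ finrank F V - Fintype.card F = a at h3 h4
  rw [hr] at h3 h4 h7
  rw [show (r + 1) ^ 2 - (r + 1) = r * (r + 1) by
    apply Nat.sub_eq_of_eq_add; ring] at h7
  rw [Nat.add_sub_cancel] at h4
  nlinarith

omit h in
theorem no_line {x : X} (hV : 3 ≤ finrank F V) (hL : ∀ c : V, c ≠ 0 →
    ∃ w ∉ F ∙ c, Dp F c x = (Submodule.span F {c, w}).toAddSubgroup) : False := by
  choose! w hw hD using hL
  set l : V → Submodule F V := fun c => Submodule.span F {c, w c}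
  have hl : ∀ c ≠ 0, finrank F (l c) = 2 := fun c hc => finrank_span_two hc (hw c hc)
  have hcl : ∀ c, c ∈ l c := fun c => Submodule.subset_span (by simp)
  have k1 : ∀ c ≠ 0, ∀ e ≠ 0, ∀ f ∈ l e, f ∉ l c ⊔ F ∙ e → c ∈ l e := by
    intro c hc e he f hf hf'
    obtain ⟨φ, h1, h2⟩ := exists_dual_eq_one hf'
    have h3 : t c φ • x = x := fix_of_Dp fun v hv => h1 v (Submodule.mem_sup_left (by
      rwa [hD c hc] at hv))
    have h4 := (mem_Dp_conj (t c φ) e x f).1 (by rw [hD e he]; exact hf)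
    rw [h3, t_apply_of (h1 e (Submodule.mem_sup_right (Submodule.mem_span_singleton_self e))),
      t_apply (h1 c (Submodule.mem_sup_left (hcl c))), h2, one_smul, hD e he] at h4
    simpa using (l e).sub_mem h4 hf
  have k2 : ∀ c ≠ 0, ∀ d ∈ l c, d ∉ F ∙ c → l d = l c := by
    intro c hc d hd hdc
    have hd0 : d ≠ 0 := by rintro rfl; exact hdc (zero_mem _)
    by_cases h1 : l d ≤ l c
    · exact Submodule.eq_of_le_of_finrank_eq h1 (by rw [hl c hc, hl d hd0])
    · obtain ⟨f, hf, hf'⟩ := SetLike.not_le_iff_exists.1 h1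
      have h2 := k1 c hc d hd0 f hf (by
        rwa [sup_eq_left.2 ((Submodule.span_singleton_le_iff_mem _ _).2 hd)])
      have h3 : Submodule.span F {c, d} = l c := Submodule.eq_of_le_of_finrank_eq
        (Submodule.span_le.2 (Set.pair_subset (hcl c) hd)) (by
          rw [hl c hc, finrank_span_two hc hdc])
      refine (Submodule.eq_of_le_of_finrank_eq ?_ (by rw [hl c hc, hl d hd0])).symm
      rw [← h3]
      exact Submodule.span_le.2 (Set.pair_subset h2 (hcl d))
  have : Nontrivial V := Module.nontrivial_of_finrank_pos (R := F) (by omega)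
  obtain ⟨c, hc⟩ := exists_ne (0 : V)
  obtain ⟨e, he⟩ : ∃ e, e ∉ l c := by
    by_contra! h1
    have := hl c hc
    rw [show l c = ⊤ from eq_top_iff.2 fun e _ => h1 e, finrank_top] at this
    omega
  have he0 : e ≠ 0 := by rintro rfl; exact he (zero_mem _)
  have k3 : ∀ a ∈ l c, a ∈ l e → a ∉ F ∙ e → False := by
    intro a h1 h2 h3
    have h4 := k2 e he0 a h2 h3
    by_cases h5 : a ∈ F ∙ c
    · obtain ⟨s, rfl⟩ := Submodule.mem_span_singleton.1 h5
      have hs : s ≠ 0 := by rintro rfl; exact h3 (by simp)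
      have h6 := k2 e he0 c (by simpa [hs] using (l e).smul_mem s⁻¹ h2)
        fun h7 => h3 (Submodule.smul_mem _ _ h7)
      exact he (h6 ▸ hcl e)
    · exact he (by rw [← k2 c hc a h1 h5, h4]; exact hcl e)
  have hwe : w e ∈ l e := Submodule.subset_span (by simp)
  by_cases h1 : w e ∈ l c ⊔ F ∙ e
  · obtain ⟨a, ha, b, hb, e1⟩ := Submodule.mem_sup.1 h1
    refine k3 a ha ?_ fun h2 => hw e he0 (e1 ▸ add_mem h2 hb)
    rw [eq_sub_of_add_eq e1]
    exact sub_mem hwe ((Submodule.span_singleton_le_iff_mem _ _).2 (hcl e) hb)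
  · refine k3 c (hcl c) (k1 c hc e he0 _ hwe h1) fun h2 => ?_
    obtain ⟨s, rfl⟩ := Submodule.mem_span_singleton.1 h2
    have hs : s ≠ 0 := by rintro rfl; exact hc (by simp)
    exact he (by simpa [hs] using (l (s • e)).smul_mem s⁻¹ (hcl _))

theorem dichotomy {c : V} (h0 : c ≠ 0) {x : X} (hx : x ∈ Ω) :
    (∀ φ : Dual F V, t c φ • x = x) ∨ Dp F c x = ⊤ := by
  by_cases h1 : ∃ v ∉ F ∙ c, v ∈ Dp F c x
  · obtain ⟨v, hv, h1⟩ := h1
    refine Or.inr (by_contra fun hne => no_line (x := x) h.dim fun d hd => ?_)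
    obtain ⟨g, hg, rfl⟩ := exists_SLv_map_one (F := F) (by have := h.dim; omega) h0 hd
    obtain ⟨w, hw, h2⟩ := all_line h h0 hv hx h1 hne (h.inv _ (inv_mem hg) x hx)
    refine ⟨g w, fun h3 => hw ?_, ?_⟩
    · obtain ⟨s, hs⟩ := Submodule.mem_span_singleton.1 h3
      exact Submodule.mem_span_singleton.2 ⟨s, g.injective (by rw [map_smul, hs])⟩
    · ext u
      obtain ⟨u, rfl⟩ := g.surjective u
      rw [← smul_inv_smul g x, ← mem_Dp_conj, h2]
      simp only [Submodule.mem_toAddSubgroup, Submodule.mem_span_pair, ← map_smul, ← map_add,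
        EmbeddingLike.apply_eq_iff_eq]
  · push Not at h1
    refine Or.inl fun φ => ?_
    by_cases h2 : φ c = 0
    · refine fix_of_Dp fun v hv => ?_
      obtain ⟨s, rfl⟩ := Submodule.mem_span_singleton.1 (by_contra fun h3 => h1 v h3 hv)
      simp [h2]
    · rw [t, dif_neg h2, one_smul]

end LC

end H22
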