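import Cfsg.Agent.H22.MdO

/-!
Minimal degree of the unitary groups, part one: Eichler transformations and the Heisenberg group.
-/

set_option autoImplicit false

namespace H22

open H23 H23.Form Module Pointwise Cfsg

theorem gorb_count {O X P : Type*} [Group O] [MulAction O X] [MulAction O P] {G : Subgroup O}
    {x : X} (hfin : (gorb G x).Finite) {K S : Set P} (hS : S.Finite)
    (hK : ∀ k ∈ K, ∃ g ∈ G, ∃ p ∈ S, g • p = k) (h : ∀ g ∈ G, g • x = x → ∀ p ∈ S, g • p ∈ S) :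
    K.ncard ≤ (gorb G x).ncard * S.ncard := by
  have hx : ∀ y ∈ gorb G x, ∃ g ∈ G, g • x = y := fun _ hy => hy
  choose! r hr hr' using hx
  choose! g hg p hp hp' using hK
  rw [← Set.ncard_prod]
  refine Set.ncard_le_ncard_of_injOn (fun k => (g k • x, (r (g k • x))⁻¹ • k)) ?_ ?_
    (hfin.prod hS)
  · intro k hk
    have h1 : g k • x ∈ gorb G x := ⟨_, hg k hk, rfl⟩
    refine ⟨h1, ?_⟩
    have := h ((r (g k • x))⁻¹ * g k) (mul_mem (inv_mem (hr _ h1)) (hg k hk))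
      (by rw [mul_smul, inv_smul_eq_iff, hr' _ h1]) _ (hp k hk)
    rwa [mul_smul, hp' k hk] at this
  · intro k _ k' _ e
    simp only [Prod.mk.injEq] at e
    rw [← e.1] at e
    exact smul_left_cancel _ e.2

theorem exists_addChar_one (F : Type*) [Field F] [Finite F] : ∃ ψ : AddChar F ℂ, ψ 1 ≠ 1 := by
  obtain ⟨ψ, a, ha⟩ := exists_addChar_ne (F := F)
  exact ⟨ψ.mulShift a, by simpa using ha⟩

theorem det_extendPerp {F V : Type*} [Field F] {σ : F →+* F} [AddCommGroup V] [Module F V]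
    [FiniteDimensional F V] {Φ : Form σ V} {U : Submodule F V} (hU : IsCompl U (Φ.perp U))
    (g : (Φ.restrict (Φ.perp U)).O) :
    LinearMap.det (extendPerp hU g).1.toLinearMap = LinearMap.det g.1.toLinearMap := by
  have := LinearMap.det_conj ((LinearMap.id : U →ₗ[F] U).prodMap g.1.toLinearMap)
    (Submodule.prodEquivOfIsCompl _ _ hU)
  rw [LinearMap.det_prodMap, LinearMap.det_id, one_mul] at this
  exact this

/-- a finite unitary space -/
structure UC (F V : Type*) [Field F] [Fintype F] [AddCommGroup V] [Module F V] where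
  q : ℕ
  σ : F →+* F
  hF : Fintype.card F = q ^ 2
  hσ : σ = conj hF
  Φ : Form σ V
  hΦ : Φ.Nondeg
  hε : Φ.ε = 1

namespace UC

variable {F V : Type*} [Field F] [Fintype F] [AddCommGroup V] [Module F V] (C : UC F V)

theorem two_le : 2 ≤ C.q := two_le_of_card_eq_sq C.hF

theorem σ_ne : C.σ ≠ RingHom.id F := by rw [C.hσ]; exact conj_ne_id _

theorem σ_apply (a : F) : C.σ a = a ^ C.q := by rw [C.hσ]; rfl

theorem hκ : C.Φ.κ = 0 := κ_of_ne_id C.σ_ne

@[simp] theorem σσ (a : F) : C.σ (C.σ a) = a := C.Φ.invol a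

@[simp] theorem σB (x y : V) : C.σ (C.Φ.B x y) = C.Φ.B y x := by
  rw [C.Φ.symm x y, C.hε, one_mul]

theorem sing {x : V} : Sing C.Φ x ↔ C.Φ.B x x = 0 := ⟨fun h => h.1, fun h => ⟨h, Q_of_κ C.hκ x⟩⟩

theorem exists_norm {a : F} (h : C.σ a = a) : ∃ x, C.σ x * x = a :=
  exists_norm_eq_of_invol C.σ_ne C.σσ h

theorem exists_trace {a : F} (h : C.σ a = a) : ∃ x, x + C.σ x = a := by
  obtain ⟨t, ht⟩ := exists_add_conj_eq_one C.σ_ne C.σσ
  exact ⟨t * a, by rw [map_mul, h]; linear_combination a * ht⟩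

theorem exists_notFixed : ∃ a, C.σ a ≠ a := by
  by_contra! h
  exact C.σ_ne (RingHom.ext h)

/-- the restriction to a non-degenerate subspace -/
def sub (U : Submodule F V) (hU : Disjoint U (C.Φ.perp U)) : UC F U :=
  ⟨C.q, C.σ, C.hF, C.hσ, C.Φ.restrict U, C.Φ.nondeg_restrict_iff.2 hU, C.hε⟩

/-- the data of an Eichler transformation -/
def ED (c e : V) (s : F) : Prop :=
  C.Φ.B c c = 0 ∧ C.Φ.B c e = 0 ∧ C.Φ.B e e = s + C.σ s

theorem ed_iff {c e : V} {s : F} : EichData C.Φ c e s ↔ C.ED c e s :=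
  ⟨fun h => ⟨h.sing.1, h.perp, by rw [h.trB, C.hε, one_mul]⟩, fun h =>
    ⟨C.sing.2 h.1, h.2.1, by rw [h.2.2, C.hε, one_mul], by rw [C.hκ, Q_of_κ C.hκ, zero_mul]⟩⟩

theorem ed_zero {c : V} {s : F} (hc : C.Φ.B c c = 0) (hs : s + C.σ s = 0) : C.ED c 0 s :=
  ⟨hc, by simp, by simp [hs]⟩

theorem exists_ed {c e : V} (hc : C.Φ.B c c = 0) (he : C.Φ.B c e = 0) : ∃ s, C.ED c e s :=
  let ⟨s, hs⟩ := C.exists_trace (C.σB e e); ⟨s, hc, he, hs.symm⟩

theorem ed_map (g : C.Φ.O) {c e : V} {s : F} : C.ED (g.1 c) (g.1 e) s ↔ C.ED c e s := by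
  simp only [ED, O_B]

/-- traceless elements -/
def Zs : AddSubgroup F := (AddMonoidHom.id F + C.σ.toAddMonoidHom).ker

theorem mem_Zs {s : F} : s ∈ C.Zs ↔ s + C.σ s = 0 := Iff.rfl

theorem σ_Zs (s : C.Zs) : C.σ s = -s := eq_neg_of_add_eq_zero_right s.2

theorem card_trace {a : F} (h : C.σ a = a) : Nat.card {s : F // s + C.σ s = a} = C.q := by
  simp only [C.σ_apply] at h ⊢
  exact H23.card_trace_eq C.hF h

theorem card_Zs : Nat.card C.Zs = C.q := C.card_trace (map_zero _)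

theorem exists_Zs : ∃ s : F, s ≠ 0 ∧ s + C.σ s = 0 := by
  simpa only [C.σ_apply] using exists_trace_zero_ne_zero C.hF

variable [FiniteDimensional F V]

theorem card_V : Nat.card V = C.q ^ (2 * finrank F V) := by
  rw [LC.card_V (F := F), C.hF, pow_mul]

theorem ncard_sub (U : Submodule F V) : (U : Set V).ncard = C.q ^ (2 * finrank F U) := by
  rw [ncard_submodule, C.hF, pow_mul]

noncomputable abbrev G : Subgroup C.Φ.O := SO C.Φ

open Classical in
/-- Eichler transformations as a total function -/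
noncomputable def T (c e : V) (s : F) : C.Φ.O :=
  if h : C.ED c e s then eich C.hΦ (C.ed_iff.2 h) else 1

variable {C}

theorem T_apply {c e : V} {s : F} (h : C.ED c e s) (v : V) : (C.T c e s).1 v =
    v + (C.Φ.B e v - C.σ s * C.Φ.B c v) • c - C.Φ.B c v • e := by
  rw [T, dif_pos h, eich_apply, C.hε, map_one, one_mul, neg_smul, ← sub_eq_add_neg]

theorem T_apply_zero {c : V} {s : F} (h : C.ED c 0 s) (v : V) :
    (C.T c 0 s).1 v = v + (s * C.Φ.B c v) • c := by
  have : C.σ s = -s := by linear_combination -h.2.2 + map_zero (C.Φ.B 0)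
  rw [T_apply h, this]
  simp

theorem T_apply_of_perp {c e v : V} {s : F} (h1 : C.Φ.B c v = 0) (h2 : C.Φ.B e v = 0) :
    (C.T c e s).1 v = v := by
  by_cases h : C.ED c e s
  · simp [T_apply h, h1, h2]
  · rw [T, dif_neg h]; rfl

variable (C)

theorem T_mem (c e : V) (s : F) : C.T c e s ∈ C.G := by
  by_cases h : C.ED c e s
  · rw [T, dif_pos h]; exact mem_SO.2 (det_eich _ _)
  · rw [T, dif_neg h]; exact one_mem _

theorem conj_T (g : C.Φ.O) (c e : V) (s : F) :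
    g * C.T c e s * g⁻¹ = C.T (g.1 c) (g.1 e) s := by
  by_cases h : C.ED c e s
  · rw [T, dif_pos h, T, dif_pos ((C.ed_map g).2 h), conj_eich]
  · rw [T, dif_neg h, T, dif_neg (mt (C.ed_map g).1 h), mul_one, mul_inv_cancel]

variable {C}

omit [FiniteDimensional F V] in
theorem ED.add {c e e' : V} {s s' : F} (h : C.ED c e s) (h' : C.ED c e' s') :
    C.ED c (e + e') (s + s' + C.Φ.B e' e) :=
  ⟨h.1, by simp [h.2.1, h'.2.1], by simp [h.2.2, h'.2.2]; ring⟩

omit [FiniteDimensional F V] in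
theorem ED.neg {c e : V} {s : F} (h : C.ED c e s) : C.ED c (-e) (C.σ s) :=
  ⟨h.1, by simp [h.2.1], by simp [h.2.2, add_comm]⟩

theorem T_mul {c e e' : V} {s s' : F} (h : C.ED c e s) (h' : C.ED c e' s') :
    C.T c e s * C.T c e' s' = C.T c (e + e') (s + s' + C.Φ.B e' e) := O_ext _ fun v => by
  rw [O_mul_apply, T_apply h, T_apply h', T_apply (h.add h')]
  have := C.Φ.B_eq_zero_symm h.2.1
  simp only [map_add, map_sub, map_smul, h.1, h'.2.1, this, LinearMap.add_apply, σB, smul_eq_mul]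
  module

theorem T_zero (c : V) : C.T c 0 0 = 1 := O_ext _ fun v => by
  by_cases h : C.ED c 0 0
  · simp [T_apply_zero h]
  · rw [T, dif_neg h]

theorem T_inv {c e : V} {s : F} (h : C.ED c e s) : (C.T c e s)⁻¹ = C.T c (-e) (C.σ s) := by
  rw [inv_eq_iff_mul_eq_one, T_mul h h.neg, add_neg_cancel, ← T_zero c]
  congr 1
  simp [h.2.2]

omit [FiniteDimensional F V] in
theorem ED.smul {c e : V} {s a : F} (h : C.ED c (C.σ a • e) (a * C.σ a * s)) (ha : a ≠ 0) :
    C.ED (a • c) e s :=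
  C.ed_iff.1 ((C.ed_iff.2 h).smul_left ha)

omit [FiniteDimensional F V] in
theorem ED.of_smul {c e : V} {s a : F} (h : C.ED (a • c) e s) (ha : a ≠ 0) :
    C.ED c (C.σ a • e) (a * C.σ a * s) :=
  C.ed_iff.1 ((C.ed_iff.2 h).of_smul_left (C.sing.2 (by simpa [ha] using h.1)))

theorem T_smul {a : F} (ha : a ≠ 0) (c e : V) (s : F) :
    C.T (a • c) e s = C.T c (C.σ a • e) (a * C.σ a * s) := by
  by_cases h : C.ED (a • c) e s
  · refine O_ext _ fun v => ?_
    rw [T_apply h, T_apply (h.of_smul ha)]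
    simp only [B_smul_left, map_mul, σσ]
    module
  · rw [T, dif_neg h, T, dif_neg fun h' => h (h'.smul ha)]

omit [FiniteDimensional F V] in
theorem ED.of_add_smul {c e : V} {s a : F} (h : C.ED c (e + a • c) s) :
    C.ED c e (s - a + C.σ a) := by
  simpa [C.hε] using C.ed_iff.1 (C.ed_iff.2 h).of_add_smul

theorem T_add_smul {c e : V} {s a : F} (h : C.ED c (e + a • c) s) :
    C.T c (e + a • c) s = C.T c e (s - a + C.σ a) := O_ext _ fun v => by
  rw [T_apply h, T_apply h.of_add_smul]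
  simp only [map_add, map_sub, LinearMap.add_apply, B_smul_left, σσ]
  module

variable (C)

/-- the Heisenberg group -/
def Hs : Type _ := {p : V × F // C.Φ.B p.1 p.1 = p.2 + C.σ p.2}

instance : Group C.Hs where
  mul a b := ⟨(a.1.1 + b.1.1, a.1.2 + b.1.2 + C.Φ.B b.1.1 a.1.1), by simp [a.2, b.2]; ring⟩
  one := ⟨(0, 0), by simp⟩
  inv a := ⟨(-a.1.1, C.σ a.1.2), by simp [a.2, add_comm]⟩
  mul_assoc a b c := Subtype.ext (Prod.ext (add_assoc _ _ _) (by
    change _ + _ + _ + _ + C.Φ.B _ (_ + _) = _ + (_ + _ + _) + C.Φ.B (_ + _) _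
    simp; ring))
  one_mul a := Subtype.ext (Prod.ext (zero_add _) (by
    change 0 + _ + C.Φ.B _ 0 = _; simp))
  mul_one a := Subtype.ext (Prod.ext (add_zero _) (by
    change _ + 0 + C.Φ.B 0 _ = _; simp))
  inv_mul_cancel a := Subtype.ext (Prod.ext (neg_add_cancel _) (by
    change _ + _ + C.Φ.B _ (-_) = 0; simp [a.2]; ring))

theorem card_Hs : Nat.card C.Hs = C.q ^ (2 * finrank F V) * C.q := by
  have := finite_of_fd F V
  have := Fintype.ofFinite V
  rw [Hs, Nat.card_congr (Equiv.subtypeProdEquivSigmaSubtype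
    fun (v : V) (s : F) => C.Φ.B v v = s + C.σ s), Nat.card_sigma, ← C.card_V,
    Nat.card_eq_fintype_card, ← Finset.card_univ, ← smul_eq_mul, ← Finset.sum_const]
  refine Finset.sum_congr rfl fun v _ => ?_
  simp only [eq_comm (a := C.Φ.B v v)]
  exact C.card_trace (C.σB v v)

/-- projection to the vector part -/
def Hπ : C.Hs →* Multiplicative V :=
  MonoidHom.mk' (fun a => Multiplicative.ofAdd a.1.1) fun _ _ => rfl

variable (F) in
/-- a character non-trivial at `1` -/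
noncomputable def ψ1 : AddChar F ℂ := (exists_addChar_one F).choose

theorem hψ1 : ψ1 F 1 ≠ 1 := (exists_addChar_one F).choose_spec

/-- isotropy with respect to a character of the traceless elements -/
def Iso (t : F) (D : AddSubgroup V) : Prop :=
  ∀ u ∈ D, ∀ v ∈ D, ψ1 F (t * (C.Φ.B u v - C.Φ.B v u)) = 1

omit [FiniteDimensional F V] in
theorem exists_sub_conj {t : F} (ht : t + C.σ t = 0) (ht0 : t ≠ 0) :
    ∃ a, t * (a - C.σ a) = 1 := by
  obtain ⟨a, ha⟩ := C.exists_trace (map_one C.σ)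
  have : C.σ t = -t := by linear_combination ht
  refine ⟨t⁻¹ * a, ?_⟩
  rw [map_mul, map_inv₀, this]
  field_simp
  linear_combination ha

theorem card_iso_le {t : F} (ht : t + C.σ t = 0) (ht0 : t ≠ 0) {D : AddSubgroup V}
    (h : C.Iso t D) : Nat.card D ≤ C.q ^ finrank F V := by
  have := finite_of_fd F V
  let b : V →+ V →+ F := AddMonoidHom.mk' (fun u => AddMonoidHom.mk'
    (fun v => t * (C.Φ.B u v - C.Φ.B v u)) (fun x y => by simp; ring)) (fun x y => by
      ext; simp; ring)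
  have h1 := card_pp (ψ1 F) b (fun w hw => by_contra fun h0 => by
    obtain ⟨y, hy⟩ := C.hΦ.exists_ne h0
    obtain ⟨a, ha⟩ := C.exists_sub_conj ht ht0
    have := hw (-a • y)
    have h2 : C.Φ.B y w = 1 := by rw [← C.σB, hy, map_one]
    simp only [b, AddMonoidHom.mk'_apply, B_smul_left, B_smul_right, hy, h2, map_neg] at this
    exact hψ1 (F := F) (by rw [← this]; congr 1; linear_combination -ha)) D
  have h2 : Nat.card D ≤ Nat.card (pp (ψ1 F) b D) :=
    AddSubgroup.card_le_of_le fun u hu v hv => h u hu v hv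
  rw [C.card_V, mul_comm 2, pow_mul] at h1
  exact (Nat.pow_le_pow_iff_left two_ne_zero).1 (by nlinarith)

theorem ncard_iso_le {t : F} (ht : t + C.σ t = 0) (ht0 : t ≠ 0) {D : AddSubgroup V}
    (h : C.Iso t D) {U : Submodule F V} (hU : Disjoint U (C.Φ.perp U)) :
    {v | v ∈ D ∧ v ∈ U}.ncard ≤ C.q ^ finrank F U := by
  have := (C.sub U hU).card_iso_le ht ht0 (D := D.comap U.subtype.toAddMonoidHom)
    fun u hu v hv => h _ hu _ hv
  refine le_of_eq_of_le ?_ this
  rw [← SetLike.coe_sort_coe, Nat.card_coe_set_eq,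
    ← Set.ncard_image_of_injective _ Subtype.val_injective]
  congr 1
  ext v
  exact ⟨fun h => ⟨⟨v, h.2⟩, h.1, rfl⟩, by rintro ⟨v, h, rfl⟩; exact ⟨h, v.2⟩⟩

/-- isotropic subgroups have long orbits -/
def H1 : Prop := ∀ t : F, t + C.σ t = 0 → t ≠ 0 → ∀ D : AddSubgroup V, D ≠ ⊥ → C.Iso t D →
  (C.q + 1) * Nat.card D ≤ C.q * (gorb C.G D).ncard

omit [FiniteDimensional F V] in
theorem perp_of_iso {U : Submodule F V} (h : ∀ u ∈ U, C.Φ.B u u = 0) : U ≤ C.Φ.perp U := by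
  intro v hv
  refine C.Φ.mem_perp.2 fun u hu => ?_
  obtain ⟨a, ha⟩ := C.exists_notFixed
  have h1 := h _ (U.add_mem hu hv)
  have h2 := h _ (U.add_mem hu (U.smul_mem a hv))
  simp only [map_add, LinearMap.add_apply, B_smul_left, B_smul_right, h u hu, h v hv] at h1 h2
  refine (mul_eq_zero.1 (?_ : (C.σ a - a) * C.Φ.B u v = 0)).resolve_left (sub_ne_zero.2 ha)
  linear_combination C.σ a * h1 - h2

theorem exists_nonsing_perp {Z : Submodule F V} (h : 2 * finrank F Z < finrank F V) :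
    ∃ d ∈ C.Φ.perp Z, C.Φ.B d d ≠ 0 := by
  by_contra! h1
  have h2 := Submodule.finrank_mono (C.perp_of_iso h1)
  rw [C.hΦ.perp_perp] at h2
  have := C.hΦ.finrank_perp_add Z
  omega

theorem exists_SO_eq {Z : Submodule F V} (hZ : ∃ d ∈ C.Φ.perp Z, C.Φ.B d d ≠ 0) (g : C.Φ.O) :
    ∃ k ∈ C.G, ∀ z ∈ Z, k.1 z = g.1 z := by
  obtain ⟨q, σ, hF, rfl, Φ, hΦ, hε⟩ := C
  obtain ⟨d, hd, hd0⟩ := hZ
  dsimp only at *
  obtain ⟨a, ha⟩ := exists_norm_eq hF (μ := (Φ.B d d)⁻¹) (by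
    rw [inv_pow, ← conj_apply hF]
    exact congrArg _ (σB ⟨q, _, hF, rfl, Φ, hΦ, hε⟩ d d))
  have h1 := norm_det_eq_one hΦ g
  obtain ⟨r, hr, hr'⟩ := exists_qrefl_det hF hΦ hε (d := a • d)
    (by rw [B_self_smul_herm, ha, inv_mul_cancel₀ hd0])
    (l := (LinearMap.det g.1.toLinearMap)⁻¹) (by rw [inv_pow, pow_succ, ← conj_apply hF, h1, inv_one])
  refine ⟨g * r, mem_SO.2 ?_, fun z hz => ?_⟩
  · rw [Subgroup.coe_mul, LinearEquiv.coe_toLinearMap_mul, map_mul, hr,
      mul_inv_cancel₀ (right_ne_zero_of_mul_eq_one h1)]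
  · rw [O_mul_apply, hr', B_smul_left, Φ.mem_perp'.1 hd z hz]
    simp

theorem exists_SO_one (hV : 3 ≤ finrank F V) {v w : V} (hv : v ≠ 0) (hw : w ≠ 0)
    (h : C.Φ.B v v = C.Φ.B w w) : ∃ k ∈ C.G, k.1 v = w := by
  obtain ⟨g, hg, h1⟩ := C.hΦ.witt_one hv hw h (by rw [Q_of_κ C.hκ, Q_of_κ C.hκ])
  obtain ⟨k, hk, h2⟩ := C.exists_SO_eq (C.exists_nonsing_perp (Z := F ∙ v) (by
    rw [finrank_span_singleton hv]; omega)) ⟨g, hg⟩
  exact ⟨k, hk, (h2 v (Submodule.mem_span_singleton_self v)).trans h1⟩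

theorem exists_sing (hV : 2 ≤ finrank F V) : ∃ c, C.Φ.B c c = 0 ∧ c ≠ 0 := by
  obtain ⟨u, -, h1, h2⟩ := exists_sing_of_herm C.σ_ne C.hε (T := ⊤) (by simpa using hV)
  exact ⟨u, h2.1, h1⟩

theorem exists_hyp' {c : V} (hc : C.Φ.B c c = 0) (h0 : c ≠ 0) : ∃ c', Hyp C.Φ c c' :=
  exists_hyp C.hΦ (C.sing.2 hc) h0

end UC

end H22
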