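import Cfsg.Agent.H22.MuA

/-!
Minimal degree of the unitary groups, part two: the dichotomy.
-/

set_option autoImplicit false

namespace H22

open H23 H23.Form Module Pointwise Cfsg

theorem card_smul_addSubgroup {G A : Type*} [Group G] [AddGroup A] [DistribMulAction G A] (g : G)
    (D : AddSubgroup A) : Nat.card (g • D : AddSubgroup A) = Nat.card D := by
  rw [← SetLike.coe_sort_coe D, ← SetLike.coe_sort_coe (g • D), Nat.card_coe_set_eq,
    Nat.card_coe_set_eq, AddSubgroup.coe_pointwise_smul, Set.ncard_smul_set]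

namespace UC

variable {F V : Type*} [Field F] [Fintype F] [AddCommGroup V] [Module F V] [FiniteDimensional F V]
  (C : UC F V) {X : Type*} [MulAction C.Φ.O X]

/-- the transvection group -/
noncomputable def ZA (c : V) : AH C.Zs C.Φ.O where
  e s := C.T c 0 s
  U := ⊤
  add s _ s' _ := by
    by_cases hc : C.Φ.B c c = 0
    · rw [T_mul (C.ed_zero (s := s) hc s.2) (C.ed_zero (s := s') hc s'.2)]; simp
    · rw [T, T, T, dif_neg fun h => hc h.1, dif_neg fun h => hc h.1, dif_neg fun h => hc h.1,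
        mul_one]

/-- multiplication of traceless elements -/
def bZ : C.Zs →+ C.Zs →+ F :=
  AddMonoidHom.mk' (fun s => AddMonoidHom.mk' (fun t => s.1 * t.1) (fun _ _ => mul_add _ _ _))
    (fun _ _ => by ext; simp [add_mul])

omit [FiniteDimensional F V] in
theorem bZ_nd (w : C.Zs) (h : ∀ v, ψ1 F (C.bZ v w) = 1) : w = 0 := by
  by_contra h0
  have h1 : w.1 ≠ 0 := fun e => h0 (Subtype.ext e)
  refine hψ1 (F := F) ?_
  rw [← h ⟨w.1⁻¹, by rw [mem_Zs, map_inv₀, σ_Zs, inv_neg, add_neg_cancel]⟩]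
  congr 1
  exact (inv_mul_cancel₀ h1).symm

noncomputable def D0 (c : V) (x : X) : AddSubgroup C.Zs := pp (ψ1 F) C.bZ ((C.ZA c).st x)

theorem mem_Z0 {c : V} {x : X} {s : C.Zs} : s ∈ (C.ZA c).st x ↔ C.T c 0 s • x = x :=
  ⟨fun h => h.2, fun h => ⟨trivial, h⟩⟩

theorem card_D0 (c : V) (x : X) : Nat.card (C.D0 c x) * Nat.card ((C.ZA c).st x) = C.q :=
  (card_pp _ _ C.bZ_nd _).trans C.card_Zs

/-- the transvection group fixes the point -/
def TA (c : V) (x : X) : Prop := ∀ s, s + C.σ s = 0 → C.T c 0 s • x = x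

/-- a non-central element of the Heisenberg group fixes the point -/
def NZ (c : V) (x : X) : Prop := ∃ e ∉ F ∙ c, ∃ s, C.ED c e s ∧ C.T c e s • x = x

variable {C}

theorem fix_conj {c e : V} {s : F} {x : X} (h : C.T c e s • x = x) (g : C.Φ.O) :
    C.T (g.1 c) (g.1 e) s • g • x = g • x := by
  rw [← conj_T, mul_smul, mul_smul, inv_smul_smul, h]

theorem TA.conj {c : V} {x : X} (h : C.TA c x) (g : C.Φ.O) : C.TA (g.1 c) (g • x) :=
  fun s hs => by simpa using fix_conj (h s hs) g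

theorem TA.smul {c : V} {x : X} (h : C.TA c x) (a : F) : C.TA (a • c) x := fun s hs => by
  by_cases ha : a = 0
  · rw [ha, zero_smul, show C.T 0 0 s = 1 from O_ext _ fun v =>
      T_apply_of_perp (by simp) (by simp), one_smul]
  · rw [T_smul ha, smul_zero]
    exact h _ (by simp only [map_mul, σσ]; linear_combination a * C.σ a * hs)

theorem NZ.conj {c : V} {x : X} (h : C.NZ c x) (g : C.Φ.O) : C.NZ (g.1 c) (g • x) := by
  obtain ⟨e, he, s, h1, h2⟩ := h
  refine ⟨g.1 e, fun h3 => he ?_, s, (C.ed_map g).2 h1, fix_conj h2 g⟩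
  obtain ⟨a, ha⟩ := Submodule.mem_span_singleton.1 h3
  exact Submodule.mem_span_singleton.2 ⟨a, g.1.injective (by rw [map_smul, ha])⟩

theorem NZ.of_smul {c : V} {x : X} {a : F} (h : C.NZ (a • c) x) (ha : a ≠ 0) : C.NZ c x := by
  obtain ⟨e, he, s, h1, h2⟩ := h
  refine ⟨C.σ a • e, fun h3 => he ?_, _, h1.of_smul ha, by rwa [← T_smul ha]⟩
  rw [Submodule.span_singleton_smul_eq (IsUnit.mk0 a ha)]
  simpa [ha] using (F ∙ c).smul_mem (C.σ a)⁻¹ h3

theorem exists_mem_D0 {c : V} {x : X} (h : ¬ C.TA c x) : ∃ t ∈ C.D0 c x, t ≠ 0 := by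
  by_contra! h1
  have h2 := C.card_D0 c x
  rw [(AddSubgroup.eq_bot_iff_forall _).2 h1, AddSubgroup.card_bot, one_mul, ← C.card_Zs,
    AddSubgroup.card_eq_iff_eq_top] at h2
  exact h fun s hs => C.mem_Z0.1 (show (⟨s, hs⟩ : C.Zs) ∈ _ by rw [h2]; trivial)

theorem fix_sub {c e : V} {s s' : F} {x : X} (h : C.ED c e s) (h' : C.ED c e s')
    (h1 : C.T c e s • x = x) (h2 : C.T c e s' • x = x) : C.T c 0 (s - s') • x = x := by
  have h3 : C.ED c 0 (s - s') := C.ed_zero h.1 (by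
    rw [map_sub]; linear_combination h'.2.2 - h.2.2)
  have h4 := T_mul h' h3
  simp only [add_zero, map_zero, LinearMap.zero_apply, add_sub_cancel] at h4
  rw [← h4, mul_smul] at h1
  exact smul_left_cancel _ (h1.trans h2.symm)

theorem D0_fix {c : V} {g : C.Φ.O} (hg : g.1 c = c) (x : X) : C.D0 c (g • x) = C.D0 c x := by
  unfold D0
  congr 1
  ext s
  rw [mem_Z0, mem_Z0]
  nth_rewrite 1 [← hg, ← map_zero g.1]
  rw [← conj_T, mul_smul, mul_smul, inv_smul_smul, smul_left_cancel_iff]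

theorem mem_D0_smul {c : V} {g : C.Φ.O} {a : F} (ha : a ≠ 0) (hg : g.1 c = a • c) {x : X}
    {t t' : C.Zs} (ht : t ∈ C.D0 c x) (h : t.1 = C.σ a * a * t') : t' ∈ C.D0 c (g • x) := by
  intro s hs
  have h1 : C.σ a ≠ 0 := by simpa using ha
  have h2 := fix_conj (C.mem_Z0.1 hs) g⁻¹
  rw [inv_smul_smul, map_zero, show (g⁻¹).1 c = a⁻¹ • c by
    apply g.1.injective; simp [hg, ha], T_smul (inv_ne_zero ha), smul_zero] at h2
  have h3 := ht ⟨_, by
    rw [mem_Zs]; simp only [map_mul, σσ, σ_Zs]; ring⟩ (C.mem_Z0.2 h2)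
  rw [← h3]
  congr 1
  change t'.1 * s.1 = t.1 * (a⁻¹ * C.σ a⁻¹ * s.1)
  rw [h, map_inv₀]
  field_simp

section Hyp

variable {c c' : V} (h : Hyp C.Φ c c')

/-- the complement of a hyperbolic pair -/
def res : UC F (C.Φ.perp (Submodule.span F {c, c'})) :=
  C.sub _ (C.Φ.nondeg_restrict_iff.1 (h.nondeg_perp C.hΦ))

omit [FiniteDimensional F V] in
theorem ed_of_mem (hc : C.Φ.B c c = 0) (w : C.Φ.perp (Submodule.span F {c, c'})) {s : F}
    (hs : C.Φ.B w w = s + C.σ s) : C.ED c w s := ⟨hc, (mem_perp_pair.1 w.2).1, hs⟩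

/-- the Heisenberg group inside the unitary group -/
noncomputable def τ : (res h).Hs →* C.Φ.O :=
  MonoidHom.mk' (fun a => C.T c a.1.1 a.1.2) fun a b =>
    (T_mul (ed_of_mem h.left.1 _ a.2) (ed_of_mem h.left.1 _ b.2)).symm

noncomputable def Dw (x : X) : AddSubgroup (C.Φ.perp (Submodule.span F {c, c'})) :=
  Subgroup.toAddSubgroup' (((MulAction.stabilizer C.Φ.O x).comap (τ h)).map (res h).Hπ)

theorem mem_Dw {x : X} {w : C.Φ.perp (Submodule.span F {c, c'})} :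
    w ∈ Dw h x ↔ ∃ s, C.Φ.B w w = s + C.σ s ∧ C.T c w s • x = x :=
  ⟨by rintro ⟨⟨⟨u, s⟩, h1⟩, h2, rfl⟩; exact ⟨s, h1, h2⟩,
    fun ⟨s, h1, h2⟩ => ⟨⟨(w, s), h1⟩, h2, rfl⟩⟩

include h in
theorem finrank_res : finrank F (C.Φ.perp (Submodule.span F {c, c'})) = finrank F V - 2 := by
  have := h.finrank_perp C.hΦ
  omega

theorem card_orb (x : X) : (gorb (τ h).range x).ncard * Nat.card (Dw h x) =
    Nat.card (C.D0 c x) * C.q ^ (2 * (finrank F V - 2)) := by
  set S := (MulAction.stabilizer C.Φ.O x).comap (τ h)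
  have h1 : (gorb (τ h).range x).ncard = S.index := by
    rw [ncard_gorb, Subgroup.index_comap]; rfl
  have h2 := card_map_mul_card_ker_inf (res h).Hπ S
  have h3 : Nat.card ((res h).Hπ.ker ⊓ S : Subgroup _) = Nat.card ((C.ZA c).st x) := by
    refine Nat.card_congr
      { toFun := fun a => ⟨⟨a.1.1.2, ?_⟩, ?_⟩
        invFun := fun s => ⟨⟨(0, s.1.1), by
          simp only [map_zero]; exact (C.mem_Zs.1 s.1.2).symm⟩, rfl,
          C.mem_Z0.1 s.2⟩
        left_inv := fun a => Subtype.ext (Subtype.ext (Prod.ext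
          (show a.1.1.1 = 0 from a.2.1).symm rfl))
        right_inv := fun s => rfl }
    · have := a.1.2
      rw [show a.1.1.1 = 0 from a.2.1] at this
      exact C.mem_Zs.2 (this.symm.trans (map_zero _))
    · have : C.T c a.1.1.1 a.1.1.2 • x = x := a.2.2
      rw [show a.1.1.1 = 0 from a.2.1] at this
      exact C.mem_Z0.2 this
  have h4 := S.index_mul_card
  rw [card_Hs, finrank_res h, ← h2, h3] at h4
  have h5 := C.card_D0 c x
  refine Nat.eq_of_mul_eq_mul_right (Nat.card_pos (α := (C.ZA c).st x)) ?_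
  rw [h1, mul_assoc, mul_right_comm, h5, mul_comm C.q]
  exact h4

theorem iso_Dw {x : X} {t : C.Zs} (ht : t ∈ C.D0 c x) : (res h).Iso t (Dw h x) := by
  intro u hu v hv
  obtain ⟨s, h1, h2⟩ := (mem_Dw h).1 hu
  obtain ⟨s', h3, h4⟩ := (mem_Dw h).1 hv
  have e1 := ed_of_mem h.left.1 u h1
  have e2 := ed_of_mem h.left.1 v h3
  have e3 := e1.add e2
  have h5 : C.T c (u + v) (s + s' + C.Φ.B v u) • x = x := by rw [← T_mul e1 e2, mul_smul, h4, h2]
  rw [add_comm u.1] at e3 h5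
  have h6 := fix_sub (e2.add e1) e3 (by rw [← T_mul e2 e1, mul_smul, h2, h4]) h5
  rw [show s' + s + C.Φ.B u v - (s + s' + C.Φ.B v u) = C.Φ.B u v - C.Φ.B v u by ring] at h6
  exact ht ⟨C.Φ.B u v - C.Φ.B v u, by simp [mem_Zs]⟩ (C.mem_Z0.2 h6)

/-- extension from the complement -/
noncomputable def ext : (res h).Φ.O →* C.Φ.O := extendPerp (h.isCompl C.hΦ)

theorem ext_left (k : (res h).Φ.O) : (ext h k).1 c = c :=
  extendPerp_apply_left _ k (Submodule.subset_span (by simp))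

theorem ext_right (k : (res h).Φ.O) (w : C.Φ.perp (Submodule.span F {c, c'})) :
    (ext h k).1 w = k.1 w := extendPerp_apply_right _ k w

theorem ext_mem {k : (res h).Φ.O} (hk : k ∈ (res h).G) : ext h k ∈ C.G :=
  mem_SO.2 ((det_extendPerp _ k).trans (mem_SO.1 hk))

theorem Dw_ext (k : (res h).Φ.O) (x : X) : Dw h (ext h k • x) = k • Dw h x := by
  ext w
  obtain ⟨w, rfl⟩ := k.1.surjective w
  refine Iff.trans ?_ (AddSubgroup.smul_mem_pointwise_smul_iff (a := k)).symm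
  rw [mem_Dw, mem_Dw, ← ext_right, O_B]
  refine exists_congr fun s => and_congr_right fun _ => ?_
  nth_rewrite 1 [← ext_left h k]
  rw [← conj_T, mul_smul, mul_smul, inv_smul_smul, smul_left_cancel_iff]

theorem τ_apply_self {g : C.Φ.O} (hg : g ∈ (τ h).range) : g.1 c = c := by
  obtain ⟨a, rfl⟩ := hg
  exact T_apply_of_perp h.left.1 (C.Φ.B_eq_zero_symm (mem_perp_pair.1 a.1.1.2).1)

theorem Dw_le {g : C.Φ.O} (hg : g ∈ (τ h).range) (x : X) : Dw h x ≤ Dw h (g • x) := by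
  intro w hw
  obtain ⟨s, h1, h2⟩ := (mem_Dw h).1 hw
  have h3 := fix_conj h2 g
  have h4 := (C.ed_map g).2 (ed_of_mem h.left.1 w h1)
  rw [τ_apply_self h hg] at h3 h4
  obtain ⟨a, rfl⟩ := hg
  have h5 : (τ h a).1 w = w + C.Φ.B a.1.1 w • c := by
    change (C.T c a.1.1 a.1.2).1 w = _
    simpa [(mem_perp_pair.1 w.2).1] using T_apply (ed_of_mem h.left.1 _ a.2) w
  rw [h5] at h3 h4
  rw [T_add_smul h4] at h3
  exact (mem_Dw h).2 ⟨_, h4.of_add_smul.2.2, h3⟩

theorem Dw_τ {g : C.Φ.O} (hg : g ∈ (τ h).range) (x : X) : Dw h (g • x) = Dw h x :=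
  le_antisymm (by simpa using Dw_le h (inv_mem hg) (g • x)) (Dw_le h hg x)

theorem range_τ_le : (τ h).range ≤ C.G := by
  rintro _ ⟨a, rfl⟩
  exact C.T_mem _ _ _

include h in
theorem exists_Dw {e : V} {s : F} (h1 : C.ED c e s) :
    ∃ (w : C.Φ.perp (Submodule.span F {c, c'})) (a s' : F), e = w + a • c ∧
      C.Φ.B w w = s' + C.σ s' ∧ C.T c e s = C.T c w s' := by
  have h3 := h.sub_mem_perp e
  rw [h1.2.1, zero_smul, sub_zero] at h3
  obtain ⟨w, a, rfl⟩ : ∃ (w : C.Φ.perp (Submodule.span F {c, c'})) (a : F), e = w + a • c :=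
    ⟨⟨_, h3⟩, _, (sub_add_cancel _ _).symm⟩
  exact ⟨w, a, _, rfl, h1.of_add_smul.2.2, T_add_smul h1⟩

theorem nz_iff {x : X} : C.NZ c x ↔ Dw h x ≠ ⊥ := by
  constructor
  · rintro ⟨e, he, s, h1, h2⟩ h3
    obtain ⟨w, a, s', rfl, h4, h5⟩ := exists_Dw h h1
    have : w ∈ Dw h x := (mem_Dw h).2 ⟨s', h4, h5 ▸ h2⟩
    rw [h3, AddSubgroup.mem_bot] at this
    exact he (by simpa [this] using (F ∙ c).smul_mem a (Submodule.mem_span_singleton_self c))
  · intro h1
    obtain ⟨⟨w, hw⟩, h0⟩ := AddSubgroup.ne_bot_iff_exists_ne_zero.1 h1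
    obtain ⟨s, h2, h3⟩ := (mem_Dw h).1 hw
    refine ⟨w, fun h4 => h0 ?_, s, ed_of_mem h.left.1 w h2, h3⟩
    exact Subtype.ext (Subtype.ext ((Submodule.disjoint_def.1 h.disjoint) _
      (Submodule.span_mono (by simp) h4) w.2))

end Hyp

variable (C) in
/-- invariant finite sets -/
def GInv (Ω : Set X) : Prop := Ω.Finite ∧ ∀ g ∈ C.G, ∀ x ∈ Ω, g • x ∈ Ω

variable {Ω : Set X} (hΩ : C.GInv Ω) {c c' : V} (h : Hyp C.Φ c c')
include hΩ

theorem orb_subset {y : X} (hy : y ∈ Ω) : gorb (τ h).range y ⊆ Ω := by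
  rintro _ ⟨g, hg, rfl⟩
  exact hΩ.2 g (range_τ_le h hg) y hy

theorem fiber_le {y : X} (hy : y ∈ Ω) :
    (gorb (res h).G (Dw h y)).ncard * (Nat.card (C.D0 c y) * C.q ^ (2 * (finrank F V - 2))) ≤
      Nat.card (Dw h y) * {z ∈ Ω | C.D0 c z = C.D0 c y}.ncard := by
  have := finite_of_fd F V
  have hf := Set.toFinite (gorb (res h).G (Dw h y))
  have := sum_le_of_fiber (hΩ.1.subset (Set.sep_subset Ω fun z => C.D0 c z = C.D0 c y)) (Dw h)
    hf.toFinset (fun _ => Nat.card (C.D0 c y) * C.q ^ (2 * (finrank F V - 2)))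
    (Nat.card (Dw h y)) (by
      intro D hD
      obtain ⟨k, hk, rfl⟩ := hf.mem_toFinset.1 hD
      have h1 := card_orb h (ext h k • y)
      rw [D0_fix (ext_left h k), Dw_ext] at h1
      erw [card_smul_addSubgroup k (Dw h y)] at h1
      rw [← h1, mul_comm]
      refine Nat.mul_le_mul_left _ (Set.ncard_le_ncard ?_ (hΩ.1.subset fun _ hz => hz.1.1))
      intro z hz
      have h2 := orb_subset hΩ h (hΩ.2 _ (ext_mem h hk) y hy) hz
      obtain ⟨g, hg, rfl⟩ := hz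
      exact ⟨⟨h2, by rw [D0_fix (τ_apply_self h hg), D0_fix (ext_left h k)]⟩, by
        rw [Dw_τ h hg, Dw_ext]⟩)
  rwa [Finset.sum_const, smul_eq_mul, ← Set.ncard_eq_toFinset_card] at this

theorem torus_count (hV : 3 ≤ finrank F V) (hc : C.Φ.B c c = 0) (h0 : c ≠ 0) {x : X}
    (hA : ¬ C.TA c x) {α β : ℕ} (hw : ∀ g ∈ C.G, ∀ a : F, a ≠ 0 → g.1 c = a • c →
      α * Nat.card (C.D0 c (g • x)) ≤ β * {z ∈ Ω | C.D0 c z = C.D0 c (g • x)}.ncard) :
    α * C.q ≤ β * Ω.ncard ∧ (C.D0 c x ≠ ⊤ → α * (C.q + 1) ≤ β * Ω.ncard) := by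
  classical
  have hf := Set.toFinite {D | ∃ g ∈ C.G, ∃ a : F, a ≠ 0 ∧ g.1 c = a • c ∧ C.D0 c (g • x) = D}
  have h1 := sum_le_of_fiber hΩ.1 (C.D0 c) hf.toFinset (fun D => α * Nat.card D) β (by
    intro D hD
    obtain ⟨g, hg, a, ha, h2, rfl⟩ := hf.mem_toFinset.1 hD
    exact hw g hg a ha h2)
  obtain ⟨t, ht, ht0⟩ := exists_mem_D0 hA
  have hcov : ∀ t' : C.Zs, t' ≠ 0 → ∃ D ∈ hf.toFinset, t' ∈ D := by
    intro t' h2
    have h3 : t'.1 ≠ 0 := fun e => h2 (Subtype.ext e)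
    obtain ⟨a, ha⟩ := C.exists_norm (a := t.1 / t'.1) (by
      rw [map_div₀, σ_Zs, σ_Zs, neg_div_neg_eq])
    have ha0 : a ≠ 0 := by
      rintro rfl
      exact ht0 (Subtype.ext (by simpa [h3] using ha.symm))
    obtain ⟨g, hg, h4⟩ := C.exists_SO_one hV h0 (smul_ne_zero ha0 h0) (by simp [hc])
    exact ⟨_, hf.mem_toFinset.2 ⟨g, hg, a, ha0, h4, rfl⟩,
      mem_D0_smul ha0 h4 ht (by rw [ha, div_mul_cancel₀ _ h3])⟩
  have h2 := mul_ncard_le_sum (Set.toFinite ({0}ᶜ : Set C.Zs)) hf.toFinset (fun D t => t ∈ D) 1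
    fun t' h3 => (Set.ncard_pos (Set.toFinite _)).2 (hcov t' h3)
  have h3 : ∑ D ∈ hf.toFinset, {v ∈ ({0}ᶜ : Set C.Zs) | v ∈ D}.ncard + hf.toFinset.card =
      ∑ D ∈ hf.toFinset, Nat.card D := by
    rw [Finset.card_eq_sum_ones, ← Finset.sum_add_distrib]
    refine Finset.sum_congr rfl fun D _ => ?_
    rw [← SetLike.coe_sort_coe D, Nat.card_coe_set_eq,
      ← Set.ncard_insert_of_notMem (a := 0) (by simp)]
    congr 1
    ext v
    by_cases hv : v = 0 <;> simp [hv]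
  rw [Set.ncard_compl, Set.ncard_singleton, C.card_Zs, one_mul] at h2
  rw [← Finset.mul_sum, ← h3] at h1
  have hx : C.D0 c x ∈ hf.toFinset :=
    hf.mem_toFinset.2 ⟨1, one_mem _, 1, one_ne_zero, by simp, by simp⟩
  have h4 := Finset.card_pos.2 ⟨_, hx⟩
  refine ⟨le_trans (Nat.mul_le_mul_left _ (by omega)) h1, fun h5 =>
    le_trans (Nat.mul_le_mul_left _ ?_) h1⟩
  obtain ⟨t', h6⟩ : ∃ t', t' ∉ C.D0 c x := by
    by_contra! h6
    exact h5 (eq_top_iff.2 fun v _ => h6 v)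
  obtain ⟨D, hD, h7⟩ := hcov t' (by rintro rfl; exact h6 (zero_mem _))
  have := Finset.one_lt_card.2 ⟨_, hx, D, hD, by rintro rfl; exact h6 h7⟩
  omega

variable (hV : 3 ≤ finrank F V) (hN : Ω.ncard < (C.q + 1) * C.q ^ (2 * (finrank F V - 2)))
  (hH : (res h).H1)
include hV hN hH

theorem not_nz {x : X} (hx : x ∈ Ω) (hA : ¬ C.TA c x) : ¬ C.NZ c x := by
  intro hZ
  have h1 := (torus_count hΩ hV h.left.1 h.left_ne hA
    (α := (C.q + 1) * C.q ^ (2 * (finrank F V - 2))) (β := C.q) fun g hg a ha hgc => by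
      have h2 := fiber_le hΩ h (hΩ.2 g hg x hx)
      obtain ⟨t, ht, ht0⟩ := exists_mem_D0 (c := c) (x := g • x) fun h3 => hA (by
        have := (h3.smul a).conj g⁻¹
        rwa [← hgc, O_inv_apply_apply, inv_smul_smul] at this)
      have h3 := hH t t.2 (fun e => ht0 (Subtype.ext e)) _
        ((nz_iff h).1 ((hgc ▸ hZ.conj g).of_smul ha)) (iso_Dw h ht)
      have := finite_of_fd F V
      refine Nat.le_of_mul_le_mul_left ?_ (Nat.card_pos (α := Dw h (g • x)))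
      have h4 := Nat.mul_le_mul_right
        (Nat.card (C.D0 c (g • x)) * C.q ^ (2 * (finrank F V - 2))) h3
      have h5 := Nat.mul_le_mul_left C.q h2
      change (C.q + 1) * _ * _ ≤ C.q * _ * _ at h4
      nlinarith).1
  have := C.two_le
  nlinarith

theorem reg {x : X} (hx : x ∈ Ω) (hA : ¬ C.TA c x) :
    (∀ s, s + C.σ s = 0 → C.T c 0 s • x = x → s = 0) ∧
      (gorb (τ h).range x).ncard = C.q * C.q ^ (2 * (finrank F V - 2)) := by
  have h0 : ∀ y ∈ Ω, ¬ C.TA c y → Dw h y = ⊥ := fun y hy h1 =>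
    by_contra fun h2 => not_nz hΩ h hV hN hH hy h1 ((nz_iff h).2 h2)
  have h1 := (torus_count hΩ hV h.left.1 h.left_ne hA
    (α := C.q ^ (2 * (finrank F V - 2))) (β := 1) fun g hg a ha hgc => by
      have h2 := fiber_le hΩ h (hΩ.2 g hg x hx)
      have h3 : 0 < (gorb (res h).G (Dw h (g • x))).ncard := by
        have := finite_of_fd F V
        exact (Set.ncard_pos (Set.toFinite _)).2 ⟨_, self_mem_gorb _⟩
      rw [h0 _ (hΩ.2 g hg x hx) fun h3 => hA (by
        have := (h3.smul a).conj g⁻¹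
        rwa [← hgc, O_inv_apply_apply, inv_smul_smul] at this)] at h2 h3
      rw [AddSubgroup.card_bot] at h2
      nlinarith).2
  have h2 : C.D0 c x = ⊤ := by_contra fun h3 => by have := h1 h3; nlinarith
  have h3 := card_orb h x
  have h4 := C.card_D0 c x
  rw [h2, AddSubgroup.card_top, C.card_Zs] at h3 h4
  rw [h0 x hx hA, AddSubgroup.card_bot, mul_one] at h3
  refine ⟨fun s hs h5 => ?_, h3⟩
  have h6 := AddSubgroup.card_eq_one.1 ((Nat.mul_eq_left (by have := C.two_le; omega)).1 h4)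
  have h7 := (C.mem_Z0 (s := ⟨s, hs⟩)).2 h5
  rw [h6] at h7
  exact congrArg Subtype.val h7

end UC

end H22
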