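import Cfsg.Agent.H22.MuB

/-!
Minimal degree of the unitary groups, part three: the structure of small orbits.
-/

set_option autoImplicit false

namespace H22

open H23 H23.Form Module Pointwise Cfsg

theorem gorb_disjoint {O X : Type*} [Group O] [MulAction O X] {G : Subgroup O} {x y : X}
    (h : y ∉ gorb G x) : Disjoint (gorb G x) (gorb G y) :=
  Set.disjoint_left.2 fun z h1 h2 => h (by
    rw [← gorb_eq_of_mem h1, gorb_eq_of_mem h2]; exact self_mem_gorb y)

namespace UC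

variable {F V : Type*} [Field F] [Fintype F] [AddCommGroup V] [Module F V] [FiniteDimensional F V]
  (C : UC F V) {X : Type*} [MulAction C.Φ.O X]

/-- the numerical hypotheses -/
structure Num (ω : ℕ) : Prop where
  dim : 4 ≤ finrank F V
  h1 : ω < (C.q + 1) * C.q ^ (2 * (finrank F V - 2))
  hs : ω * (C.q ^ 2 - 1) < {w | w ≠ 0 ∧ C.Φ.B w w = 0}.ncard
  hn : ∀ a ≠ 0, C.σ a = a → ω * (C.q + 1) < {w | C.Φ.B w w = a}.ncard
  hH : ∀ c c' (h : Hyp C.Φ c c'), (res h).H1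

variable {C}

theorem Num.mono {ω ω' : ℕ} (h : C.Num ω) (hle : ω' ≤ ω) : C.Num ω' :=
  ⟨h.dim, hle.trans_lt h.h1, (Nat.mul_le_mul_right _ hle).trans_lt h.hs,
    fun a h1 h2 => (Nat.mul_le_mul_right _ hle).trans_lt (h.hn a h1 h2), h.hH⟩

omit [FiniteDimensional F V] in
theorem gInv_gorb {x : X} (h : (gorb C.G x).Finite) : C.GInv (gorb C.G x) :=
  ⟨h, fun _ hg _ hy => smul_mem_gorb hy hg⟩

theorem not_nz' {Ω : Set X} (hΩ : C.GInv Ω) (hN : C.Num Ω.ncard) {c : V} (hc : C.Φ.B c c = 0)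
    (h0 : c ≠ 0) {x : X} (hx : x ∈ Ω) (hA : ¬ C.TA c x) : ¬ C.NZ c x :=
  let ⟨_, h⟩ := C.exists_hyp' hc h0
  not_nz hΩ h (by have := hN.dim; omega) hN.h1 (hN.hH _ _ h) hx hA

variable (C) in
/-- isotropic vectors whose transvection group fixes `x` -/
def AA (x : X) (c : V) : Prop := C.Φ.B c c = 0 ∧ C.TA c x

theorem AA.smul {x : X} {c : V} (h : C.AA x c) (a : F) : C.AA x (a • c) :=
  ⟨by simp [h.1], h.2.smul a⟩

theorem AA.conj {x : X} {c : V} (h : C.AA x c) {g : C.Φ.O} (hg : g • x = x) : C.AA x (g.1 c) :=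
  ⟨by rw [O_B, h.1], hg ▸ h.2.conj g⟩

theorem AA.tv {x : X} {c y : V} (h : C.AA x c) (h' : C.AA x y) {s : F} (hs : s + C.σ s = 0) :
    C.AA x (y + (s * C.Φ.B c y) • c) := by
  have := h'.conj (h.2 s hs)
  rwa [T_apply_zero (C.ed_zero h.1 hs)] at this

section A

variable {Ω : Set X} (hΩ : C.GInv Ω) (hN : C.Num Ω.ncard) {x : X} (hx : x ∈ Ω)
include hΩ hN hx

theorem AA.add {c y : V} (h : C.AA x c) (h' : C.AA x y) (hcy : C.Φ.B c y = 0) :
    C.AA x (c + y) := by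
  have hyc := C.Φ.B_eq_zero_symm hcy
  by_cases h1 : y ∈ F ∙ c
  · obtain ⟨a, rfl⟩ := Submodule.mem_span_singleton.1 h1
    simpa [add_smul] using h.smul (1 + a)
  by_cases hc : c = 0
  · simpa [hc] using h'
  have he : C.Φ.B (c + y) (c + y) = 0 := by simp [h.1, h'.1, hcy, hyc]
  refine ⟨he, by_contra fun h2 => not_nz' hΩ hN he (fun e => h1 ?_) hx h2 ?_⟩
  · rw [eq_neg_of_add_eq_zero_right e]
    exact neg_mem (Submodule.mem_span_singleton_self c)
  obtain ⟨a, ha⟩ := C.exists_notFixed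
  have h3 : C.ED (c + y) (a • c + C.σ a • y) 0 :=
    ⟨he, by simp [h.1, h'.1, hcy, hyc], by simp [h.1, h'.1, hcy, hyc]⟩
  have h4 : C.σ a - a + C.σ (C.σ a - a) = 0 := by simp
  have h5 : a - C.σ a + C.σ (a - C.σ a) = 0 := by simp
  refine ⟨_, fun h6 => ?_, 0, h3, ?_⟩
  · obtain ⟨t, ht⟩ := Submodule.mem_span_singleton.1 h6
    have := LinearIndependent.pair_iff.1 (linearIndependent_pair_of_notMem hc h1) (t - a)
      (t - C.σ a) (by linear_combination (norm := module) ht)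
    exact ha (by linear_combination this.1 - this.2)
  · rw [show C.T (c + y) (a • c + C.σ a • y) 0 = C.T c 0 (C.σ a - a) * C.T y 0 (a - C.σ a) from
      O_ext _ fun v => by
        rw [O_mul_apply, T_apply h3, T_apply_zero (C.ed_zero h.1 h4),
          T_apply_zero (C.ed_zero h'.1 h5)]
        simp only [map_add, LinearMap.add_apply, B_smul_left, B_smul_right, hcy, σσ, map_zero]
        module, mul_smul, h'.2 _ h5, h.2 _ h4]

theorem AA.comb {c y : V} (h : C.AA x c) (h' : C.AA x y) {a b : F}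
    (hv : C.Φ.B (a • c + b • y) (a • c + b • y) = 0) : C.AA x (a • c + b • y) := by
  by_cases hb : b = 0
  · simpa [hb] using h.smul a
  by_cases hcy : C.Φ.B c y = 0
  · exact (h.smul a).add hΩ hN hx (h'.smul b) (by simp [hcy])
  have h1 : C.σ b ≠ 0 := by simpa using hb
  have h2 : C.Φ.B y c ≠ 0 := fun e => hcy (C.Φ.B_eq_zero_symm e)
  have := (h.tv h' (s := a / (b * C.Φ.B c y)) (by
    simp only [map_add, LinearMap.add_apply, B_smul_left, B_smul_right, h.1, h'.1] at hv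
    simp only [map_div₀, map_mul, σB]
    field_simp
    linear_combination hv)).smul b
  convert this using 1
  rw [smul_add, smul_smul, add_comm]
  congr 2
  field_simp

variable {y y' : V} (hh : Hyp C.Φ y y') (hy : C.AA x y) (hy' : C.AA x y')
include hh hy'

omit hΩ hN hx in
theorem aa_shift {w : V} (h2 : C.Φ.B y' w = 0) {k k' : F}
    (h : C.AA x (y + w + k • y')) (hs : k' - k + C.σ (k' - k) = 0) : C.AA x (y + w + k' • y') := by
  have := hy'.tv h hs
  have h3 : C.Φ.B y' y = 1 := hh.B_symm.trans C.hε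
  simp only [map_add, h3, h2, B_smul_right, hy'.1, mul_zero, add_zero, mul_one] at this
  convert this using 1
  module

theorem aa_aff {w w' : V} (h2 : C.Φ.B y' w = 0) (h2' : C.Φ.B y' w' = 0)
    {k k' m : F} (h : C.AA x (y + w + k • y')) (h' : C.AA x (y + w' + k' • y'))
    (hm : C.σ m ≠ m) : ∃ l : F, C.AA x (y + ((1 - m) • w + m • w') + l • y') := by
  set a := y + w + k • y' with ha
  set r := C.σ (1 - m) * m * C.Φ.B a (y + w' + k' • y') with hr
  have hm' : m - C.σ m ≠ 0 := sub_ne_zero.2 hm.symm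
  set s := -(r + C.σ r) / (m - C.σ m) with hs
  have hs' : C.σ s = -s := by
    rw [hs, map_div₀, map_neg, map_add, map_sub, σσ, σσ, ← neg_sub m, div_neg, add_comm]
  have h3 := aa_shift hh hy' h2' h' (k' := k' + s) (by simp [hs'])
  have h4 : C.Φ.B a y' = 1 := by simp [ha, hh.one, C.Φ.B_eq_zero_symm h2, hy'.1]
  have h5 : C.σ (1 - m) * m * C.Φ.B a (y + w' + (k' + s) • y') = r + C.σ (1 - m) * m * s := by
    rw [add_smul, ← add_assoc, map_add, B_smul_right, h4, hr]; ring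
  have h6 := h.comb hΩ hN hx h3 (a := 1 - m) (b := m) (by
    have h7 := congrArg C.σ h5
    have h8 : s * (m - C.σ m) = -(r + C.σ r) := div_mul_cancel₀ _ hm'
    generalize y + w' + (k' + s) • y' = b at h3 h5 h7 ⊢
    simp only [map_add, map_mul, map_sub, map_one, σσ, σB, hs'] at h5 h7
    simp only [map_add, LinearMap.add_apply, B_smul_left, B_smul_right, h.1, h3.1, map_sub, map_one]
    linear_combination h5 + h7 + h8)
  exact ⟨(1 - m) * k + m * (k' + s), by convert h6 using 1; rw [ha]; module⟩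

omit hΩ hN hx hh hy' in
variable (C x y y') in
/-- the vectors `w` with `y + w + k y'` of type A -/
def RP (w : V) : Prop := C.Φ.B y w = 0 ∧ C.Φ.B y' w = 0 ∧ ∃ k : F, C.AA x (y + w + k • y')

include hy

theorem RP.smul {w : V} (hw : C.RP x y y' w) (a : F) : C.RP x y y' (a • w) := by
  have key : ∀ (a : F) w, C.σ a ≠ a → C.RP x y y' w → C.RP x y y' (a • w) := by
    rintro a w ha ⟨h1, h2, k, h3⟩
    refine ⟨by simp [h1], by simp [h2], ?_⟩
    simpa using aa_aff hΩ hN hx hh hy' (w := 0) (k := 0) (by simp) h2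
      (by simpa using hy) h3 ha
  by_cases ha : C.σ a = a
  · by_cases h0 : a = 0
    · exact ⟨by simp [h0], by simp [h0], 0, by simpa [h0] using hy⟩
    obtain ⟨b, hb⟩ := C.exists_notFixed
    have hb0 : b ≠ 0 := by rintro rfl; simp at hb
    have := key b _ hb (key (a / b) w (by
      rw [map_div₀, ha, div_eq_mul_inv, div_eq_mul_inv]
      exact fun e => hb (inv_injective (mul_left_cancel₀ h0 e))) hw)
    rwa [smul_smul, mul_div_cancel₀ _ hb0] at this
  · exact key a w ha hw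

theorem RP.add {w w' : V} (hw : C.RP x y y' w) (hw' : C.RP x y y' w') : C.RP x y y' (w + w') := by
  obtain ⟨b, hb⟩ := C.exists_notFixed
  have hb0 : b ≠ 0 := by rintro rfl; simp at hb
  have hb1 : 1 - b ≠ 0 := fun e => hb (by rw [← sub_eq_zero.1 e, map_one])
  obtain ⟨-, h1, k, h2⟩ := hw.smul hΩ hN hx hh hy hy' (1 - b)⁻¹
  obtain ⟨-, h3, k', h4⟩ := hw'.smul hΩ hN hx hh hy hy' b⁻¹
  refine ⟨by simp [hw.1, hw'.1], by simp [hw.2.1, hw'.2.1], ?_⟩
  simpa [hb0, hb1] using aa_aff hΩ hN hx hh hy' h1 h3 h2 h4 hb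

theorem all_aa (hsp : Submodule.span F {c | C.AA x c} = ⊤) {z : V} (hz : C.Φ.B z z = 0) :
    C.AA x z := by
  have h3 : C.Φ.B y' y = 1 := hh.B_symm.trans C.hε
  let R : Submodule F V :=
    { carrier := {w | C.RP x y y' w}
      zero_mem' := ⟨by simp, by simp, 0, by simpa using hy⟩
      add_mem' := fun h h' => h.add hΩ hN hx hh hy hy' h'
      smul_mem' := fun a _ h => h.smul hΩ hN hx hh hy hy' a }
  have hyU : y ∈ Submodule.span F {y, y'} ⊔ R :=
    Submodule.mem_sup_left (Submodule.subset_span (by simp))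
  have hdec : ∀ z, C.Φ.B y' z = 1 → ∃ w, C.Φ.B y w = 0 ∧ C.Φ.B y' w = 0 ∧
      z = y + w + C.Φ.B y z • y' := fun z h => by
    have := mem_perp_pair.1 (hh.sub_mem_perp z)
    rw [C.hε, map_one, one_mul, h, one_smul] at this
    exact ⟨_, this.1, this.2, by abel⟩
  have k1 : ∀ z, C.AA x z → C.Φ.B y' z ≠ 0 → z ∈ Submodule.span F {y, y'} ⊔ R := fun z h h0 => by
    obtain ⟨w, h1, h2, h4⟩ := hdec ((C.Φ.B y' z)⁻¹ • z) (by simp [h0])
    have h5 : (C.Φ.B y' z)⁻¹ • z ∈ Submodule.span F {y, y'} ⊔ R := by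
      have h6 := h.smul (C.Φ.B y' z)⁻¹
      rw [h4] at h6 ⊢
      exact add_mem (add_mem hyU (Submodule.mem_sup_right (show C.RP x y y' w from
        ⟨h1, h2, _, h6⟩))) (Submodule.mem_sup_left
          (Submodule.smul_mem _ _ (Submodule.subset_span (by simp))))
    simpa [h0] using Submodule.smul_mem _ (C.Φ.B y' z) h5
  obtain ⟨s, hs0, hs⟩ := C.exists_Zs
  have k2 : Submodule.span F {y, y'} ⊔ R = ⊤ := by
    rw [eq_top_iff, ← hsp, Submodule.span_le]
    intro z h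
    by_cases h0 : C.Φ.B y' z = 0
    · by_cases h1 : C.Φ.B y z = 0
      · simpa using sub_mem (k1 _ (hy.add hΩ hN hx h h1) (by simp [h0, h3])) hyU
      · simpa using sub_mem (k1 _ (hy.tv h hs) (by simp [h0, h3, h1, hs0]))
          (Submodule.smul_mem _ (s * C.Φ.B y z) hyU)
    · exact k1 z h h0
  have k3 : ∀ z, C.Φ.B z z = 0 → C.Φ.B y' z ≠ 0 → C.AA x z := fun z h h0 => by
    obtain ⟨w, h1, h2, h4⟩ := hdec ((C.Φ.B y' z)⁻¹ • z) (by simp [h0])
    obtain ⟨a, ha, b, hb, e⟩ := Submodule.mem_sup.1 (show w ∈ _ by rw [k2]; trivial)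
    have h5 : a = 0 := Submodule.disjoint_def.1 hh.disjoint a ha (by
      rw [eq_sub_of_add_eq e, mem_perp_pair]
      simp [h1, h2, hb.1, hb.2.1])
    rw [h5, zero_add] at e
    obtain ⟨-, -, k, h6⟩ := e ▸ hb
    have h7 : C.Φ.B ((C.Φ.B y' z)⁻¹ • z) ((C.Φ.B y' z)⁻¹ • z) = 0 := by simp [h]
    have h8 := h6.1
    rw [h4] at h7
    generalize C.Φ.B y ((C.Φ.B y' z)⁻¹ • z) = k' at h4 h7
    have h9 := (aa_shift hh hy' h2 h6 (k' := k') (by
      simp only [map_add, LinearMap.add_apply, B_smul_left, B_smul_right, hy.1, hy'.1, h1, h2, h3,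
        hh.one, C.Φ.B_eq_zero_symm h1, C.Φ.B_eq_zero_symm h2] at h7 h8
      rw [map_sub]
      linear_combination h7 - h8)).smul (C.Φ.B y' z)
    simpa [← h4, h0] using h9
  by_cases h0 : C.Φ.B y' z = 0
  swap
  · exact k3 z hz h0
  by_cases hz0 : z = 0
  · simpa [hz0] using hy.smul 0
  obtain ⟨a, ha, h1, h2⟩ := exists_sing_not_perp C.hΦ hh.right hh.right_ne hz0 h0
  have h4 := T_apply_zero (C.ed_zero hz hs) a
  have h5 := (k3 ((C.T z 0 s).1 a) (by rw [O_B, ha.1]) (by rw [h4]; simpa [h0] using h1)).comb hΩ hN hx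
    (k3 a ha.1 h1) (a := (s * C.Φ.B z a)⁻¹) (b := -(s * C.Φ.B z a)⁻¹)
  rw [h4, show (s * C.Φ.B z a)⁻¹ • (a + (s * C.Φ.B z a) • z) + -(s * C.Φ.B z a)⁻¹ • a = z by
    rw [smul_add, inv_smul_smul₀ (mul_ne_zero hs0 h2)]; module] at h5
  exact h5 hz

end A

theorem fix_of_all (hV : 4 ≤ finrank F V) {x : X} (h : ∀ z, C.Φ.B z z = 0 → C.TA z x)
    {g : C.Φ.O} (hg : g ∈ C.G) : g • x = x := by
  have h1 := mem_closure_oTransv g (mem_closure_transvections_herm C.σ_ne C.hε C.hΦ (by omega)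
    (Or.inl (by omega)) g.2 (mem_SO.1 hg))
  refine (Subgroup.closure_le (MulAction.stabilizer C.Φ.O x)).2 ?_ h1
  rintro k ⟨-, d, s, hd, hk⟩
  by_cases h0 : d = 0
  · rw [show k = 1 from O_ext _ fun v => by simp [hk, qrefl_apply, h0]]
    exact one_mem _
  obtain ⟨v, hv⟩ := C.hΦ.exists_ne h0
  have h2 := O_B C.Φ k v v
  have h3 : C.Φ.B v d = 1 := by rw [← C.σB, hv, map_one]
  simp only [hk, qrefl_apply, map_add, LinearMap.add_apply, B_smul_left, B_smul_right, hv, hd, h3,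
    mul_one, mul_zero, add_zero] at h2
  have h4 : s + C.σ s = 0 := by linear_combination h2
  rw [show k = C.T d 0 s from O_ext _ fun v => by
    rw [hk, T_apply_zero (C.ed_zero hd h4), qrefl_apply]]
  exact h d hd s h4

theorem no_fix_point {x : X} (hfin : (gorb C.G x).Finite) (hN : C.Num (gorb C.G x).ncard) {v : V}
    (h0 : v ≠ 0) (h : ∀ g ∈ C.G, g • x = x → g.1 v ∈ F ∙ v) : False := by
  have := finite_of_fd F V
  have h1 := gorb_count hfin (K := {w | w ≠ 0 ∧ C.Φ.B w w = C.Φ.B v v})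
    (S := {w | w ∈ F ∙ v ∧ w ≠ 0 ∧ C.Φ.B w w = C.Φ.B v v}) (Set.toFinite _) (by
      intro w hw
      obtain ⟨g, hg, h1⟩ := C.exists_SO_one (by have := hN.dim; omega) h0 hw.1 hw.2.symm
      exact ⟨g, hg, v, ⟨Submodule.mem_span_singleton_self v, h0, rfl⟩, h1⟩) (by
      rintro g hg hx w ⟨h1, h2, h3⟩
      obtain ⟨a, rfl⟩ := Submodule.mem_span_singleton.1 h1
      exact ⟨by rw [O_smul_def, map_smul]; exact Submodule.smul_mem _ _ (h g hg hx),
        O_apply_ne_zero g h2, by rw [O_smul_def, O_B, h3]⟩)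
  by_cases hv : C.Φ.B v v = 0
  · have h2 : {w | w ∈ F ∙ v ∧ w ≠ 0 ∧ C.Φ.B w w = C.Φ.B v v}.ncard ≤ C.q ^ 2 - 1 := by
      have h3 := C.ncard_sub (F ∙ v)
      rw [finrank_span_singleton h0] at h3
      rw [← h3, ← Set.ncard_sdiff_singleton_of_mem (zero_mem (F ∙ v))]
      exact Set.ncard_le_ncard fun w hw => ⟨hw.1, hw.2.1⟩
    have := hN.hs
    rw [hv] at h1 h2
    have := Nat.mul_le_mul_left (gorb C.G x).ncard h2
    omega
  · have h2 : {w | w ∈ F ∙ v ∧ w ≠ 0 ∧ C.Φ.B w w = C.Φ.B v v}.ncard ≤ C.q + 1 := by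
      rw [← card_norm_eq C.hF 1 one_ne_zero (one_pow _), ← Set.coe_ofPred, Nat.card_coe_set_eq,
        ← Set.ncard_image_of_injective _ (smul_left_injective F h0)]
      refine Set.ncard_le_ncard fun w hw => ?_
      obtain ⟨a, rfl⟩ := Submodule.mem_span_singleton.1 hw.1
      refine ⟨a, mul_right_cancel₀ hv ?_, rfl⟩
      have h3 := hw.2.2
      rw [B_smul_left, B_smul_right, σ_apply] at h3
      rw [one_mul, pow_succ, mul_assoc, h3]
    have h3 := hN.hn _ hv (C.σB v v)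
    have := Nat.mul_le_mul_left (gorb C.G x).ncard h2
    have h4 : {w | w ≠ 0 ∧ C.Φ.B w w = C.Φ.B v v} = {w | C.Φ.B w w = C.Φ.B v v} := by
      ext w
      exact ⟨fun h => h.2, fun h => ⟨by rintro rfl; exact hv (by simpa using h.symm), h⟩⟩
    rw [h4] at h1
    omega

theorem smul_toAdd_eq {g : C.Φ.O} {E : Submodule F V} (h : ∀ e ∈ E, g.1 e ∈ E) :
    g • E.toAddSubgroup = E.toAddSubgroup := LC.smul_toAdd_eq (g := g.1) h rfl

theorem no_fix_aux {x : X} (hfin : (gorb C.G x).Finite) (hN : C.Num (gorb C.G x).ncard)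
    {U : Submodule F V} (hU : ∀ g ∈ C.G, g • x = x → ∀ u ∈ U, g.1 u ∈ U) {c u : V}
    (hc : C.Φ.B c c = 0) (hcU : c ∉ U) (h1 : ∃ v ∈ U, C.Φ.B c v ≠ 0) (hu : u ∈ U)
    (hu0 : C.Φ.B u u = 0) (huc : u ∉ F ∙ c) (h2 : C.Φ.B c u = 0) {l : F}
    (h3 : ∀ v ∈ U, C.Φ.B u v = l * C.Φ.B c v) : False := by
  obtain ⟨k1, k2⟩ := gorb_le (G := C.G) (y := U.toAddSubgroup) hfin
    fun g hg hx => smul_toAdd_eq (hU g hg hx)
  obtain ⟨s, hs0, hs⟩ := C.exists_Zs
  refine not_nz' (gInv_gorb k1) (hN.mono k2) hc (by rintro rfl; exact hcU (zero_mem _))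
    (self_mem_gorb _) (fun h => ?_) ?_
  · obtain ⟨v, hv, h4⟩ := h1
    have h5 : (C.T c 0 s).1 v ∈ U.toAddSubgroup := by
      rw [← h s hs]; exact AddSubgroup.smul_mem_pointwise_smul _ _ _ hv
    rw [T_apply_zero (C.ed_zero hc hs)] at h5
    have h6 := U.smul_mem (s * C.Φ.B c v)⁻¹ (U.sub_mem h5 hv)
    rw [add_sub_cancel_left, inv_smul_smul₀ (mul_ne_zero hs0 h4)] at h6
    exact hcU h6
  · obtain ⟨a, ha, h4⟩ : ∃ a : F, a ≠ 0 ∧ a * C.σ l + C.σ (a * C.σ l) = 0 := by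
      by_cases hl : C.σ l = 0
      · exact ⟨1, one_ne_zero, by simp [hl]⟩
      · exact ⟨s / C.σ l, div_ne_zero hs0 hl, by rwa [div_mul_cancel₀ _ hl]⟩
    have h5 : C.ED c (a • u) (a * C.σ l) := ⟨hc, by simp [h2], by rw [h4]; simp [hu0]⟩
    refine ⟨a • u, fun h6 => huc (by simpa [ha] using (F ∙ c).smul_mem a⁻¹ h6), _, h5,
      smul_toAdd_eq fun v hv => ?_⟩
    rw [T_apply h5, B_smul_left, h3 v hv, map_mul, σσ, mul_assoc, sub_self, zero_smul, add_zero]
    exact U.sub_mem hv (U.smul_mem _ (U.smul_mem _ hu))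

theorem no_fix_one {x : X} (hfin : (gorb C.G x).Finite) (hN : C.Num (gorb C.G x).ncard)
    {U : Submodule F V} (hU : ∀ g ∈ C.G, g • x = x → ∀ u ∈ U, g.1 u ∈ U) (h0 : U ≠ ⊥) :
    2 ≤ finrank F U := by
  by_contra h1
  obtain ⟨v, hv, hv0⟩ := Submodule.exists_mem_ne_zero_of_ne_bot h0
  have h2 : (F ∙ v) = U := Submodule.eq_of_le_of_finrank_le
    ((Submodule.span_singleton_le_iff_mem _ _).2 hv) (by rw [finrank_span_singleton hv0]; omega)
  exact no_fix_point hfin hN hv0 fun g hg hx => h2 ▸ hU g hg hx v hv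

theorem no_fix_sub {x : X} (hfin : (gorb C.G x).Finite) (hN : C.Num (gorb C.G x).ncard)
    {U : Submodule F V} (hU : ∀ g ∈ C.G, g • x = x → ∀ u ∈ U, g.1 u ∈ U) (h0 : U ≠ ⊥)
    (h1 : U ≠ ⊤) : False := by
  have hU' : ∀ g ∈ C.G, g • x = x → ∀ u ∈ C.Φ.perp U, g.1 u ∈ C.Φ.perp U := fun g hg hx u hu =>
    C.Φ.mem_perp.2 fun w hw => by
      rw [O_B_right]
      exact C.Φ.mem_perp.1 hu _ (hU _ (inv_mem hg) (inv_smul_eq_iff.2 hx.symm) w hw)
  by_cases h2 : U ⊓ C.Φ.perp U = ⊥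
  · have h3 := disjoint_iff.2 h2
    obtain ⟨u, hu, hu0, hu1⟩ := exists_sing_of_herm C.σ_ne C.hε (no_fix_one hfin hN hU h0)
    obtain ⟨z, hz, hz0, hz1⟩ := exists_sing_of_herm C.σ_ne C.hε (no_fix_one hfin hN hU'
      fun e => h1 (by rw [← C.hΦ.perp_perp U, e]; simp [eq_top_iff, SetLike.le_def, mem_perp]))
    have h4 := C.Φ.mem_perp'.1 hz
    have h5 : ∀ t : F, t • z ∈ U → t = 0 := fun t ht => by
      simpa [hz0] using Submodule.disjoint_def.1 h3 _ ht (Submodule.smul_mem _ t hz)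
    refine no_fix_aux hfin hN hU (c := u + z) (l := 1)
      (by simp [hu1.1, hz1.1, h4 u hu, C.Φ.mem_perp.1 hz u hu])
      (fun h => one_ne_zero (h5 1 (by simpa using U.sub_mem h hu))) ?_ hu hu1.1 (fun h => ?_)
      (by simp [hu1.1, h4 u hu]) fun v hv => by simp [h4 v hv]
    · by_contra! h6
      exact hu0 (Submodule.disjoint_def.1 h3 u hu (C.Φ.mem_perp'.2 fun v hv => by
        simpa [h4 v hv] using h6 v hv))
    · obtain ⟨t, ht⟩ := Submodule.mem_span_singleton.1 h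
      have := h5 t (by
        rw [show t • z = u - t • u by rw [← ht]; rw [ht]; linear_combination (norm := module) ht]
        exact U.sub_mem hu (U.smul_mem t hu))
      exact hu0 (by rw [← ht, this, zero_smul])
  · have hE : ∀ g ∈ C.G, g • x = x → ∀ u ∈ U ⊓ C.Φ.perp U, g.1 u ∈ U ⊓ C.Φ.perp U :=
      fun g hg hx u hu => ⟨hU g hg hx u hu.1, hU' g hg hx u hu.2⟩
    have h3 := no_fix_one hfin hN hE h2
    set E := U ⊓ C.Φ.perp U
    have h4 : ∀ a ∈ E, ∀ b ∈ E, C.Φ.B a b = 0 := fun a ha b hb => C.Φ.mem_perp.1 hb.2 a ha.1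
    obtain ⟨u, hu, hu0⟩ := Submodule.exists_mem_ne_zero_of_ne_bot h2
    obtain ⟨w, hw, hwu⟩ := SetLike.not_le_iff_exists.1 fun h : E ≤ F ∙ u => by
      have := Submodule.finrank_mono h
      rw [finrank_span_singleton hu0] at this
      omega
    obtain ⟨c, hc, -, h5, h6⟩ := C.hΦ.exists_partner hwu (h4 w hw w hw) (Q_of_κ C.hκ w)
      fun z hz => h4 w hw z ((Submodule.span_singleton_le_iff_mem _ _).2 hu hz)
    refine no_fix_aux hfin hN hE (l := 0) hc (fun h => by simp [h4 w hw c h] at h5)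
      ⟨w, hw, fun h => by simp [C.Φ.B_eq_zero_symm h] at h5⟩ hu (h4 u hu u hu) (fun h => ?_)
      (C.Φ.B_eq_zero_symm (h6 u (Submodule.mem_span_singleton_self u)))
      fun v hv => by simp [h4 u hu v hv]
    obtain ⟨t, rfl⟩ := Submodule.mem_span_singleton.1 h
    have := h4 w hw _ hu
    rw [B_smul_right, h5, mul_one] at this
    exact hu0 (by rw [this, zero_smul])

theorem fix_of_aa {x : X} (hfin : (gorb C.G x).Finite) (hN : C.Num (gorb C.G x).ncard) {c : V}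
    (h0 : c ≠ 0) (hc : C.AA x c) {g : C.Φ.O} (hg : g ∈ C.G) : g • x = x := by
  have hsp : Submodule.span F {c | C.AA x c} = ⊤ := by
    by_contra h1
    refine no_fix_sub hfin hN (fun g _ hx u hu => ?_)
      (fun e => h0 (by rw [← Submodule.mem_bot F, ← e]; exact Submodule.subset_span hc)) h1
    induction hu using Submodule.span_induction with
    | mem d hd => exact Submodule.subset_span (hd.conj hx)
    | zero => simp
    | add a b _ _ ha hb => rw [map_add]; exact add_mem ha hb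
    | smul a b _ hb => rw [map_smul]; exact Submodule.smul_mem _ a hb
  obtain ⟨y, hy, h1⟩ : ∃ y, C.AA x y ∧ C.Φ.B c y ≠ 0 := by
    by_contra! h1
    refine h0 (C.hΦ c fun v => C.Φ.mem_perp_span_singleton.1 ?_)
    exact (Submodule.span_le (p := C.Φ.perp (F ∙ c)) (s := {c | C.AA x c})).2
      (fun y hy => C.Φ.mem_perp_span_singleton.2 (h1 y hy)) (by rw [hsp]; trivial)
  exact fix_of_all hN.dim (fun z hz => (all_aa (gInv_gorb hfin) hN (self_mem_gorb x)
    (hyp_smul (C.sing.2 hc.1) (C.sing.2 hy.1) h1) hc (hy.smul _) hsp hz).2) hg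

end UC

end H22
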