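import Cfsg.Agent.H26.HigF
import Cfsg.Agent.H1.Cores
import Cfsg.Agent.H22.GamL
import Cfsg.Prelude.Def_Transfer

/-! Automorphisms of special 2-groups described by an anisotropic squaring map. -/

set_option autoImplicit false
set_option linter.unusedSectionVars false

namespace H22.QA

open Subgroup Cfsg

theorem iso_quad {P P' V W : Type*} [Group P] [Group P'] [Finite P] [Finite P'] [AddCommGroup V]
    [AddCommGroup W] (π : P →* Multiplicative V) (π' : P' →* Multiplicative V) (hπ : Function.Surjective π)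
    (hπ' : Function.Surjective π') (i : Multiplicative W →* P) (i' : Multiplicative W →* P')
    (hi : Function.Injective i) (hi' : Function.Injective i') (hk : π.ker = i.range) (hk' : π'.ker = i'.range)
    (hc : ∀ w x, i w * x = x * i w)
    (hsq : ∀ x x', π x = π' x' → ∃ w, x * x = i w ∧ x' * x' = i' w) :
    ∃ f : P ≃* P', (∀ x, π' (f x) = π x) ∧ ∀ w, f (i w) = i' w := by
  have h0 : ∀ w, π (i w) = 1 := fun w => by rw [← MonoidHom.mem_ker, hk]; exact ⟨w, rfl⟩
  have h0' : ∀ w, π' (i' w) = 1 := fun w => by rw [← MonoidHom.mem_ker, hk']; exact ⟨w, rfl⟩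
  obtain ⟨C, hDC, ⟨hCE, hC⟩, hmax⟩ := Finite.exists_le_maximal
    (p := fun C : Subgroup (P × P') => (∀ x ∈ C, π x.1 = π' x.2) ∧ ∀ x, (x, 1) ∈ C → x = 1)
    (a := (i.prod i').range) ⟨by rintro _ ⟨w, rfl⟩; exact (h0 w).trans (h0' w).symm, by
      rintro x ⟨w, h⟩
      obtain ⟨h1, h2⟩ := Prod.ext_iff.1 h
      have : w = 1 := hi' (h2.trans (map_one i').symm)
      subst this
      exact h1.symm.trans (map_one i)⟩
  have hD : ∀ w, (i w, i' w) ∈ C := fun w => hDC ⟨w, rfl⟩
  have hE : ∀ g : P × P', π g.1 = π' g.2 → g * g ∈ C := fun g hg => by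
    obtain ⟨w, h1, h2⟩ := hsq _ _ hg
    rw [show g * g = (i w, i' w) from Prod.ext h1 h2]; exact hD w
  have key : ∀ g : P × P', π g.1 = π' g.2 → ∃ c ∈ C, ∃ w, g = c * (i w, 1) := by
    intro g hg
    by_contra hn
    have hconj : ∀ c ∈ C, g⁻¹ * c * g ∈ C := fun c hc => by
      have h1 := hE (g⁻¹ * c) (by simp [hg, hCE c hc])
      have : g⁻¹ * c * g = g⁻¹ * c * (g⁻¹ * c) * c⁻¹ * (g * g) := by group
      rw [this]
      exact mul_mem (mul_mem h1 (inv_mem hc)) (hE g hg)
    let C' : Subgroup (P × P') :=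
      { carrier := {x | x ∈ C ∨ g⁻¹ * x ∈ C}
        one_mem' := Or.inl C.one_mem
        mul_mem' := by
          rintro x y (hx | hx) (hy | hy)
          · exact Or.inl (mul_mem hx hy)
          · right
            have : g⁻¹ * (x * y) = g⁻¹ * x * g * (g⁻¹ * y) := by group
            rw [this]; exact mul_mem (hconj x hx) hy
          · right
            rw [← mul_assoc]; exact mul_mem hx hy
          · left
            have : x * y = g * g * (g⁻¹ * (g⁻¹ * x) * g) * (g⁻¹ * y) := by group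
            rw [this]; exact mul_mem (mul_mem (hE g hg) (hconj _ hx)) hy
        inv_mem' := by
          rintro x (hx | hx)
          · exact Or.inl (inv_mem hx)
          · right
            have : g⁻¹ * x⁻¹ = g⁻¹ * (g⁻¹ * x)⁻¹ * g * (g * g)⁻¹ := by group
            rw [this]; exact mul_mem (hconj _ (inv_mem hx)) (inv_mem (hE g hg)) }
    have hE' : ∀ x ∈ C', π x.1 = π' x.2 := by
      rintro x (hx | hx)
      · exact hCE x hx
      · have := hCE _ hx
        simpa [hg] using this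
    have := hmax (y := C') ⟨hE', by
      rintro x hx'
      rcases id hx' with hx | hx
      · exact hC x hx
      · exfalso
        have h1 : x ∈ i.range := by rw [← hk, MonoidHom.mem_ker]; simpa using hE' _ hx'
        obtain ⟨w, rfl⟩ := h1
        refine hn ⟨_, inv_mem hx, w, ?_⟩
        ext
        · simp [mul_assoc, ← hc w]
        · simp⟩ (fun x hx => Or.inl hx)
    exact hn ⟨g, this (Or.inr (by simp)), 1, by simp⟩
  have b1 : Function.Bijective ((MonoidHom.fst P P').comp C.subtype) := by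
    constructor
    · rw [injective_iff_map_eq_one]
      rintro ⟨⟨x, x'⟩, hx⟩ h
      obtain rfl : x = 1 := h
      have h1 : x' ∈ i'.range := by rw [← hk', MonoidHom.mem_ker]; simpa using (hCE _ hx).symm
      obtain ⟨w, rfl⟩ := h1
      have := hC (i w) (by simpa using C.mul_mem (hD w) (inv_mem hx))
      have : w = 1 := hi (this.trans (map_one i).symm)
      subst this
      exact Subtype.ext (by simp)
    · intro x
      obtain ⟨x', h⟩ := hπ' (π x)
      obtain ⟨c, hc, w, e⟩ := key (x, x') h.symm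
      exact ⟨⟨c * (i w, i' w), mul_mem hc (hD w)⟩, (congrArg Prod.fst e).symm⟩
  have b2 : Function.Bijective ((MonoidHom.snd P P').comp C.subtype) := by
    constructor
    · rw [injective_iff_map_eq_one]
      rintro ⟨⟨x, x'⟩, hx⟩ h
      obtain rfl : x' = 1 := h
      exact Subtype.ext (Prod.ext (hC x hx) rfl)
    · intro x'
      obtain ⟨x, h⟩ := hπ (π' x')
      obtain ⟨c, hc, w, e⟩ := key (x, x') h
      exact ⟨⟨c, hc⟩, by simpa using (congrArg Prod.snd e).symm⟩
  refine ⟨(MulEquiv.ofBijective _ b1).symm.trans (MulEquiv.ofBijective _ b2), fun x => ?_, fun w => ?_⟩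
  · obtain ⟨c, rfl⟩ := (MulEquiv.ofBijective _ b1).surjective x
    rw [MulEquiv.trans_apply, MulEquiv.symm_apply_apply]
    exact (hCE c c.2).symm
  · rw [show i w = MulEquiv.ofBijective _ b1 ⟨_, hD w⟩ from rfl, MulEquiv.trans_apply,
      MulEquiv.symm_apply_apply]
    rfl


/-- a central extension of elementary abelian 2-groups with anisotropic, surjective squaring map -/
structure QX {P V W : Type*} [Group P] [AddCommGroup V] [AddCommGroup W]
    (π : P →* Multiplicative V) (i : Multiplicative W →* P) (Q : V → W) : Prop where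
  surj : Function.Surjective π
  inj : Function.Injective i
  ker : π.ker = i.range
  cent : ∀ w x, i w * x = x * i w
  sq : ∀ x, x * x = i (.ofAdd (Q (π x).toAdd))
  Qsurj : Function.Surjective Q
  Qzero : ∀ v, Q v = 0 ↔ v = 0

theorem card_hom {V W : Type*} [AddCommGroup V] [AddCommGroup W] [Finite V] [Finite W]
    (hV : ∀ v : V, v + v = 0) (hW : ∀ w : W, w + w = 0) {r s : ℕ} (hr : Nat.card V = 2 ^ r)
    (hs : Nat.card W = 2 ^ s) : Nat.card (V →+ W) = 2 ^ (r * s) := by
  let _ : Module (ZMod 2) V := AddCommGroup.zmodModule (n := 2) fun v => by rw [two_nsmul, hV]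
  let _ : Module (ZMod 2) W := AddCommGroup.zmodModule (n := 2) fun v => by rw [two_nsmul, hW]
  have e1 : Module.finrank (ZMod 2) V = r := by
    have := Module.natCard_eq_pow_finrank (K := ZMod 2) (V := V)
    rw [hr, Nat.card_zmod] at this
    exact (Nat.pow_right_injective le_rfl this).symm
  have e2 : Module.finrank (ZMod 2) W = s := by
    have := Module.natCard_eq_pow_finrank (K := ZMod 2) (V := W)
    rw [hs, Nat.card_zmod] at this
    exact (Nat.pow_right_injective le_rfl this).symm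
  rw [Nat.card_congr (AddMonoidHom.toZModLinearMapEquiv 2).toEquiv,
    Module.natCard_eq_pow_finrank (K := ZMod 2), Module.finrank_linearMap, e1, e2, Nat.card_zmod]

namespace QX

variable {P V W : Type*} [Group P] [AddCommGroup V] [AddCommGroup W]
  {π : P →* Multiplicative V} {i : Multiplicative W →* P} {Q : V → W} (h : QX π i Q)
include h

theorem πi (w : Multiplicative W) : π (i w) = 1 := by
  rw [← MonoidHom.mem_ker, h.ker]; exact ⟨w, rfl⟩

theorem π_eq_one {x : P} : π x = 1 ↔ x * x = 1 := by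
  rw [h.sq, ← map_one i, h.inj.eq_iff, ofAdd_eq_one, h.Qzero, toAdd_eq_zero]

theorem ex_i {x : P} (hx : π x = 1) : ∃ w, i w = x := by
  rw [← MonoidHom.mem_ker, h.ker] at hx; exact hx

theorem hW (w : W) : w + w = 0 := by
  have := h.π_eq_one.1 (h.πi (.ofAdd w))
  rw [← map_mul, ← map_one i, h.inj.eq_iff] at this
  exact this

theorem hV (v : V) : v + v = 0 := by
  obtain ⟨x, hx⟩ := h.surj (.ofAdd v)
  have := h.πi (.ofAdd (Q (π x).toAdd))
  rw [← h.sq, map_mul, hx] at this
  exact this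

theorem π_aut (α : MulAut P) {x y : P} (e : π x = π y) : π (α x) = π (α y) := by
  have h1 : π (x⁻¹ * y) = 1 := by simp [e]
  rw [h.π_eq_one] at h1
  have h2 : π (α (x⁻¹ * y)) = 1 := by rw [h.π_eq_one, ← map_mul, h1, map_one]
  rw [map_mul, map_inv, map_mul, map_inv, inv_mul_eq_one] at h2
  exact h2

theorem exists_phi : ∃ Φ : MulAut P →* Equiv.Perm V, ∀ α x, Φ α (π x).toAdd = (π (α x)).toAdd := by
  let f : MulAut P → V → V := fun α v => (π (α (Function.surjInv h.surj (.ofAdd v)))).toAdd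
  have hf : ∀ α x, f α (π x).toAdd = (π (α x)).toAdd := fun α x =>
    congrArg Multiplicative.toAdd (h.π_aut α (Function.surjInv_eq h.surj _))
  have ex : ∀ v : V, ∃ x, (π x).toAdd = v := fun v => by
    obtain ⟨x, hx⟩ := h.surj (.ofAdd v); exact ⟨x, by rw [hx]; rfl⟩
  clear_value f
  refine ⟨MonoidHom.mk' (fun α => ⟨f α, f α⁻¹, fun v => ?_, fun v => ?_⟩) fun α β => ?_, hf⟩
  · obtain ⟨x, rfl⟩ := ex v
    rw [hf, hf]; simp
  · obtain ⟨x, rfl⟩ := ex v
    rw [hf, hf]; simp
  · ext v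
    obtain ⟨x, rfl⟩ := ex v
    simp only [Equiv.coe_fn_mk, Equiv.Perm.mul_apply, hf, MulAut.mul_apply]

theorem ex (v : V) : ∃ x, (π x).toAdd = v := by
  obtain ⟨x, hx⟩ := h.surj (.ofAdd v); exact ⟨x, by rw [hx]; rfl⟩

theorem exists_g (α : MulAut P) : ∃ g : W →+ W, ∀ w, α (i (.ofAdd w)) = i (.ofAdd (g w)) := by
  have : ∀ w : W, ∃ w' : W, α (i (.ofAdd w)) = i (.ofAdd w') := fun w => by
    obtain ⟨w', hw'⟩ := h.ex_i (x := α (i (.ofAdd w))) (by
      rw [h.π_eq_one, ← map_mul, h.π_eq_one.1 (h.πi _), map_one])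
    exact ⟨w'.toAdd, hw'.symm⟩
  choose g hg using this
  refine ⟨AddMonoidHom.mk' g fun a b => ?_, hg⟩
  have := hg (a + b)
  rw [ofAdd_add, map_mul, map_mul, hg, hg, ← map_mul, h.inj.eq_iff] at this
  exact (congrArg Multiplicative.toAdd this).symm

variable {Φ : MulAut P →* Equiv.Perm V} (hΦ : ∀ α x, Φ α (π x).toAdd = (π (α x)).toAdd)
include hΦ

theorem mem_range [Finite P] {f : Equiv.Perm V} : f ∈ Φ.range ↔
    (∀ v w, f (v + w) = f v + f w) ∧ ∃ g : W →+ W, ∀ v, g (Q v) = Q (f v) := by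
  constructor
  · rintro ⟨α, rfl⟩
    refine ⟨fun v w => ?_, ?_⟩
    · obtain ⟨x, rfl⟩ := h.ex v
      obtain ⟨y, rfl⟩ := h.ex w
      rw [← toAdd_mul, ← map_mul, hΦ, hΦ, hΦ, map_mul, map_mul, toAdd_mul]
    · obtain ⟨g, hg⟩ := h.exists_g α
      refine ⟨g, fun v => ?_⟩
      obtain ⟨x, rfl⟩ := h.ex v
      have := hg (Q (π x).toAdd)
      rw [← h.sq, map_mul, h.sq, h.inj.eq_iff] at this
      rw [hΦ]
      exact (congrArg Multiplicative.toAdd this).symm
  · rintro ⟨hf, g, hg⟩
    have : Finite W := Finite.of_injective _ (h.inj.comp Multiplicative.ofAdd.injective)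
    have gs : Function.Surjective g := fun w => by
      obtain ⟨v, rfl⟩ := h.Qsurj w
      obtain ⟨v, rfl⟩ := f.surjective v
      exact ⟨_, hg v⟩
    have gi : Function.Injective g := Finite.injective_iff_surjective.2 gs
    let f' : V →+ V := AddMonoidHom.mk' f hf
    obtain ⟨α, h1, -⟩ := iso_quad (f'.toMultiplicative.comp π) π
      ((show Function.Surjective f'.toMultiplicative from f.surjective).comp h.surj) h.surj i
      (i.comp g.toMultiplicative) h.inj (h.inj.comp gi) (by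
        rw [← h.ker]; ext x
        simp only [MonoidHom.mem_ker, MonoidHom.comp_apply]
        exact map_eq_one_iff _ (show Function.Injective f'.toMultiplicative from f.injective))
      (by rw [h.ker, MonoidHom.range_comp, MonoidHom.range_eq_top.2
        (show Function.Surjective g.toMultiplicative from gs), ← MonoidHom.range_eq_map])
      h.cent (fun x x' e => ⟨_, h.sq x, by
        rw [h.sq, ← e]
        exact congrArg (fun w => i (.ofAdd w)) (hg _).symm⟩)
    refine ⟨α, Equiv.ext fun v => ?_⟩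
    obtain ⟨x, rfl⟩ := h.ex v
    rw [hΦ, h1]; rfl

omit hΦ in
/-- the central automorphism attached to an additive map -/
def cen (t : V →+ W) : MulAut P where
  toFun x := x * i (.ofAdd (t (π x).toAdd))
  invFun x := x * i (.ofAdd (t (π x).toAdd))
  left_inv x := by
    simp only [map_mul, h.πi, mul_one, mul_assoc, h.π_eq_one.1 (h.πi _)]
  right_inv x := by
    simp only [map_mul, h.πi, mul_one, mul_assoc, h.π_eq_one.1 (h.πi _)]
  map_mul' x y := by
    simp only [map_mul, toAdd_mul, map_add, ofAdd_add, mul_assoc]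
    rw [← mul_assoc (i _) y, h.cent _ y, mul_assoc]

omit hΦ in
theorem cen_apply (t : V →+ W) (x : P) : h.cen t x = x * i (.ofAdd (t (π x).toAdd)) := rfl

omit hΦ in
theorem cen_mul (s t : V →+ W) : h.cen s * h.cen t = h.cen (s + t) := by
  ext x
  rw [MulAut.mul_apply, cen_apply, cen_apply, cen_apply, map_mul, h.πi, mul_one,
    AddMonoidHom.add_apply, mul_assoc, ← map_mul, ← ofAdd_add, add_comm (t _)]

omit hΦ in
theorem cen_zero : h.cen 0 = 1 := by
  ext x; simp [cen_apply]

omit hΦ in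
theorem cen_inj : Function.Injective h.cen := fun s t e => by
  ext v
  obtain ⟨x, rfl⟩ := h.ex v
  have := MulEquiv.congr_fun e x
  rw [cen_apply, cen_apply, mul_left_cancel_iff, h.inj.eq_iff] at this
  exact this

theorem mem_ker {α : MulAut P} : α ∈ Φ.ker ↔ ∃ t, α = h.cen t := by
  constructor
  · intro hα
    have h1 : ∀ x, π (α x) = π x := fun x => by
      have := hΦ α x
      rw [MonoidHom.mem_ker.1 hα] at this
      exact (Multiplicative.toAdd.injective this).symm
    have h2 : ∀ w, α (i w) = i w := fun w => by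
      obtain ⟨v, hv⟩ := h.Qsurj w.toAdd
      obtain ⟨x, rfl⟩ := h.ex v
      have : i w = x * x := by rw [h.sq, hv]; rfl
      rw [this, map_mul, h.sq, h1, h.sq]
    have h3 : ∀ x, ∃ w : W, α x = x * i (.ofAdd w) := fun x => by
      obtain ⟨w, hw⟩ := h.ex_i (x := x⁻¹ * α x) (by simp [h1])
      exact ⟨w.toAdd, by rw [ofAdd_toAdd, hw]; simp⟩
    choose k hk using h3
    have h4 : ∀ x y, π x = π y → k x = k y := fun x y e => by
      obtain ⟨w, hw⟩ := h.ex_i (x := x⁻¹ * y) (by simp [e])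
      have e2 : y = x * i w := by rw [hw]; simp
      have := hk y
      rw [e2, map_mul, h2, hk x, mul_assoc, mul_assoc, mul_left_cancel_iff, ← h.cent,
        mul_left_cancel_iff, h.inj.eq_iff, ← e2] at this
      exact this
    choose s hs using h.ex
    refine ⟨AddMonoidHom.mk' (fun v => k (s v)) fun a b => ?_, MulEquiv.ext fun x => ?_⟩
    · rw [h4 (s (a + b)) (s a * s b) (Multiplicative.toAdd.injective (by
        rw [hs, map_mul, toAdd_mul, hs, hs]))]
      have := hk (s a * s b)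
      rw [map_mul, hk, hk, mul_assoc, mul_assoc, mul_left_cancel_iff, ← mul_assoc, h.cent, mul_assoc,
        mul_left_cancel_iff, ← map_mul, h.inj.eq_iff] at this
      exact (congrArg Multiplicative.toAdd this).symm
    · rw [cen_apply, hk x, h4 x (s (π x).toAdd) (Multiplicative.toAdd.injective (hs _).symm)]
      rfl
  · rintro ⟨t, rfl⟩
    rw [MonoidHom.mem_ker]
    ext v
    obtain ⟨x, rfl⟩ := h.ex v
    rw [hΦ, cen_apply, map_mul, h.πi, mul_one]; rfl

theorem card_ker : Nat.card Φ.ker = Nat.card (V →+ W) :=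
  (Nat.card_congr (Equiv.ofBijective (fun t => (⟨h.cen t, (h.mem_ker hΦ).2 ⟨t, rfl⟩⟩ : Φ.ker))
    ⟨fun _ _ e => h.cen_inj (congrArg Subtype.val e), fun α => by
      obtain ⟨t, ht⟩ := (h.mem_ker hΦ).1 α.2
      exact ⟨t, Subtype.ext ht.symm⟩⟩)).symm

theorem elem_ker : IsElementaryAbelian 2 Φ.ker := by
  refine ⟨⟨⟨fun a b => ?_⟩⟩, fun a ha => ?_⟩
  · obtain ⟨s, hs⟩ := (h.mem_ker hΦ).1 a.2
    obtain ⟨t, ht⟩ := (h.mem_ker hΦ).1 b.2
    apply Subtype.ext
    rw [coe_mul, coe_mul, hs, ht, cen_mul, cen_mul, add_comm]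
  · obtain ⟨s, rfl⟩ := (h.mem_ker hΦ).1 ha
    rw [pow_two, cen_mul, ← h.cen_zero]
    congr 1
    ext v; exact h.hW _

end QX

section Gam

variable (F : Type*) [Field F]

/-- the one-dimensional semilinear group as a permutation group -/
def Gam : Subgroup (Equiv.Perm F) where
  carrier := {f | ∃ (l : F) (τ : F ≃+* F), l ≠ 0 ∧ ∀ v, f v = l * τ v}
  one_mem' := ⟨1, 1, one_ne_zero, fun v => by simp⟩
  mul_mem' := by
    rintro f g ⟨l, τ, hl, hf⟩ ⟨m, ρ, hm, hg⟩
    exact ⟨l * τ m, τ * ρ, mul_ne_zero hl (by simpa using hm), fun v => by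
      simp [hf, hg, mul_assoc]⟩
  inv_mem' := by
    rintro f ⟨l, τ, hl, hf⟩
    refine ⟨τ⁻¹ l⁻¹, τ⁻¹, by simpa using hl, fun v => ?_⟩
    rw [Equiv.Perm.inv_eq_iff_eq, hf, ← map_mul]
    have : ∀ y, τ (τ⁻¹ y) = y := fun y => τ.apply_symm_apply y
    rw [this, mul_inv_cancel_left₀ hl]

variable {F}

theorem mem_Gam {f : Equiv.Perm F} :
    f ∈ Gam F ↔ ∃ (l : F) (τ : F ≃+* F), l ≠ 0 ∧ ∀ v, f v = l * τ v := Iff.rfl

/-- the semilinear permutation -/
def gam (l : Fˣ) (τ : F ≃+* F) : Equiv.Perm F := (τ.toEquiv).trans (Equiv.mulLeft₀ l.1 l.ne_zero)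

theorem gam_apply (l : Fˣ) (τ : F ≃+* F) (v : F) : gam l τ v = l * τ v := rfl

theorem card_Gam [Fintype F] {n : ℕ} (hF : Fintype.card F = 2 ^ n) :
    Nat.card (Gam F) = n * (2 ^ n - 1) := by
  have : Fact (Nat.Prime 2) := ⟨Nat.prime_two⟩
  rw [← Nat.card_congr (Equiv.ofBijective (fun p : (F ≃+* F) × Fˣ =>
    (⟨gam p.2 p.1, p.2, p.1, p.2.ne_zero, fun _ => rfl⟩ : Gam F)) ⟨?_, ?_⟩), Nat.card_prod,
    card_ringAut hF, card_units_field, hF]
  · rintro ⟨τ, l⟩ ⟨ρ, m⟩ e
    have e' : ∀ v, (l : F) * τ v = m * ρ v := fun v =>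
      congrArg (fun f : Gam F => f.1 v) e
    have h1 : l = m := Units.ext (by simpa using e' 1)
    subst h1
    exact Prod.ext (RingEquiv.ext fun v => mul_left_cancel₀ l.ne_zero (e' v)) rfl
  · rintro ⟨f, l, τ, hl, hf⟩
    exact ⟨(τ, Units.mk0 l hl), Subtype.ext (Equiv.ext fun v => (hf v).symm)⟩

theorem eq_one_of_pow [Fintype F] [CharP F 2] {l : F} {k : ℕ} (h : l ^ 2 ^ k = 1) : l = 1 := by
  have := sub_pow_char_pow l 1 (p := 2) (n := k)
  rw [h, one_pow, sub_self] at this
  exact sub_eq_zero.1 (pow_eq_zero_iff (by positivity) |>.1 this)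

theorem pCore_eq {G : Type*} [Group G] [Fintype F] [CharP F 2] (Φ : G →* Equiv.Perm F)
    (hr : Φ.range = Gam F) (hk : IsPGroup 2 Φ.ker) : pCore 2 G = Φ.ker := by
  have : Fact (Nat.Prime 2) := ⟨Nat.prime_two⟩
  refine le_antisymm (fun x hx => ?_) (H1.le_pCore hk)
  have key : ∀ y ∈ pCore 2 G, ∀ m : F, (∀ v, Φ y v = m * v) → m = 1 := by
    intro y hy m hm
    obtain ⟨k, hk⟩ := H1.isPGroup_pCore (G := G) 2 ⟨y, hy⟩
    have h1 : y ^ 2 ^ k = 1 := congrArg Subtype.val hk
    have h2 : ∀ j : ℕ, Φ (y ^ j) 1 = m ^ j := fun j => by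
      induction j with
      | zero => simp
      | succ j ih => rw [pow_succ', map_mul, Equiv.Perm.mul_apply, ih, hm, pow_succ']
    have h3 := h2 (2 ^ k)
    rw [h1, map_one Φ] at h3
    exact eq_one_of_pow h3.symm
  obtain ⟨l, τ, hl, hf⟩ : Φ x ∈ Gam F := hr ▸ ⟨x, rfl⟩
  have hτ : ∀ m, τ m = m := by
    intro m
    by_cases hm : m = 0
    · simp [hm]
    obtain ⟨y, hy⟩ : gam (Units.mk0 m hm) 1 ∈ Φ.range := hr ▸ ⟨m, 1, hm, fun _ => rfl⟩
    have hn : (pCore 2 G).Normal := inferInstance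
    have h1 : x * (y * x⁻¹ * y⁻¹) ∈ pCore 2 G := mul_mem hx (hn.conj_mem _ (inv_mem hx) y)
    have h2 := key _ h1 (τ m / m) fun v => by
      obtain ⟨v, rfl⟩ := (Φ y).surjective v
      obtain ⟨v, rfl⟩ := (Φ x).surjective v
      rw [← Equiv.Perm.mul_apply, ← Equiv.Perm.mul_apply, ← map_mul, ← map_mul,
        show x * (y * x⁻¹ * y⁻¹) * y * x = x * y by group, map_mul, Equiv.Perm.mul_apply, hf, hf, hy,
        gam_apply, gam_apply]
      simp only [Units.val_mk0, map_mul]
      have : ∀ z : F, (1 : F ≃+* F) z = z := fun _ => rfl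
      simp only [this]
      field_simp
    rwa [div_eq_one_iff_eq hm] at h2
  have h1 := key x hx l fun v => by rw [hf, hτ]
  rw [MonoidHom.mem_ker]
  ext v
  rw [hf, hτ, h1, one_mul]; rfl

theorem aut_main {P W : Type*} [Group P] [Finite P] [AddCommGroup W] [Fintype F] [CharP F 2]
    {π : P →* Multiplicative F} {i : Multiplicative W →* P} {Q : F → W} (h : QX π i Q) {r s : ℕ}
    (hF : Fintype.card F = 2 ^ r) (hs : Nat.card W = 2 ^ s)
    (h1 : ∀ (f : F →+ F) (g : W →+ W), Function.Bijective f → (∀ v, g (Q v) = Q (f v)) →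
      ∃ (l : F) (τ : F ≃+* F), ∀ v, f v = l * τ v)
    (h2 : ∀ (l : F) (τ : F ≃+* F), ∃ g : W →+ W, ∀ v, g (Q v) = Q (l * τ v)) :
    IsElementaryAbelian 2 (pCore 2 (MulAut P)) ∧ Nat.card (pCore 2 (MulAut P)) = 2 ^ (r * s) ∧
      Nat.card (MulAut P) = 2 ^ (r * s) * (r * (2 ^ r - 1)) := by
  obtain ⟨Φ, hΦ⟩ := h.exists_phi
  have : Finite W := Finite.of_injective _ (h.inj.comp Multiplicative.ofAdd.injective)
  have hr : Φ.range = Gam F := by
    ext f
    rw [h.mem_range hΦ, mem_Gam]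
    constructor
    · rintro ⟨hf, g, hg⟩
      obtain ⟨l, τ, hl⟩ := h1 (AddMonoidHom.mk' f hf) g f.bijective hg
      refine ⟨l, τ, fun e => ?_, hl⟩
      have h3 := hl 1
      have h4 := hl 0
      rw [e, zero_mul] at h3 h4
      exact one_ne_zero (f.injective (h3.trans h4.symm))
    · rintro ⟨l, τ, -, hf⟩
      obtain ⟨g, hg⟩ := h2 l τ
      exact ⟨fun v w => by rw [hf, hf, hf, map_add, mul_add], g, fun v => by rw [hg, hf]⟩
  have hc : Nat.card Φ.ker = 2 ^ (r * s) := by
    rw [h.card_ker hΦ, card_hom h.hV h.hW (by rw [Nat.card_eq_fintype_card, hF]) hs]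
  have : Fact (Nat.Prime 2) := ⟨Nat.prime_two⟩
  rw [pCore_eq Φ hr (IsPGroup.of_card hc)]
  refine ⟨h.elem_ker hΦ, hc, ?_⟩
  rw [← Subgroup.card_mul_index Φ.ker, Subgroup.index_ker, hr, hc, card_Gam hF]

theorem QX.of_equiv {P P' V W : Type*} [Group P] [Group P'] [AddCommGroup V] [AddCommGroup W]
    {π : P →* Multiplicative V} {i : Multiplicative W →* P} {Q : V → W} (h : QX π i Q) (e : P' ≃* P) :
    QX (π.comp e.toMonoidHom) (e.symm.toMonoidHom.comp i) Q where
  surj := h.surj.comp e.surjective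
  inj := e.symm.injective.comp h.inj
  ker := by
    ext x
    constructor
    · intro hx
      obtain ⟨w, hw⟩ := h.ex_i (x := e x) hx
      exact ⟨w, by simp [hw]⟩
    · rintro ⟨w, rfl⟩
      simp [h.πi]
  cent w x := e.injective (by simp [h.cent])
  sq x := e.injective (by simp [h.sq])
  Qsurj := h.Qsurj
  Qzero := h.Qzero

end Gam

end H22.QA
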