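import Cfsg.Agent.H22.QA
import Cfsg.Agent.H22.FldC
import Cfsg.Agent.H26.SzBasic
import Cfsg.Agent.H6.U34b

/-! Automorphism groups of the Sylow 2-subgroups of `Sz(q)` and `SU₃(q)`. -/

set_option autoImplicit false
set_option linter.unusedSectionVars false

namespace H22.QA

open Subgroup Cfsg

attribute [-simp] H23.conj_apply

theorem sum_symm {ι R : Type*} [Fintype ι] [AddCommGroup R] (M : ι × ι → R)
    (h : ∀ a b, M (a, b) + M (b, a) = 0) : ∑ p, M p = ∑ a, M (a, a) := by
  classical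
  rw [← Finset.univ_product_univ, ← Finset.diag_union_offDiag,
    Finset.sum_union (Finset.disjoint_diag_offDiag _), Finset.sum_diag,
    Finset.sum_involution (s := Finset.univ.offDiag) (fun p _ => p.swap) (fun p _ => h p.1 p.2)
      (fun p hp _ e => (Finset.mem_offDiag.1 hp).2.2 (congrArg Prod.snd e))
      (fun p hp => by simpa [eq_comm] using hp) (fun p _ => rfl), add_zero]

theorem gold {F : Type*} [Field F] [Fintype F] [CharP F 2] {θ : F ≃+* F} (hθ : θ ≠ 1)
    (h4 : θ ^ 4 = 1 → θ ^ 2 = 1) (f g : F →+ F) (h : ∀ v, g (θ v * v) = θ (f v) * f v) :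
    ∃ (l : F) (τ : F ≃+* F), ∀ v, f v = l * τ v := by
  classical
  have := Fintype.ofFinite (F ≃+* F)
  obtain ⟨a, ha⟩ := H26.exists_comb f
  obtain ⟨b, hb⟩ := H26.exists_comb g
  let D : (F ≃+* F) × (F ≃+* F) → F := fun p =>
    θ (a (θ⁻¹ * p.1)) * a p.2 - if p.1 = p.2 * θ then b p.2 else 0
  have hD : ∀ x y, ∑ p, D p * (p.1 x * p.2 y) = θ (f x) * f y - g (θ x * y) := by
    intro x y
    simp only [D, sub_mul, Finset.sum_sub_distrib]
    congr 1
    · rw [ha x, ha y, map_sum, Finset.sum_mul_sum, Fintype.sum_prod_type,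
        ← Equiv.sum_comp (Equiv.mulLeft θ)]
      refine Finset.sum_congr rfl fun σ _ => Finset.sum_congr rfl fun ρ _ => ?_
      simp only [Equiv.coe_mulLeft, inv_mul_cancel_left, map_mul]
      have : (θ * σ) x = θ (σ x) := rfl
      rw [this]; ring
    · rw [hb, Fintype.sum_prod_type_right]
      refine Finset.sum_congr rfl fun ρ _ => ?_
      simp only [ite_mul, zero_mul, Finset.sum_ite_eq', Finset.mem_univ, if_true, map_mul]
      rfl
  have hs : ∀ p : (F ≃+* F) × (F ≃+* F), D p + D p.swap = 0 := by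
    refine H26.comb2_zero (c := fun p => D p + D p.swap) fun x y => ?_
    simp only [add_mul, Finset.sum_add_distrib]
    have e0 : ∑ p : (F ≃+* F) × (F ≃+* F), D p.swap * (p.1 x * p.2 y) = ∑ p, D p * (p.1 y * p.2 x) := by
      rw [← Equiv.sum_comp (Equiv.prodComm _ _)]
      exact Finset.sum_congr rfl fun p _ => by simp [mul_comm]
    rw [hD, e0, hD]
    have e := h (x + y)
    simp only [map_add, add_mul, mul_add, h] at e
    linear_combination -e
  have hd : ∀ α, D (α, α) = 0 := by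
    have e : ∀ x, ∑ α, D (α, α) * (α x * α x) = 0 := fun x => by
      rw [← sum_symm (fun p => D p * (p.1 x * p.2 x)) fun α β => by
        have := hs (α, β)
        simp only [Prod.swap] at this ⊢
        linear_combination (α x * β x) * this, hD, h, sub_self]
    intro α
    have := H26.comb_zero (c := fun σ => D (σ * (H26.frob F)⁻¹, σ * (H26.frob F)⁻¹)) (fun x => by
      rw [← Equiv.sum_comp (Equiv.mulRight (H26.frob F)), ← e x]
      refine Finset.sum_congr rfl fun σ _ => ?_
      simp only [Equiv.coe_mulRight, mul_inv_cancel_right]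
      congr 1
      change σ (H26.frob F x) = _
      rw [H26.frob_apply, map_mul]) (α * H26.frob F)
    simpa using this
  have hd' : ∀ α, a α ≠ 0 → θ (a (θ⁻¹ * α)) = 0 := fun α hα => by
    have := hd α
    simp only [D, left_eq_mul, hθ, if_false, sub_zero] at this
    exact (mul_eq_zero.1 this).resolve_right hα
  have key : ∀ i j, a i ≠ 0 → a j ≠ 0 → i ≠ j → i = θ ^ 2 * j := by
    intro i j hi hj hij
    by_contra hc
    have := hs (i, θ * j)
    have e1 : ¬ i = θ * j * θ := fun e => hc (by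
      rw [e, mul_assoc, (ringAut_commute j θ).eq, pow_two, mul_assoc])
    have e2 : ¬ θ * j = i * θ := fun e => hij (by
      rw [(ringAut_commute i θ).eq] at e; exact (mul_left_cancel e).symm)
    simp only [D, Prod.swap, e1, e2, if_false, hd' i hi, inv_mul_cancel_left] at this
    simp [hi, hj] at this
  by_cases h0 : ∀ i, a i = 0
  · exact ⟨0, 1, fun v => by simp [ha, h0]⟩
  push Not at h0
  obtain ⟨i, hi⟩ := h0
  refine ⟨a i, i, fun v => ?_⟩
  rw [ha, Finset.sum_eq_single i (fun j _ hj => ?_) (by simp)]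
  by_contra hc
  have hj0 : a j ≠ 0 := fun e => hc (by rw [e, zero_mul])
  have e1 := key i j hi hj0 hj.symm
  have e2 := key j i hj0 hi hj
  have e3 : θ ^ 4 = 1 := by
    rw [e2, ← mul_assoc, ← pow_add] at e1
    exact (mul_eq_right.1 e1.symm)
  rw [h4 e3, one_mul] at e1
  exact hj e1.symm

section Sz

variable {G : Type*} [Group G] {F : Type*} [Field F] [Fintype F] {m : ℕ} (M : H26.SzModel G F m)

theorem sz_qx : ∃ (π : M.Q →* Multiplicative F) (i : Multiplicative F →* M.Q),
    QX π i (fun v => M.σ v * v) := by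
  have := M.charP
  have ex : ∀ x : M.Q, ∃ p : F × F, x.1 = M.u p.1 p.2 := fun x => by
    obtain ⟨a, b, h⟩ := x.2; exact ⟨(a, b), h⟩
  choose c hc using ex
  have hu : ∀ (x : M.Q) a b, x.1 = M.u a b → (c x).1 = a := fun x a b h =>
    (M.u_inj ((hc x).symm.trans h)).1
  refine ⟨MonoidHom.mk' (fun x => .ofAdd (c x).1) fun x y => ?_,
    MonoidHom.mk' (fun b => ⟨M.u 0 b.toAdd, M.u_mem_Q _ _⟩) fun b d => ?_, ?_⟩
  · rw [hu (x * y) _ _ (by rw [coe_mul, hc x, hc y, M.u_mul])]; rfl
  · exact Subtype.ext (M.u_zero_mul _ _).symm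
  · refine ⟨fun v => ⟨⟨M.u v.toAdd 0, M.u_mem_Q _ _⟩, ?_⟩, fun b d e => ?_, ?_, fun w x => ?_,
      fun x => ?_, fun b => M.σ_mul_surj b, fun v => by simp⟩
    · exact congrArg Multiplicative.ofAdd (hu _ _ _ rfl)
    · have e' : M.u 0 b.toAdd = M.u 0 d.toAdd := congrArg Subtype.val e
      exact (M.u_inj e').2
    · ext x
      constructor
      · intro hx
        have : (c x).1 = 0 := hx
        exact ⟨.ofAdd (c x).2, Subtype.ext (by rw [hc x, this]; rfl)⟩
      · rintro ⟨b, rfl⟩
        exact congrArg Multiplicative.ofAdd (hu _ _ _ rfl)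
    · apply Subtype.ext
      rw [coe_mul, coe_mul, hc x]
      exact M.u_zero_comm _ _ _
    · apply Subtype.ext
      rw [coe_mul, hc x, M.u_sq]; rfl

theorem sz_aut {S : Type*} [Group S] [Finite S] (e : S ≃* M.Q) :
    IsElementaryAbelian 2 (pCore 2 (MulAut S)) ∧
      Nat.card (pCore 2 (MulAut S)) = 2 ^ ((2 * m + 1) * (2 * m + 1)) ∧
      Nat.card (MulAut S) = 2 ^ ((2 * m + 1) * (2 * m + 1)) * ((2 * m + 1) * (2 ^ (2 * m + 1) - 1)) := by
  have := M.charP
  obtain ⟨π, i, h⟩ := sz_qx M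
  let θ : F ≃+* F := RingEquiv.ofBijective M.σ M.σ_bij
  have hθ : ∀ x, θ x = M.σ x := fun _ => rfl
  refine aut_main (h.of_equiv e) M.hF (by rw [Nat.card_eq_fintype_card, M.hF]) (fun f g _ hg => ?_)
    fun l τ => ⟨(AddMonoidHom.mulLeft (M.σ l * l)).comp τ.toAddMonoidHom, fun v => ?_⟩
  · refine gold (θ := θ) (fun e => ?_) (fun e => ?_) f g hg
    · obtain ⟨c, hc⟩ := M.exists_σ_ne
      exact hc (by rw [← hθ, e]; rfl)
    · exfalso
      have h4 : ∀ x : F, x ^ 4 = x := fun x => by
        have : (θ ^ 4) x = x := by rw [e]; rfl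
        have e2 : (θ ^ 4) x = M.σ (M.σ (M.σ (M.σ x))) := rfl
        rw [e2, M.hσ, M.hσ] at this
        linear_combination this
      have h5 := (FiniteField.forall_pow_eq_one_iff F 3).1 fun x => Units.ext (by
        have := h4 x
        rw [pow_succ, mul_eq_right₀ x.ne_zero] at this
        simpa using this)
      have := Nat.le_of_dvd (by norm_num) h5
      have := M.eight_le_card
      omega
  · have := RingEquiv.congr_fun (ringAut_commute τ θ).eq v
    change τ (M.σ v) = M.σ (τ v) at this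
    change M.σ l * l * τ (M.σ v * v) = _
    rw [map_mul, map_mul, this]; ring

end Sz

section SU

variable {F : Type*} [Field F] [Fintype F] [CharP F 2] {q : ℕ} (hF : Fintype.card F = q ^ 2)

/-- the fixed field of the conjugation, as an additive group -/
def Fx : AddSubgroup F where
  carrier := {s | H23.conj hF s = s}
  zero_mem' := map_zero _
  add_mem' := fun {a b} ha hb => by
    simp only [Set.mem_ofPred_eq] at ha hb ⊢; rw [map_add, ha, hb]
  neg_mem' := fun {a} ha => by
    simp only [Set.mem_ofPred_eq] at ha ⊢; rw [map_neg, ha]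

theorem mem_Fx {s : F} : s ∈ Fx hF ↔ H23.conj hF s = s := Iff.rfl

theorem card_Fx : Nat.card (Fx hF) = q := H23.card_fixed hF

/-- the norm map -/
def nm (v : F) : Fx hF := ⟨H23.conj hF v * v, by rw [mem_Fx, map_mul, H23.conj_conj, mul_comm]⟩

/-- the projection -/
def piU : H6.UG hF →* Multiplicative F := MonoidHom.mk' (fun x => .ofAdd x.a) fun _ _ => rfl

/-- the centre -/
def iU : Multiplicative (Fx hF) →* H6.UG hF :=
  MonoidHom.mk' (fun w => ⟨0, w.toAdd.1, by
    rw [(mem_Fx hF).1 w.toAdd.2, CharTwo.add_self_eq_zero, mul_zero]⟩) fun a b => by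
    ext <;> simp

theorem su_qx : QX (piU hF) (iU hF) (nm hF) := by
  have hs : ∀ a : F, ∃ u : H6.UG hF, u.a = a := fun a => by
    have := H23.card_trace_eq hF (μ := H23.conj hF a * a) (by
      rw [← H23.conj_apply hF, map_mul, H23.conj_conj, mul_comm])
    have h2 := H23.two_le_of_card_eq_sq hF
    obtain ⟨s, hs⟩ : Nonempty {x : F // x + x ^ q = H23.conj hF a * a} :=
      (Nat.card_pos_iff.1 (by omega)).1
    exact ⟨⟨a, s, hs⟩, rfl⟩
  refine ⟨fun v => ?_, fun a b e => ?_, ?_, fun w x => ?_, fun x => ?_, fun w => ?_, fun v => ?_⟩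
  · obtain ⟨u, hu⟩ := hs v.toAdd
    exact ⟨u, congrArg Multiplicative.ofAdd hu⟩
  · exact Multiplicative.toAdd.injective (Subtype.ext (congrArg H6.UG.s e))
  · ext x
    constructor
    · intro hx
      have h0 : x.a = 0 := hx
      have h1 := x.tr
      rw [h0, mul_zero] at h1
      exact ⟨.ofAdd ⟨x.s, by rw [mem_Fx]; exact (CharTwo.add_eq_zero.1 h1).symm⟩,
        H6.UG.ext h0.symm rfl⟩
    · rintro ⟨w, rfl⟩; rfl
  · ext <;> simp [iU, add_comm]
  · ext
    · simp [iU, CharTwo.add_self_eq_zero]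
    · simp [iU, nm, piU, CharTwo.add_self_eq_zero]
  · obtain ⟨x, hx⟩ := H23.exists_norm_eq hF (μ := w.1) w.2
    exact ⟨x, Subtype.ext (by rw [← hx, pow_succ]; rfl)⟩
  · rw [Subtype.ext_iff]; simp [nm]

theorem exists_omega : ∃ ω : F, ω + H23.conj hF ω = 1 := by
  have := H23.card_trace_eq hF (μ := 1) (one_pow q)
  have h2 := H23.two_le_of_card_eq_sq hF
  obtain ⟨s, hs⟩ : Nonempty {x : F // x + x ^ q = 1} := (Nat.card_pos_iff.1 (by omega)).1
  exact ⟨s, hs⟩

/-- the conjugation as an automorphism -/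
def cjE : F ≃+* F :=
  { H23.conj hF with
    invFun := H23.conj hF, left_inv := H23.conj_conj hF, right_inv := H23.conj_conj hF }

theorem cjE_apply (x : F) : cjE hF x = H23.conj hF x := rfl

theorem su_class (f : F →+ F) (g : Fx hF →+ Fx hF) (hg : ∀ v, g (nm hF v) = nm hF (f v)) :
    ∃ (l : F) (τ : F ≃+* F), ∀ v, f v = l * τ v := by
  obtain ⟨ω, hω⟩ := exists_omega hF
  let p : F →+ Fx hF := AddMonoidHom.mk' (fun x => ⟨ω * x + H23.conj hF (ω * x), by
    rw [mem_Fx, map_add, H23.conj_conj, add_comm]⟩) fun a b => Subtype.ext (by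
      simp only [mul_add, map_add, AddSubgroup.coe_add]; ring)
  have hp : ∀ w : Fx hF, p w = w := fun w => Subtype.ext (by
    change ω * w + H23.conj hF (ω * w) = w
    rw [map_mul, (mem_Fx hF).1 w.2, ← add_mul, hω, one_mul])
  refine gold (θ := cjE hF) (fun e => H23.conj_ne_id hF (RingHom.ext fun x => ?_)) (fun _ => ?_) f
    ((Fx hF).subtype.comp (g.comp p)) fun v => ?_
  · rw [← cjE_apply, e]; rfl
  · ext x; exact H23.conj_conj hF x
  · have := hp (nm hF v)
    change (g (p (nm hF v).1)).1 = _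
    rw [this, hg]; rfl

theorem su_g (l : F) (τ : F ≃+* F) : ∃ g : Fx hF →+ Fx hF, ∀ v, g (nm hF v) = nm hF (l * τ v) := by
  have hc : ∀ v, τ (H23.conj hF v) = H23.conj hF (τ v) := fun v =>
    RingEquiv.congr_fun (ringAut_commute τ (cjE hF)).eq v
  refine ⟨AddMonoidHom.mk' (fun w => ⟨H23.conj hF l * l * τ w, by
    rw [mem_Fx, map_mul, map_mul, H23.conj_conj, ← hc, (mem_Fx hF).1 w.2]; ring⟩) fun a b =>
      Subtype.ext (by simp only [AddSubgroup.coe_add, map_add, mul_add]), fun v => Subtype.ext ?_⟩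
  change H23.conj hF l * l * τ (H23.conj hF v * v) = H23.conj hF (l * τ v) * (l * τ v)
  rw [map_mul, map_mul, hc]; ring

theorem su_aut {n : ℕ} (hq : q = 2 ^ n) {S : Type*} [Group S] [Finite S] (e : S ≃* H6.UG hF) :
    IsElementaryAbelian 2 (pCore 2 (MulAut S)) ∧
      Nat.card (pCore 2 (MulAut S)) = 2 ^ (2 * n * n) ∧
      Nat.card (MulAut S) = 2 ^ (2 * n * n) * (2 * n * (2 ^ (2 * n) - 1)) :=
  aut_main ((su_qx hF).of_equiv e) (by rw [hF, hq, ← pow_mul, mul_comm]) (by rw [card_Fx, hq])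
    (fun f g _ hg => su_class hF f g hg) (su_g hF)

theorem sylow_equiv (hq : Even q) (P : Sylow 2 (SU 3 F q)) : Nonempty (P ≃* H6.UG hF) := by
  have : Fact (Nat.Prime 2) := ⟨Nat.prime_two⟩
  have h2 := H23.two_le_of_card_eq_sq hF
  obtain ⟨p, k, hp, hc, hk, hpk⟩ := H23.exists_pow_of_card_eq_sq hF
  have hp2 : p = 2 := CharP.eq F hc ‹CharP F 2›
  subst hp2
  have hc : Nat.card (SU 3 F q) = q ^ 3 * ((q ^ 2 - 1) * (q ^ 3 + 1)) := by
    refine Nat.eq_of_mul_eq_mul_left (Nat.succ_pos q) ((card_SU hF 3 (by omega)).trans ?_)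
    simp [Finset.prod_range_succ]; ring
  have : Finite (SU 3 F q) := inferInstance
  let e := MonoidHom.ofInjective (H6.UG.toSU_injective (hF := hF))
  have hcr : Nat.card (H6.UG.toSU (hF := hF)).range = q ^ 3 := by
    rw [← Nat.card_congr e.toEquiv, H6.UG.card]
  have hi : (H6.UG.toSU (hF := hF)).range.index = (q ^ 2 - 1) * (q ^ 3 + 1) := by
    have := (H6.UG.toSU (hF := hF)).range.card_mul_index
    rw [hcr, hc] at this
    exact Nat.eq_of_mul_eq_mul_left (by positivity) this
  have hodd : ¬ 2 ∣ (H6.UG.toSU (hF := hF)).range.index := by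
    rw [hi, ← even_iff_two_dvd, Nat.not_even_iff_odd]
    exact (Nat.Even.sub_odd (Nat.one_le_pow _ _ (by omega)) (hq.pow_of_ne_zero two_ne_zero)
      odd_one).mul ((hq.pow_of_ne_zero three_ne_zero).add_one)
  let T : Sylow 2 (SU 3 F q) := (IsPGroup.of_card (p := 2) (n := k * 3) (by
    rw [hcr, hpk, ← pow_mul])).toSylow hodd
  exact ⟨(Sylow.equiv P T).trans e.symm⟩

end SU

end H22.QA
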