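import Cfsg.Agent.H22.LsE

/-!
Orbits of quadratic forms of rank at least two in odd characteristic are large.
-/

set_option autoImplicit false

namespace H22.Ls

open Module H23 QuadraticMap

variable {F E : Type*} [Field F] [AddCommGroup E] [Module F E] [Fintype F] [FiniteDimensional F E]

theorem ncard_fiber_le' {φ : Dual F E} (h0 : φ ≠ 0) (c : F) :
    {v | φ v = c}.ncard ≤ Fintype.card F ^ (finrank F E - 1) := by
  have := finite_of_fd F E
  by_cases h : ∃ v0, φ v0 = c
  · obtain ⟨v0, h0'⟩ := h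
    have h1 := Module.Dual.finrank_ker_add_one_of_ne_zero (f := φ) h0
    rw [← h1, Nat.add_sub_cancel, ← ncard_submodule]
    exact Set.ncard_le_ncard_of_injOn (fun v => v - v0)
      (fun v hv => by simp [show φ v = c from hv, h0']) fun _ _ _ _ h => sub_left_injective h
  · rw [ncard_zero_of h]
    simp

omit [Fintype F] [FiniteDimensional F E] in
theorem indep_of_disc {Q : QuadraticForm F E} {u v : E}
    (hd : polar Q u v ^ 2 ≠ 4 * Q u * Q v) : u ≠ 0 ∧ v ∉ F ∙ u := by
  refine ⟨by rintro rfl; simp at hd, fun h => hd ?_⟩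
  obtain ⟨t, rfl⟩ := Submodule.mem_span_singleton.1 h
  rw [polar_smul_right, polar_self, Q.map_smul]
  simp only [smul_eq_mul, nsmul_eq_mul]
  push_cast
  ring

theorem ncard_lin_le {a b : F} (ha : a ≠ 0) : {t : F | a * t = b}.ncard ≤ 1 :=
  (Set.ncard_le_one_iff (Set.toFinite _)).2 fun h h' =>
    mul_left_cancel₀ ha ((show a * _ = b from h).trans (show a * _ = b from h').symm)

theorem abs_gen {S : Set (QuadraticForm F E)} (hS : S.Finite)
    (hC : ∀ Q ∈ S, ∀ k : E ≃ₗ[F] E, Q.comp k.toLinearMap ∈ S) {Q0 : QuadraticForm F E}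
    (h0 : Q0 ∈ S) {u0 v0 : E} (hd : polar Q0 u0 v0 ^ 2 ≠ 4 * Q0 u0 * Q0 v0)
    (hr : ∀ Q ∈ S, {p : E × E | Q p.1 = Q0 u0 ∧ polar Q p.1 p.2 = polar Q0 u0 v0 ∧
      Q p.2 = Q0 v0}.ncard ≤ 2 * (Fintype.card F + 1) *
        (Fintype.card F ^ (finrank F E - 2) * Fintype.card F ^ (finrank F E - 2))) :
    (Fintype.card F ^ finrank F E - 1) * (Fintype.card F ^ finrank F E - Fintype.card F) ≤
      2 * (Fintype.card F + 1) * S.ncard := by
  have := finite_of_fd F E
  have := finite_of_fd F (Dual F E)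
  have hq : 0 < Fintype.card F := Fintype.card_pos
  obtain ⟨hu0, hv0⟩ := indep_of_disc hd
  have h := ncard_le_mul_of_cover (Set.toFinite {p : E × E | p.1 ≠ 0 ∧ p.2 ∉ F ∙ p.1}) hS.toFinset
    (fun Q p => Q p.1 = Q0 u0 ∧ polar Q p.1 p.2 = polar Q0 u0 v0 ∧ Q p.2 = Q0 v0)
    (Fintype.card F ^ (finrank F E - 2) * Fintype.card F ^ (finrank F E - 2)) _ (by
      rintro ⟨x, y⟩ ⟨hx, hy⟩
      obtain ⟨k, hk⟩ := exists_equiv_map_family (linearIndependent_pair_of_notMem hx hy)
        (linearIndependent_pair_of_notMem hu0 hv0)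
      have hk0 : k x = u0 := hk 0
      have hk1 : k y = v0 := hk 1
      have key : ∀ φ φ' : Dual F E, (φ x = 0 ∧ φ y = 0) → (φ' x = 0 ∧ φ' y = 0) → ∀ z,
          (k * LC.t x φ * LC.t y φ') z = k z + φ z • u0 + φ' z • v0 := by
        intro φ φ' h h' z
        simp only [LinearEquiv.mul_apply, LC.t_apply h.1, LC.t_apply h'.2, map_add, map_smul, h.2,
          hk0, hk1, add_zero, zero_smul]
      rw [← ncard_ann_two hx hy, ← Set.ncard_prod]
      refine Set.ncard_le_ncard_of_injOn
        (fun p => Q0.comp (k * LC.t x p.1 * LC.t y p.2).toLinearMap) ?_ ?_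
        (hS.subset fun _ h => by simpa using h.1)
      · rintro ⟨φ, φ'⟩ ⟨h, h'⟩
        refine ⟨hS.mem_toFinset.2 (hC _ h0 _), ?_⟩
        simp only [polar, comp_apply, LinearEquiv.coe_coe, map_add, key φ φ' h h', h.1, h.2, h'.1,
          h'.2, hk0, hk1, zero_smul, add_zero, and_self]
      · rintro ⟨φ, φ'⟩ ⟨h, h'⟩ ⟨χ, χ'⟩ ⟨g, g'⟩ e
        have e1 : ∀ z w, polar Q0 ((k * LC.t x φ * LC.t y φ') z) ((k * LC.t x φ * LC.t y φ') w) =
            polar Q0 ((k * LC.t x χ * LC.t y χ') z) ((k * LC.t x χ * LC.t y χ') w) := by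
          intro z w
          have e2 := fun z => DFunLike.congr_fun e z
          simp only [comp_apply, LinearEquiv.coe_coe] at e2
          simp only [polar, ← map_add, e2]
        have e3 : ∀ z, φ z = χ z ∧ φ' z = χ' z := by
          intro z
          have a1 := e1 z y
          have a2 := e1 z x
          simp only [key φ φ' h h', key χ χ' g g', h.1, h'.1, g.1, g'.1, h.2, h'.2, g.2, g'.2, hk0,
            hk1, zero_smul, add_zero, polar_add_left, polar_smul_left, polar_self, smul_eq_mul,
            nsmul_eq_mul, polar_comm Q0 v0 u0, Nat.cast_ofNat] at a1 a2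
          constructor
          · refine sub_eq_zero.1 (mul_left_cancel₀ (sub_ne_zero.2 hd) ?_)
            linear_combination polar Q0 u0 v0 * a1 - 2 * Q0 v0 * a2
          · refine sub_eq_zero.1 (mul_left_cancel₀ (sub_ne_zero.2 hd) ?_)
            linear_combination polar Q0 u0 v0 * a2 - 2 * Q0 u0 * a1
        exact Prod.ext (LinearMap.ext fun z => (e3 z).1) (LinearMap.ext fun z => (e3 z).2))
    (fun Q hQ => le_trans (Set.ncard_le_ncard (fun p hp => hp.2) (Set.toFinite _))
      (hr Q (hS.mem_toFinset.1 hQ)))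
  rw [ncard_pairs, ← Set.ncard_eq_toFinset_card S hS] at h
  refine Nat.le_of_mul_le_mul_left (h.trans (le_of_eq ?_)) (mul_pos (pow_pos hq _) (pow_pos hq _))
  ring

omit [Fintype F] [FiniteDimensional F E] in
theorem Q_line (Q : QuadraticForm F E) (y d : E) (t : F) :
    Q (y + t • d) = Q d * t ^ 2 + polar Q y d * t + Q y := by
  rw [QuadraticMap.map_add Q, polar_smul_right, Q.map_smul]
  simp only [smul_eq_mul]
  ring

theorem le_of_q_mul {a r m : ℕ} (hm : 1 ≤ m) (h : Fintype.card F * a ≤ Fintype.card F ^ m * r) :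
    a ≤ Fintype.card F ^ (m - 1) * r := by
  rw [pow_eq_mul_pred (m := m) (by omega), mul_assoc] at h
  exact Nat.le_of_mul_le_mul_left h Fintype.card_pos

theorem ncard_Q_odd (h2 : (2 : F) ≠ 0) {Q : QuadraticForm F E}
    (hQ : ∀ e f, Q e = 0 → polar Q e f = 0) {u d : E} (ha : Q u ≠ 0) (hd : Q d ≠ 0)
    (hud : polar Q u d = 0) (hE : 2 ≤ finrank F E) :
    {x | Q x = Q u}.ncard ≤ (Fintype.card F + 1) * Fintype.card F ^ (finrank F E - 2) := by
  have := finite_of_fd F E
  have hφ : polarBilin Q u ≠ 0 := fun e => by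
    have := LinearMap.congr_fun e u
    simp [polar_self, ha, h2] at this
  have key : ∀ x, Q x = Q u → Q (x - u) + polar Q u (x - u) = 0 := fun x hx => by
    have := QuadraticMap.map_add Q u (x - u)
    rw [add_sub_cancel, hx] at this
    linear_combination -this
  have h1 : {x | Q x = Q u ∧ polar Q u (x - u) ≠ 0}.ncard ≤ Fintype.card F ^ (finrank F E - 1) := by
    refine le_trans (Set.ncard_le_ncard_of_injOn (fun x => (polar Q u (x - u))⁻¹ • (x - u))
      (fun x hx => ?_) ?_) (ncard_fiber_le' hφ 1)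
    · change polar Q u _ = 1
      rw [polar_smul_right, smul_eq_mul, inv_mul_cancel₀ hx.2]
    · intro x hx y hy e
      have e1 := congrArg Q e
      simp only [Q.map_smul, smul_eq_mul, eq_neg_of_add_eq_zero_left (key x hx.1),
        eq_neg_of_add_eq_zero_left (key y hy.1)] at e1
      have e2 : (polar Q u (x - u))⁻¹ = (polar Q u (y - u))⁻¹ := by
        have := hx.2
        have := hy.2
        field_simp at e1 ⊢
        linear_combination -e1
      simp only [e2] at e
      exact sub_left_injective (smul_right_injective E (inv_ne_zero hy.2) e)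
  have h3 : {x | Q x = Q u ∧ polar Q u (x - u) = 0}.ncard ≤ Fintype.card F ^ (finrank F E - 2) := by
    have h4 := ncard_lines (F := F) (Y := {y | polarBilin Q u y = 0})
      (Z := {y | polar Q u y = 0 ∧ polar Q y d = 0}) (v := d) (r := 1)
      (by rintro rfl; simp at hd) (fun z hz t => by
        simp [polar_add_right, polar_smul_right, hz.1, hud])
      (fun y _ => le_trans (Set.ncard_le_ncard fun t ht => by
        have h5 := ht.2
        rw [polar_add_left, polar_smul_left, polar_self] at h5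
        simp only [smul_eq_mul, nsmul_eq_mul, Nat.cast_ofNat] at h5
        change _ = _
        linear_combination h5) (ncard_lin_le (b := -polar Q y d) (mul_ne_zero h2 hd)))
    have h5 := le_of_q_mul (by omega) (h4.trans (Nat.mul_le_mul_right _ (ncard_fiber_le' hφ 0)))
    rw [mul_one] at h5
    refine le_trans (Set.ncard_le_ncard_of_injOn
      (t := {y | polar Q u y = 0 ∧ polar Q y d = 0}) (fun x => x - u)
      (fun x hx => ⟨hx.2, hQ _ _ ?_⟩) fun _ _ _ _ h => sub_left_injective h) h5
    have := key x hx.1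
    rwa [hx.2, add_zero] at this
  refine le_trans (Set.ncard_le_ncard (t := _ ∪ _) fun x hx => ?_)
    ((Set.ncard_union_le _ _).trans ((Nat.add_le_add h1 h3).trans (le_of_eq ?_)))
  · by_cases h : polar Q u (x - u) = 0
    · exact Or.inr ⟨hx, h⟩
    · exact Or.inl ⟨hx, h⟩
  · rw [pow_eq_mul_pred (m := finrank F E - 1) (by omega), add_mul, one_mul]
    rfl

theorem abs_odd (h2 : (2 : F) ≠ 0) {S : Set (QuadraticForm F E)} (hS : S.Finite)
    (hC : ∀ Q ∈ S, ∀ k : E ≃ₗ[F] E, Q.comp k.toLinearMap ∈ S) {Q0 : QuadraticForm F E}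
    (h0 : Q0 ∈ S) {u v : E} (hd : polar Q0 u v ^ 2 ≠ 4 * Q0 u * Q0 v) :
    (Fintype.card F ^ finrank F E - 1) * (Fintype.card F ^ finrank F E - Fintype.card F) ≤
      2 * (Fintype.card F + 1) * S.ncard := by
  have := finite_of_fd F E
  have hE : 2 ≤ finrank F E :=
    LC.finrank_span_two (indep_of_disc hd).1 (indep_of_disc hd).2 ▸ Submodule.finrank_le _
  by_cases hc : ∃ e f, Q0 e = 0 ∧ polar Q0 e f ≠ 0
  · obtain ⟨e, f, he, hf⟩ := hc
    refine abs_gen hS hC h0 (u0 := e) (v0 := f) (by simp [he, hf]) fun Q _ => ?_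
    rw [he]
    by_cases hex : ∃ p : E × E, Q p.1 = 0 ∧ polar Q p.1 p.2 = polar Q0 e f ∧ Q p.2 = Q0 f
    swap
    · rw [ncard_zero_of hex]
      simp
    obtain ⟨d, hd⟩ : ∃ d, Q d ≠ 0 := by
      by_contra! h
      obtain ⟨p, -, hp, -⟩ := hex
      exact hf (by rw [← hp, polar, h, h, h]; simp)
    have h1 := ncard_lines (F := F) (Y := Set.univ) (Z := {y | Q y = 0}) (v := d) (r := 2)
      (by rintro rfl; simp at hd) (fun _ _ _ => trivial) fun y _ => by
        simpa only [Set.mem_ofPred_eq, Q_line] using ncard_quad_le hd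
    rw [Set.ncard_univ, LC.card_V (F := F)] at h1
    refine le_trans (ncard_le_mul_fst (P := {y | Q y = 0})
      (r := Fintype.card F ^ (finrank F E - 1 - 1) * 1) (fun p hp => hp.1) fun x hx => ?_)
      ((Nat.mul_le_mul_right _ (le_of_q_mul (by omega) h1)).trans ?_)
    · have hx' : Q x = 0 := hx
      by_cases hx0 : x = 0
      · rw [ncard_zero_of]
        · simp
        · rintro ⟨y, -, hy, -⟩
          exact hf (by rw [← hy, hx0]; simp)
      have h3 := ncard_lines (F := F) (Y := {y | polarBilin Q x y = polar Q0 e f})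
        (Z := {y | polar Q x y = polar Q0 e f ∧ Q y = Q0 f}) (v := x) (r := 1) hx0
        (fun z hz t => by simpa [polar_add_right, polar_smul_right, polar_self, hx'] using hz.1)
        fun y hy => le_trans (Set.ncard_le_ncard fun t ht => by
          have h5 := ht.2
          have h6 : polar Q x y = _ := hy
          rw [Q_line, hx', polar_comm, h6] at h5
          change _ = _
          linear_combination h5) (ncard_lin_le (b := Q0 f - Q y) hf)
      refine le_trans (Set.ncard_le_ncard ?_ (Set.toFinite _))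
        (le_of_q_mul (by omega) (h3.trans (Nat.mul_le_mul_right _ (ncard_fiber_le hf))))
      exact fun y hy => hy.2
    · rw [pow_eq_mul_pred (m := finrank F E - 1) (by omega), Nat.sub_sub]
      nlinarith [Nat.zero_le (Fintype.card F ^ (finrank F E - 2) * Fintype.card F ^ (finrank F E - 2))]
  · push Not at hc
    have ha : Q0 u ≠ 0 := fun e => hd (by simp [e, hc u v e])
    refine le_trans (abs_gen (S := {Q ∈ S | ∀ e f, Q e = 0 → polar Q e f = 0})
      (hS.subset fun _ h => h.1) (fun Q hQ k => ⟨hC Q hQ.1 k, fun e f h => ?_⟩) ⟨h0, hc⟩ hd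
      fun Q hQ => ?_) (Nat.mul_le_mul_left _ (Set.ncard_le_ncard (fun _ h => h.1) hS))
    · have := hQ.2 (k e) (k f) h
      simpa only [polar, comp_apply, LinearEquiv.coe_coe, map_add] using this
    have key : ∀ x y, Q x = Q0 u → polar Q x y = polar Q0 u v → Q y = Q0 v →
        ∃ d, Q d ≠ 0 ∧ polar Q x d = 0 := by
      intro x y h1 h3 h4
      refine ⟨(2 * Q0 u) • y + (-polar Q0 u v) • x, fun e => ?_, ?_⟩
      · rw [Q_line, polar_smul_left, Q.map_smul, polar_comm Q y, h1, h3, h4] at e
        simp only [smul_eq_mul] at e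
        exact hd (mul_left_cancel₀ ha (by linear_combination -e))
      · rw [polar_add_right, polar_smul_right, polar_smul_right, polar_self, h1, h3]
        simp only [smul_eq_mul, nsmul_eq_mul, Nat.cast_ofNat]
        ring
    by_cases hex : ∃ p : E × E, Q p.1 = Q0 u ∧ polar Q p.1 p.2 = polar Q0 u v ∧ Q p.2 = Q0 v
    swap
    · rw [ncard_zero_of hex]
      simp
    obtain ⟨p, p1, p2, p3⟩ := hex
    obtain ⟨d, d1, d2⟩ := key _ _ p1 p2 p3
    have h1 := ncard_Q_odd h2 hQ.2 (p1 ▸ ha) d1 d2 hE
    rw [p1] at h1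
    refine le_trans (ncard_le_mul_fst (P := {y | Q y = Q0 u})
      (r := Fintype.card F ^ (finrank F E - 1 - 1) * 2) (fun p hp => hp.1) fun x hx => ?_)
      ((Nat.mul_le_mul_right _ h1).trans (le_of_eq (by rw [Nat.sub_sub]; ring)))
    have hx' : Q x = Q0 u := hx
    by_cases hey : ∃ y, polar Q x y = polar Q0 u v ∧ Q y = Q0 v
    swap
    · rw [ncard_zero_of]
      · simp
      · exact fun ⟨y, hy⟩ => hey ⟨y, hy.2⟩
    obtain ⟨y, y1, y2⟩ := hey
    obtain ⟨d, d1, d2⟩ := key _ _ hx' y1 y2
    have hφ : polarBilin Q x ≠ 0 := fun e => by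
      have := LinearMap.congr_fun e x
      simp [polar_self, hx', ha, h2] at this
    have h3 := ncard_lines (F := F) (Y := {y | polarBilin Q x y = polar Q0 u v})
      (Z := {y | polar Q x y = polar Q0 u v ∧ Q y = Q0 v}) (v := d) (r := 2)
      (by rintro rfl; simp at d1)
      (fun z hz t => by simpa [polar_add_right, polar_smul_right, d2] using hz.1)
      fun y _ => le_trans (Set.ncard_le_ncard fun t ht => by
        have h5 := ht.2
        rw [Q_line] at h5
        change _ = _
        linear_combination h5) (ncard_quad_le (b := polar Q y d) (c := Q y - Q0 v) d1)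
    refine le_trans (Set.ncard_le_ncard ?_ (Set.toFinite _))
      (le_of_q_mul (by omega) (h3.trans (Nat.mul_le_mul_right _ (ncard_fiber_le' hφ _))))
    exact fun y hy => hy.2

end H22.Ls
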