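import Cfsg.Agent.H22.WeA

/-!
Representations of symplectic groups: eigenspaces of the long root subgroups.
-/

set_option autoImplicit false
set_option linter.unusedSectionVars false

namespace H22.We

open Module H23 H23.Form H22.Ls

theorem iSup_wt {G W : Type*} [Group G] [AddCommGroup W] [Module ℂ W] (ρ : Representation ℂ G W)
    [FiniteDimensional ℂ W] (A : Subgroup G) [Finite A]
    (hA : ∀ a ∈ A, ∀ b ∈ A, a * b = b * a) : ⨆ χ, wt ρ A χ = ⊤ := by
  classical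
  have : NeZero (Nat.card A : ℂ) := ⟨Nat.cast_ne_zero.2 Nat.card_pos.ne'⟩
  let σ : Representation ℂ A W := ρ.comp A.subtype
  let U : Subrepresentation σ := ⟨⨆ χ, wt ρ A χ, fun g w hw => by
    refine Submodule.iSup_induction _ (motive := fun w => σ g w ∈ ⨆ χ, wt ρ A χ) hw
      (fun χ w hw => Submodule.mem_iSup_of_mem χ (mem_wt_of_comm hw fun a ha => hA a ha g g.2))
      (by simp) fun x y hx hy => by rw [map_add]; exact add_mem hx hy⟩
  obtain ⟨T, hT⟩ := exists_isCompl U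
  have hc := H17.subrep_isCompl hT
  by_contra h
  have : Nontrivial T.toSubmodule := by
    rw [Submodule.nontrivial_iff_ne_bot]
    intro e
    have := hc.sup_eq_top
    rw [e, sup_bot_eq] at this
    exact h this
  obtain ⟨S, hS⟩ := H17.exists_irreducible_subrep T.toRepresentation
  have hc' : ∀ b : A, ∃ c : ℂ, S.toRepresentation b = c • LinearMap.id := fun b =>
    H17.schur_scalar _ _ fun g => by
      rw [← Module.End.mul_eq_comp, ← Module.End.mul_eq_comp, ← map_mul, ← map_mul]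
      congr 1
      exact Subtype.ext (hA _ b.2 _ g.2)
  choose c hc' using hc'
  have := H17.nontrivial_of_isIrreducible S.toRepresentation
  obtain ⟨w, hw⟩ := exists_ne (0 : S.toSubmodule)
  have hw1 : ∀ b : A, ρ b (w.1.1 : W) = c b • (w.1.1 : W) := fun b =>
    congrArg (fun z : S.toSubmodule => (z.1.1 : W)) (LinearMap.congr_fun (hc' b) w)
  refine hw (Subtype.ext (Subtype.ext (Submodule.disjoint_def.1 hc.disjoint _
    (Submodule.mem_iSup_of_mem (fun g => if hg : g ∈ A then c ⟨g, hg⟩ else 0) fun g hg => ?_)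
    w.1.2)))
  simp only [dif_pos (show g ∈ A from hg)]
  exact hw1 ⟨g, hg⟩

/-- a symplectic space -/
structure SC (F V : Type*) [Field F] [AddCommGroup V] [Module F V] where
  Φ : Form (RingHom.id F) V
  hΦ : Φ.Nondeg
  hε : Φ.ε = -1
  hκ : Φ.κ = 0

namespace SC

variable {F V : Type*} [Field F] [AddCommGroup V] [Module F V] [FiniteDimensional F V] (C : SC F V)

noncomputable def T (v : V) (c : F) : C.Φ.O := spTv C.hΦ C.hε C.hκ v c
noncomputable def h (u v : V) : C.Φ.O := spS C.hΦ C.hε C.hκ u v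

theorem T_apply (v : V) (c : F) (x : V) : (C.T v c).1 x = x + (c * C.Φ.B v x) • v :=
  spTv_apply _ _ _ _ _ _

theorem T_add (v : V) (c d : F) : C.T v (c + d) = C.T v c * C.T v d := spTv_add _ _ _ _ _ _

theorem T_smul (v : V) (a c : F) : C.T (a • v) c = C.T v (a ^ 2 * c) := spTv_smul _ _ _ _ _ _

theorem T_conj (v : V) (c : F) (g : C.Φ.O) : g * C.T v c * g⁻¹ = C.T (g.1 v) c :=
  conj_spTv _ _ _ _ _ _

theorem closure_T : Subgroup.closure {g | ∃ v c, g = C.T v c} = ⊤ := closure_spTv _ _ _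

theorem h_eq (u v : V) : C.h u v = C.T (u + v) 1 * C.T u (-1) * C.T v (-1) := rfl

theorem span_pair_le (u v : V) : finrank F (Submodule.span F {u, v}) ≤ 2 := by
  classical
  refine (finrank_span_le_card (R := F) ({u, v} : Set V)).trans ?_
  simpa using Finset.card_le_two

theorem alt (v : V) : C.Φ.B v v = 0 := (sing_alt C.hε C.hκ v).1

theorem skew (u v : V) : C.Φ.B v u = -C.Φ.B u v := by
  rw [C.Φ.symm, C.hε]; simp

theorem ti {u v : V} (h : C.Φ.B u v = 0) : ∀ x ∈ Submodule.span F {u, v},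
    ∀ y ∈ Submodule.span F {u, v}, C.Φ.B x y = 0 := by
  intro x hx y hy
  obtain ⟨a, b, rfl⟩ := Submodule.mem_span_pair.1 hx
  obtain ⟨c, d, rfl⟩ := Submodule.mem_span_pair.1 hy
  simp [C.alt, h, C.skew u v]

theorem h_apply {c u : V} (h : C.Φ.B c u = 0) (x : V) :
    (C.h c u).1 x = x + C.Φ.B c x • u + C.Φ.B u x • c :=
  spS_apply _ _ _ (C.ti h) (Submodule.subset_span (by simp)) (Submodule.subset_span (by simp)) x

theorem h_mul {c u v : V} (hu : C.Φ.B c u = 0) (hv : C.Φ.B c v = 0) :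
    C.h c u * C.h c v = C.h c (u + v) * C.T c (C.Φ.B u v) := O_ext _ fun x => by
  simp only [O_mul_apply, C.h_apply hu, C.h_apply hv,
    C.h_apply (show C.Φ.B c (u + v) = 0 by simp [hu, hv]), T_apply, map_add, map_smul, hv, C.alt,
    C.skew c u, C.skew c v, hu, smul_eq_mul, LinearMap.add_apply]
  module

theorem T_zero (c : F) : C.T 0 c = 1 := O_ext _ fun x => by simp [T_apply]

theorem T_zero' (v : V) : C.T v 0 = 1 := O_ext _ fun x => by simp [T_apply]

theorem T_inv (v : V) (c : F) : (C.T v c)⁻¹ = C.T v (-c) :=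
  inv_eq_of_mul_eq_one_right (by rw [← T_add, add_neg_cancel, T_zero'])

theorem exists_hyp (h3 : 3 ≤ finrank F V) {u v : V} (h : C.Φ.B u v ≠ 0) :
    ∃ c d, (C.Φ.B c u = 0 ∧ C.Φ.B c v = 0) ∧ (C.Φ.B d u = 0 ∧ C.Φ.B d v = 0) ∧ C.Φ.B c d ≠ 0 := by
  have key : ∀ z, C.Φ.B (C.Φ.B u v • z - C.Φ.B z v • u + C.Φ.B z u • v) u = 0 ∧
      C.Φ.B (C.Φ.B u v • z - C.Φ.B z v • u + C.Φ.B z u • v) v = 0 := fun z => by
    simp only [map_add, map_sub, LinearMap.add_apply, LinearMap.sub_apply, B_smul_left,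
      RingHom.id_apply, C.alt, C.skew u v]
    constructor <;> ring
  obtain ⟨z, hz⟩ : ∃ z, z ∉ Submodule.span F {u, v} := by
    by_contra! hz
    have h1 := span_pair_le (F := F) u v
    rw [Submodule.eq_top_iff'.2 hz, finrank_top] at h1
    omega
  obtain ⟨d, hd⟩ := C.hΦ.exists_ne (x := C.Φ.B u v • z - C.Φ.B z v • u + C.Φ.B z u • v) fun e =>
    hz (Submodule.mem_span_pair.2 ⟨C.Φ.B z v / C.Φ.B u v, -C.Φ.B z u / C.Φ.B u v,
      smul_right_injective V h (by
        simp only [smul_add, smul_smul, mul_div_cancel₀ _ h]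
        linear_combination (norm := module) -e)⟩)
  refine ⟨_, _, key z, key d, ?_⟩
  rw [map_add, map_sub, map_smul, map_smul, map_smul, (key z).1, (key z).2, hd]
  simpa using h

theorem exists_lagr_pair {L : Submodule F V} (hL : ∀ u ∈ L, ∀ v ∈ L, C.Φ.B u v = 0)
    (h2 : 2 ≤ finrank F L) {u v : V} (h : C.Φ.B u v = 0) : ∃ E : Submodule F V,
    (∀ u ∈ E, ∀ v ∈ E, C.Φ.B u v = 0) ∧ finrank F E = finrank F L ∧ u ∈ E ∧ v ∈ E := by
  obtain ⟨f, hf⟩ := (finrank_le_iff_exists_linearMap (R := F) (M := Submodule.span F {u, v})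
    (M' := L)).1 ((span_pair_le u v).trans h2)
  obtain ⟨g, hg, hk⟩ := C.hΦ.witt_maps (L.subtype ∘ₗ f) (Submodule.span F {u, v}).subtype
    (L.subtype_injective.comp hf) (Submodule.subtype_injective _)
    (fun x y => (hL _ (f x).2 _ (f y).2).trans (C.ti h _ x.2 _ y.2).symm)
    fun x => by rw [Q_of_κ C.hκ, Q_of_κ C.hκ]
  refine ⟨L.map g.toLinearMap, ?_, LinearEquiv.finrank_map_eq _ _,
    ⟨_, (f ⟨u, Submodule.subset_span (by simp)⟩).2, hk _⟩,
    ⟨_, (f ⟨v, Submodule.subset_span (by simp)⟩).2, hk _⟩⟩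
  rintro _ ⟨x, hx, rfl⟩ _ ⟨y, hy, rfl⟩
  exact (hg.1 x y).trans (hL x hx y hy)

variable [Fintype F] {W : Type*} [AddCommGroup W] [Module ℂ W] (ρ : Representation ℂ C.Φ.O W)

local notation "ψ" => LC.ψ0 F

/-- eigenspace of a long root subgroup -/
def Ev (v : V) (a : F) : Submodule ℂ W where
  carrier := {w | ∀ c, ρ (C.T v c) w = ψ (a * c) • w}
  zero_mem' := by simp
  add_mem' := by
    intro x y hx hy a
    rw [map_add, hx a, hy a, smul_add]
  smul_mem' := by
    intro c x hx a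
    rw [map_smul, hx a, smul_comm]

/-- projection onto an eigenspace -/
noncomputable def p (v : V) (a : F) : End ℂ W :=
  (Fintype.card F : ℂ)⁻¹ • ∑ c, ψ (-(a * c)) • ρ (C.T v c)

theorem sum_psi (a : F) [Decidable (a = 0)] :
    ∑ c, ψ (a * c) = if a = 0 then (Fintype.card F : ℂ) else 0 := by
  split_ifs with h
  · simp [h]
  · exact sum_char (V := F) LC.hψ0 (φ := a • LinearMap.id) fun e => h (by
      simpa using LinearMap.congr_fun e 1)

variable {C ρ}

theorem p_apply {v : V} {b : F} {w : W} (hw : w ∈ C.Ev ρ v b) (a : F) [Decidable (a = b)] :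
    C.p ρ v a w = if a = b then w else 0 := by
  classical
  have : ∀ c, ψ (-(a * c)) • ρ (C.T v c) w = ψ ((b - a) * c) • w := fun c => by
    rw [hw c, smul_smul, ← AddChar.map_add_eq_mul]
    congr 2
    ring
  simp only [p, LinearMap.smul_apply, LinearMap.sum_apply, this, ← Finset.sum_smul, sum_psi,
    sub_eq_zero, eq_comm (a := b)]
  split_ifs <;> simp [smul_smul]

theorem p_self {v : V} {b : F} {w : W} (hw : w ∈ C.Ev ρ v b) : C.p ρ v b w = w := by
  classical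
  rw [p_apply hw, if_pos rfl]

theorem p_mem (v : V) (a : F) (w : W) : C.p ρ v a w ∈ C.Ev ρ v a := by
  refine Submodule.smul_mem _ _ fun d => ?_
  simp only [LinearMap.sum_apply, map_sum, LinearMap.smul_apply, map_smul, rep_mul, ← T_add,
    Finset.smul_sum, smul_smul, ← AddChar.map_add_eq_mul]
  refine Fintype.sum_equiv (Equiv.addLeft d) _ _ fun c => ?_
  simp only [Equiv.coe_addLeft]
  congr 2
  ring

theorem sum_p (v : V) (w : W) : ∑ a, C.p ρ v a w = w := by
  classical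
  simp only [p, LinearMap.smul_apply, LinearMap.sum_apply, ← Finset.smul_sum]
  rw [Finset.sum_comm]
  have : ∀ c : F, ∑ a, ψ (-(a * c)) = if c = 0 then (Fintype.card F : ℂ) else 0 := fun c => by
    simpa [mul_comm] using sum_psi (-c)
  simp [← Finset.sum_smul, this, T_zero', smul_smul]

theorem ext1 (v : V) {S T : End ℂ W} (h : ∀ a, ∀ w ∈ C.Ev ρ v a, S w = T w) : S = T :=
  LinearMap.ext fun w => by
    rw [← sum_p (C := C) (ρ := ρ) v w, map_sum, map_sum]
    exact Finset.sum_congr rfl fun a _ => h a _ (p_mem v a w)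

theorem Ev_conj {v : V} {a : F} {w : W} (hw : w ∈ C.Ev ρ v a) (g : C.Φ.O) :
    ρ g w ∈ C.Ev ρ (g.1 v) a := fun c => by
  rw [← map_smul, ← hw c, rep_mul, rep_mul, ← T_conj, inv_mul_cancel_right]

theorem Ev_smul {v : V} {a : F} {w : W} (hw : w ∈ C.Ev ρ v a) (r : F) :
    w ∈ C.Ev ρ (r • v) (a * r ^ 2) := fun c => by
  rw [T_smul, hw, mul_assoc]

theorem Ev_zero (w : W) : w ∈ C.Ev ρ 0 0 := fun c => by simp [T_zero]

theorem h_ev {c u : V} {a b d : F} {w : W} (h1 : w ∈ C.Ev ρ c a) (h2 : w ∈ C.Ev ρ u b)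
    (h3 : w ∈ C.Ev ρ (c + u) d) : ρ (C.h c u) w = ψ (d - a - b) • w := by
  rw [h_eq, ← rep_mul, ← rep_mul, h2, map_smul, h1, map_smul, map_smul, h3, smul_smul, smul_smul,
    ← AddChar.map_add_eq_mul, ← AddChar.map_add_eq_mul]
  congr 2
  ring

variable (C ρ) in
/-- functional calculus -/
noncomputable def fc (v : V) (f : F → ℂ) : End ℂ W := ∑ a, f a • C.p ρ v a

theorem fc_apply {v : V} {b : F} {w : W} (hw : w ∈ C.Ev ρ v b) (f : F → ℂ) :
    C.fc ρ v f w = f b • w := by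
  classical
  simp [fc, LinearMap.sum_apply, p_apply hw]

theorem fc_conj (v : V) (f : F → ℂ) (g : C.Φ.O) : ρ g * C.fc ρ v f = C.fc ρ (g.1 v) f * ρ g :=
  ext1 v fun a w hw => by
    rw [End.mul_apply, End.mul_apply, fc_apply hw, fc_apply (Ev_conj hw g), map_smul]

theorem p_conj (v : V) (a : F) (g : C.Φ.O) : ρ g * C.p ρ v a = C.p ρ (g.1 v) a * ρ g := by
  classical
  exact ext1 v fun a w hw => by
    rw [End.mul_apply, End.mul_apply, p_apply hw, p_apply (Ev_conj hw g)]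
    split_ifs <;> simp

theorem mem_Ev_of_comm {c : V} {X : End ℂ W} (h : ∀ a, ρ (C.T c a) * X = X * ρ (C.T c a)) {a : F}
    {w : W} (hw : w ∈ C.Ev ρ c a) : X w ∈ C.Ev ρ c a := fun d => by
  rw [← End.mul_apply, h, End.mul_apply, hw, map_smul]

theorem fc_mem {c u : V} (h : C.Φ.B c u = 0) (f : F → ℂ) {a : F} {w : W} (hw : w ∈ C.Ev ρ c a) :
    C.fc ρ u f w ∈ C.Ev ρ c a :=
  mem_Ev_of_comm (fun d => by rw [fc_conj, T_apply, h]; simp) hw

theorem p_mem' {c u : V} (h : C.Φ.B c u = 0) (b : F) {a : F} {w : W} (hw : w ∈ C.Ev ρ c a) :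
    C.p ρ u b w ∈ C.Ev ρ c a :=
  mem_Ev_of_comm (fun d => by rw [p_conj, T_apply, h]; simp) hw

variable (C ρ) in
/-- all weights have rank at most one -/
def R1 : Prop := ∀ u v, C.Φ.B u v = 0 → ∀ S T : End ℂ W, (∀ w a β b, w ≠ 0 → β ^ 2 = 4 * a * b →
  (∀ s t : F, w ∈ C.Ev ρ (s • u + t • v) (a * s ^ 2 + β * s * t + b * t ^ 2)) → S w = T w) → S = T

theorem R1_or [FiniteDimensional ℂ W] (h2 : (2 : F) ≠ 0) {L : Submodule F V}
    (hL : ∀ u ∈ L, ∀ v ∈ L, C.Φ.B u v = 0) (hn : 2 ≤ finrank F L) : C.R1 ρ ∨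
    (Fintype.card F ^ finrank F L - 1) * (Fintype.card F ^ finrank F L - Fintype.card F) ≤
      2 * (Fintype.card F + 1) * finrank ℂ W := by
  have := finite_O (Φ := C.Φ)
  refine or_iff_not_imp_right.2 fun hlt u v huv S T H => ?_
  obtain ⟨E, hE, hd, hu, hv⟩ := C.exists_lagr_pair hL hn huv
  refine LinearMap.ext fun w => ?_
  have hw : w ∈ ⨆ χ, wt ρ (AE C.Φ E) χ := by
    rw [iSup_wt ρ _ fun _ ha _ hb => AE_comm ha hb]; trivial
  refine Submodule.iSup_induction _ (motive := fun w => S w = T w) hw (fun χ w hw => ?_) (by simp)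
    fun x y hx hy => by rw [map_add, map_add, hx, hy]
  by_cases h0 : w = 0
  · simp [h0]
  have h1 : wt ρ (AE C.Φ E) χ ≠ ⊥ := (Submodule.ne_bot_iff _).2 ⟨w, hw, h0⟩
  obtain ⟨Q, hQ⟩ := exists_Q C.hΦ C.hε C.hκ hE h1
  refine H w (Q ⟨u, hu⟩) (QuadraticMap.polar Q ⟨u, hu⟩ ⟨v, hv⟩) (Q ⟨v, hv⟩) h0 ?_ fun s t c => ?_
  · by_contra hne
    have := (abs_odd h2 (spW_finite C.hΦ C.hε C.hκ (ρ := ρ) (E := E))
      (fun Q hQ k => comp_mem_spW _ _ _ hE hQ k) ⟨χ, h1, hQ⟩ hne).trans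
      (Nat.mul_le_mul_left _ (ncard_spW _ _ _ hE))
    exact hlt (hd ▸ this)
  · have h3 := hQ (s • ⟨u, hu⟩ + t • ⟨v, hv⟩) c
    rw [Q_line, QuadraticMap.polar_smul_left, Q.map_smul] at h3
    refine (hw _ (spTv_mem _ _ _ hE (add_mem (E.smul_mem s hu) (E.smul_mem t hv)) c)).trans
      (congrArg (· • w) (h3.trans ?_))
    simp only [smul_eq_mul]
    congr 2
    ring

end SC

end H22.We
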